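import Groth.Agent.Coherent.CohBC.PushStructure
import Groth.Agent.Coherent.NormalPoint
import Groth.Agent.Coherent.SecBridge
import Groth.Agent.Coherent.FormalFunctions

/-!
# `f_* O_X = O_Y` near a point with scalar fibre functions
-/

set_option autoImplicit false
set_option backward.isDefEq.respectTransparency false

universe u

open CategoryTheory CategoryTheory.Limits AlgebraicGeometry Opposite TopologicalSpace
open Groth.Agent.Coherent Groth.Agent.PicLib Groth.Agent.Props12 Function

namespace Groth.Agent.Coherent.CohBC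

theorem locallyOfFinitePresentation_of_isLocallyNoetherian {X Y : Scheme.{u}} (f : X ⟶ Y)
    [LocallyOfFiniteType f] [IsLocallyNoetherian Y] : LocallyOfFinitePresentation f :=
  ⟨fun {U} hU {V} hV e => by
    have : IsNoetherianRing Γ(Y, U) := IsLocallyNoetherian.component_noetherian ⟨U, hU⟩
    algebraize [(f.appLE U V e).hom]
    have := f.finiteType_appLE hU hV e
    exact Algebra.FinitePresentation.of_finiteType.1 this⟩

theorem fiberRank_structureModule_eq_one {X Y : Scheme.{u}} (f : X ⟶ Y) (y : Y)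
    (hy : Bijective (algebraMap (Y.residueField y) Γ(f.fiber y, ⊤))) :
    CohIII.fiberRank f (Coh.structureModule X) 0 y = 1 := by
  let K := Y.residueField y
  let φ := baseHom K (f.fiber y)
  let E : Coh.HH (f.fiber y) (Coh.structureModule (f.fiber y)) 0 ≃ₗ[K]
      GA φ (Coh.structureModule (f.fiber y)) :=
    (HHA (A := K) (Coh.structureModule (f.fiber y)) 0).trans (secA φ (Coh.structureModule (f.fiber y)))
  refine (finrank_HH_congr K (PicLoc.pullbackStructureIso (f.fiberι y)) 0).trans (E.finrank_eq.trans ?_)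
  let L : K →ₗ[K] GA φ (Coh.structureModule (f.fiber y)) :=
    LinearMap.toSpanSingleton K _ (show GA φ (Coh.structureModule (f.fiber y)) from (1 : Γ(f.fiber y, ⊤)))
  have hL : Bijective L := by
    refine Bijective.of_comp_iff' bijective_id _ |>.1 ?_
    refine (?_ : Bijective fun a : K => L a)
    have e : (fun a : K => L a) = fun a : K =>
        (show GA φ (Coh.structureModule (f.fiber y)) from algebraMap K Γ(f.fiber y, ⊤) a) :=
      funext fun a => mul_one (φ a)
    rw [e]
    exact hy
  rw [← (LinearEquiv.ofBijective L hL).finrank_eq]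
  exact Module.finrank_self K

/-- `f_* O_X = O_Y` near a point where the fibre has only scalar functions. -/
theorem exists_nhd_isIso_app_of_fibre {X Y : Scheme.{u}} (f : X ⟶ Y) [IsProper f] [Flat f]
    [IsLocallyNoetherian Y] (y : Y)
    (hy : Bijective (algebraMap (Y.residueField y) Γ(f.fiber y, ⊤))) :
    ∃ U : Y.Opens, y ∈ U ∧ ∀ V : Y.Opens, V ≤ U → IsIso (f.app V) := by
  obtain ⟨U, m, hyU, ⟨e⟩, hm⟩ := exists_free_push_of_etale f y
    (RingHom.etale_algebraMap.1 (RingHom.Etale.of_bijective hy))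
  rw [fiberRank_structureModule_eq_one f y hy] at hm
  subst hm
  have : LocallyOfFinitePresentation f := locallyOfFinitePresentation_of_isLocallyNoetherian f
  have hopen : IsOpen (Set.range f) := f.isOpenMap.isOpen_range
  have hyr : y ∈ Set.range f := by
    have : Nontrivial Γ(f.fiber y, ⊤) := hy.1.nontrivial
    obtain ⟨x⟩ : Nonempty (f.fiber y) := by
      by_contra h
      rw [not_nonempty_iff] at h
      exact not_subsingleton Γ(f.fiber y, ⊤) inferInstance
    exact ⟨f.fiberι y x, (f.range_fiberι y).le ⟨x, rfl⟩⟩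
  obtain ⟨W₁, hW, hyW, hWU⟩ := Opens.isBasis_iff_nbhd.mp Y.isBasis_affineOpens
    (show y ∈ U ⊓ (⟨_, hopen⟩ : Y.Opens) from ⟨hyU, hyr⟩)
  let W : Y.Opens := W₁
  replace hW : IsAffineOpen W := hW
  obtain ⟨b⟩ := exists_basis_sections e (W := W) (hWU.trans inf_le_left)
  let g : Γ(X, f ⁻¹ᵁ W) := show Γ(Coh.structureModule X, f ⁻¹ᵁ W) from b 0
  have hexp : ∀ z : Γ(X, f ⁻¹ᵁ W), ∃ r : Γ(Y, W), (f.app W) r * g = z := fun z => by
    refine ⟨b.repr (show Γ((Coh.push f).obj (Coh.structureModule X), W) from z) 0, ?_⟩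
    have h := b.sum_repr (show Γ((Coh.push f).obj (Coh.structureModule X), W) from z)
    rw [Fin.sum_univ_one] at h
    exact h
  have hinj : ∀ r : Γ(Y, W), (f.app W) r * g = 0 → r = 0 := fun r hr => by
    have h : r • b 0 = 0 := hr
    have h' := congrArg (fun v => b.repr v 0) h
    simpa using h'
  obtain ⟨s, hs⟩ := hexp 1
  have hsu : IsUnit s := by
    refine Y.toRingedSpace.isUnit_of_isUnit_germ W s fun z hz => ?_
    obtain ⟨x, rfl⟩ := (hWU hz).2
    have hu : IsUnit (X.presheaf.germ (f ⁻¹ᵁ W) x hz (f.app W s)) :=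
      (IsUnit.of_mul_eq_one _ hs).map _
    have e' := ConcreteCategory.congr_hom (f.germ_stalkMap W x hz) s
    exact (isUnit_map_iff (f.stalkMap x).hom _).1 (by
      refine Eq.subst (motive := IsUnit) ?_ hu
      exact e'.symm)
  have hbij : Bijective (f.app W) := by
    refine ⟨(injective_iff_map_eq_zero (f.app W).hom).2 fun r hr => ?_, fun z => ?_⟩
    · have h0 : (f.app W) (r * s) * g = 0 := by
        rw [map_mul, mul_assoc, hs, mul_one]; exact hr
      exact hsu.mul_left_eq_zero.1 (hinj _ h0)
    · obtain ⟨r, hr⟩ := hexp z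
      obtain ⟨t, ht⟩ := hsu.exists_left_inv
      refine ⟨r * t, ?_⟩
      rw [map_mul, ← hr]
      have : f.app W t = g := by
        have h1 : f.app W t * (f.app W s * g) = f.app W t := by rw [hs, mul_one]
        rw [← h1, ← mul_assoc, ← map_mul, ht, map_one, one_mul]
      rw [this]
  refine ⟨W, hyW, fun V hV => ?_⟩
  have : IsAffine (W : Scheme.{u}) := hW
  have : IsLocallyNoetherian (W : Scheme.{u}) := isLocallyNoetherian_of_isOpenImmersion W.ι
  have htop : Bijective ((f ∣_ W).app ⊤) := by
    rw [morphismRestrict_app]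
    have : IsIso (f.app (W.ι ''ᵁ ⊤)) := by
      rw [W.ι_image_top]; exact (ConcreteCategory.isIso_iff_bijective _).mpr hbij
    exact ConcreteCategory.bijective_of_isIso _
  have h1 := isIso_app_of_bijective_app_top (f ∣_ W) htop (W.ι ⁻¹ᵁ V)
  rw [morphismRestrict_app, isIso_comp_right_iff] at h1
  have e2 : W.ι ''ᵁ W.ι ⁻¹ᵁ V = V := by
    rw [Scheme.Hom.image_preimage_eq_opensRange_inf, Scheme.Opens.opensRange_ι, inf_eq_right.mpr hV]
  have h2 : ∀ O : Y.Opens, O = V → IsIso (f.app O) → IsIso (f.app V) := by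
    rintro O rfl h; exact h
  exact h2 _ e2 h1

end Groth.Agent.Coherent.CohBC
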