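import Groth.Agent.Coherent.InternalHomAdj
import Groth.Agent.Coherent.InternalHomLocal
import Groth.Agent.CAlgH3.LocFreeFactor
import Groth.Agent.DCat.PullTensor
import Groth.Agent.Coherent.FiniteType
import Groth.Agent.RelVALib.UPFunctor
import Groth.Agent.TwistLib.G.Map

/-!
# The internal Hom of finite locally free modules and its inverse images
-/

set_option autoImplicit false
set_option backward.isDefEq.respectTransparency false

universe u

open CategoryTheory CategoryTheory.Limits AlgebraicGeometry Opposite TopologicalSpace Function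
open Groth.Agent.Coherent Groth.Agent.PicLib Groth.Agent.AmpleLib Groth.Agent.CAlgH3.LocFreeFactor

namespace Groth.Agent.Coherent.CohBC

variable {X : Scheme.{u}} {F G : X.Modules} {U : X.Opens} {I J : Type u} [Fintype I] [Fintype J]
  {e : I → Γ(F, U)} {d : J → Γ(G, U)}

/-- Families agreeing on a basis agree. -/
theorem locHom_ext_basis (hF : IsBasisOn F U e) {V : X.Opens} (hV : V ≤ U) (φ ψ : locHom F G V)
    (h : ∀ m, ev φ V le_rfl (resM F hV (e m)) = ev ψ V le_rfl (resM F hV (e m))) : φ = ψ :=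
  locHom_ext fun W hW a => by
    rw [← hF.coef_spec (hW.trans hV) a, ev_sum, ev_sum]
    refine Finset.sum_congr rfl fun m _ => ?_
    rw [ev_smul_arg, ev_smul_arg]
    refine congrArg _ ?_
    rw [← resM_resM F hV hW (e m), ← ev_res φ le_rfl hW, ← ev_res ψ le_rfl hW, h m]

/-- The elementary families. -/
noncomputable def elemHom [DecidableEq I] (hF : IsBasisOn F U e) (d : J → Γ(G, U)) (p : I × J) :
    Γ(internalHom F G, U) :=
  (show locHom F G U from locHomOfBasis hF (Pi.single p.1 (d p.2)))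

theorem ev_sum_elemHom [DecidableEq I] (hF : IsBasisOn F U e) {V : X.Opens} (hV : V ≤ U)
    (c : I × J → Γ(X, V)) (m : I) :
    ev (secHom (∑ p, c p • resM (internalHom F G) hV (elemHom hF d p))) V le_rfl (resM F hV (e m)) =
      ∑ l, c (m, l) • resM G hV (d l) := by
  classical
  let g : Γ(internalHom F G, V) →+ Γ(G, V) :=
    { toFun := fun φ => ev (secHom φ) V le_rfl (resM F hV (e m))
      map_zero' := rfl
      map_add' := fun _ _ => rfl }
  show g _ = _
  rw [map_sum, Fintype.sum_prod_type, Finset.sum_eq_single m]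
  · refine Finset.sum_congr rfl fun l _ => ?_
    show ev (c (m, l) • secHom (resM (internalHom F G) hV (elemHom hF d (m, l)))) V le_rfl _ = _
    rw [ev_smul]
    show X.presheaf.map (homOfLE (le_refl V)).op (c (m, l)) •
      (∑ i, hF.coef hV (resM F hV (e m)) i • resM G hV (Pi.single (M := fun _ => Γ(G, U)) m (d l) i)) = _
    rw [show X.presheaf.map (homOfLE (le_refl V)).op (c (m, l)) = c (m, l) from
      ConcreteCategory.congr_hom (X.presheaf.map_id (op V)) _]
    simp [hF.coef_self, ite_smul]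
  · intro k _ hk
    refine Finset.sum_eq_zero fun l _ => ?_
    show X.presheaf.map (homOfLE (le_refl V)).op (c (k, l)) •
      (∑ i, hF.coef hV (resM F hV (e m)) i • resM G hV (Pi.single (M := fun _ => Γ(G, U)) k (d l) i)) = 0
    simp [hF.coef_self, ite_smul, Pi.single_eq_of_ne (Ne.symm hk)]
  · exact fun h => absurd (Finset.mem_univ m) h

/-- The elementary families form a basis. -/
theorem isBasisOn_elemHom [DecidableEq I] (hF : IsBasisOn F U e) (hG : IsBasisOn G U d) :
    IsBasisOn (internalHom F G) U (elemHom hF d) := by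
  intro V hV
  refine ⟨fun c c' h => ?_, fun φ => ?_⟩
  · funext p
    obtain ⟨m, l⟩ := p
    refine congrFun ((hG hV).1 (a₁ := fun l => c (m, l)) (a₂ := fun l => c' (m, l)) ?_) l
    exact (ev_sum_elemHom hF hV c m).symm.trans
      ((congrArg (fun φ => ev (secHom φ) V le_rfl (resM F hV (e m))) h).trans (ev_sum_elemHom hF hV c' m))
  · refine ⟨fun p => hG.coef hV (ev (secHom φ) V le_rfl (resM F hV (e p.1))) p.2,
      locHom_ext_basis hF hV (secHom _) (secHom φ) fun m => ?_⟩
    exact (ev_sum_elemHom hF hV _ m).trans (hG.coef_spec hV (ev (secHom φ) V le_rfl (resM F hV (e m))))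

theorem exists_basis₂ (hF : FlatMod.IsFinLocFree F) (hG : FlatMod.IsFinLocFree G) (x : X) :
    ∃ (U : X.Opens) (n k : ℕ) (e : ULift.{u} (Fin n) → Γ(F, U)) (d : ULift.{u} (Fin k) → Γ(G, U)),
      x ∈ U ∧ IsAffineOpen U ∧ IsBasisOn F U e ∧ IsBasisOn G U d := by
  obtain ⟨U₁, n, e, hx₁, he⟩ := exists_isBasisOn hF x
  obtain ⟨U₂, k, d, hx₂, hd⟩ := exists_isBasisOn hG x
  obtain ⟨V, hV, hxV, hVU⟩ := Opens.isBasis_iff_nbhd.mp X.isBasis_affineOpens
    (show x ∈ U₁ ⊓ U₂ from ⟨hx₁, hx₂⟩)
  exact ⟨V, n, k, _, _, hxV, hV, IsBasisOn.mono he (hVU.trans inf_le_left),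
    IsBasisOn.mono hd (hVU.trans inf_le_right)⟩

theorem isQCoh_internalHom (hF : FlatMod.IsFinLocFree F) (hG : FlatMod.IsFinLocFree G) :
    Coh.IsQCoh (internalHom F G) := by
  classical
  choose U n k e d hx hU he hd using exists_basis₂ hF hG
  exact isQCoh_of_localizesOn _ U hU (fun x => ⟨x, hx x⟩)
    fun x => localizesOn_of_basis (hU x) (isBasisOn_elemHom (he x) (hd x))

/-- A basis as a basis of the module of sections. -/
noncomputable def moduleBasisOfIsBasisOn {M : X.Modules} {U : X.Opens} {e : I → Γ(M, U)}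
    (hb : IsBasisOn M U e) : Module.Basis I Γ(X, U) Γ(M, U) :=
  Module.Basis.ofEquivFun (LinearEquiv.ofBijective (Fintype.linearCombination Γ(X, U) e) (by
    convert hb (le_refl U) using 1
    funext c
    rw [Fintype.linearCombination_apply]
    simp only [resM_self])).symm

theorem isFinLocFree_of_bases {M : X.Modules} [Coh.IsQCoh M]
    (h : ∀ x : X, ∃ (U : X.Opens) (I : Type u) (_ : Fintype I) (e : I → Γ(M, U)),
      x ∈ U ∧ IsAffineOpen U ∧ IsBasisOn M U e) : FlatMod.IsFinLocFree M := by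
  intro x
  obtain ⟨U, I, _, e, hx, hU, hb⟩ := h x
  obtain ⟨b⟩ := Props12.exists_basis_restrict_top M U
    ((moduleBasisOfIsBasisOn hb).reindex (Fintype.equivFin I))
  have : IsAffine U.toScheme := hU
  exact ⟨U, _, hx, Props12.exists_iso_freeMod_of_basis (M.restrict U.ι) b⟩

theorem isFinLocFree_internalHom (hF : FlatMod.IsFinLocFree F) (hG : FlatMod.IsFinLocFree G) :
    FlatMod.IsFinLocFree (internalHom F G) := by
  classical
  have := isQCoh_internalHom hF hG
  refine isFinLocFree_of_bases fun x => ?_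
  obtain ⟨U, n, k, e, d, hx, hU, he, hd⟩ := exists_basis₂ hF hG x
  exact ⟨U, _, inferInstance, _, hx, hU, isBasisOn_elemHom he hd⟩

theorem isCoh_of_isFinLocFree {M : X.Modules} (hM : FlatMod.IsFinLocFree M) : Coh.IsCoh M := by
  choose U n e hx hU hb using exists_affine_basis hM
  exact isCoh_of_finite_sections_cover M (isQCoh_of_finLocFree hM) U hU (fun x => ⟨x, hx x⟩)
    fun x => Module.Finite.of_basis (moduleBasisOfIsBasisOn (hb x))

theorem isFlatOver_of_isFinLocFree {Y : Scheme.{u}} (f : X ⟶ Y) [Flat f] {M : X.Modules}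
    (hM : FlatMod.IsFinLocFree M) : FlatMod.IsFlatOver f M := fun x => by
  have := isQCoh_of_finLocFree hM
  obtain ⟨U, n, hxU, h⟩ := Props12.exists_nhd_basis_stalk M hM x
  obtain ⟨b⟩ := h x hxU
  let _ := (f.stalkMap x).hom.toAlgebra
  let _ := FlatMod.moduleStalkOver f M x
  have : IsScalarTower (Y.presheaf.stalk (f.base x)) (X.presheaf.stalk x) (M.presheaf.stalk x) :=
    IsScalarTower.of_algebraMap_smul fun _ _ => rfl
  have : Module.Flat (Y.presheaf.stalk (f.base x)) (X.presheaf.stalk x) := Flat.stalkMap f x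
  have : Module.Free (X.presheaf.stalk x) (M.presheaf.stalk x) := .of_basis b
  exact Module.Flat.trans (Y.presheaf.stalk (f.base x)) (X.presheaf.stalk x) (M.presheaf.stalk x)

/-- A morphism as a global family. -/
noncomputable def secOfHom (φ : F ⟶ G) : Γ(internalHom F G, ⊤) :=
  (show locHom F G ⊤ from ⟨fun W _ => (φ.app W).hom,
    fun _ _ r a => Scheme.Modules.Hom.app_smul φ r a,
    fun _ _ _ h a => (app_resM φ h a).symm⟩)

/-- A global family as a morphism. -/
noncomputable def homOfSec (s : Γ(internalHom F G, ⊤)) : F ⟶ G :=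
  ⟨PresheafOfModules.homMk
    { app := fun W => AddCommGrpCat.ofHom ((secHom s).1 W.unop le_top)
      naturality := fun W W' g => ConcreteCategory.hom_ext _ _ fun a => by
        rw [show g = (homOfLE (leOfHom g.unop)).op from Subsingleton.elim _ _]
        exact (ev_res (secHom s) le_top (leOfHom g.unop) a).symm }
    fun W r a => ev_smul_arg (secHom s) W.unop le_top r a⟩

theorem homOfSec_app (s : Γ(internalHom F G, ⊤)) (W : X.Opens) (a : Γ(F, W)) :
    (homOfSec s).app W a = ev (secHom s) W le_top a := rfl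

theorem homOfSec_secOfHom (φ : F ⟶ G) : homOfSec (secOfHom φ) = φ :=
  Scheme.Modules.hom_ext _ _ fun _ => ConcreteCategory.hom_ext _ _ fun _ => rfl

section Pull

variable {Z : Scheme.{u}} (σ : Z ⟶ X) (F G)

/-- The comparison `σ^* Hom(F, G) → Hom(σ^*F, σ^*G)`. -/
noncomputable def pullHom : (Scheme.Modules.pullback σ).obj (internalHom F G) ⟶
    internalHom ((Scheme.Modules.pullback σ).obj F) ((Scheme.Modules.pullback σ).obj G) :=
  tensorHomEquiv _ _ _ ((DCat.PullTensor.pullTensorIso σ F (internalHom F G)).inv ≫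
    (Scheme.Modules.pullback σ).map (evalBilin F G).desc)

theorem ev_pullHom {V : X.Opens} (h : Γ(internalHom F G, V)) (x : Γ(F, V)) :
    ev (secHom ((pullHom F G σ).app (σ ⁻¹ᵁ V) (pullSec σ h))) (σ ⁻¹ᵁ V) le_rfl (pullSec σ x) =
      pullSec σ (ev (secHom h) V le_rfl x) := by
  show ((Scheme.Modules.pullback σ).map (evalBilin F G).desc).app (σ ⁻¹ᵁ V)
    ((DCat.PullTensor.pullTensorIso σ F (internalHom F G)).inv.app (σ ⁻¹ᵁ V)
      (tmul (pullSec σ x) (resM _ le_rfl (pullSec σ h)))) = _
  have hinv := ConcreteCategory.congr_hom (congrArg (fun φ => Scheme.Modules.Hom.app φ (σ ⁻¹ᵁ V))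
    (DCat.PullTensor.pullTensorIso σ F (internalHom F G)).hom_inv_id) (pullSec σ (tmul x h))
  have key : (DCat.PullTensor.pullTensorIso σ F (internalHom F G)).inv.app (σ ⁻¹ᵁ V)
      (tmul (pullSec σ x) (pullSec σ h)) = pullSec σ (tmul x h) :=
    (congrArg ((DCat.PullTensor.pullTensorIso σ F (internalHom F G)).inv.app (σ ⁻¹ᵁ V))
      (DCat.PullTensor.pullTensorHom_pullSec σ F (internalHom F G) V x h).symm).trans hinv
  rw [PicLib.resM_self]
  refine (congrArg _ key).trans ?_
  refine (DCat.PullTensor.pullback_map_pullSec σ (evalBilin F G).desc V (tmul x h)).trans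
    (congrArg _ ?_)
  rw [Bilin.desc_tmul]
  rfl

theorem isIso_pullHom (hF : FlatMod.IsFinLocFree F) (hG : FlatMod.IsFinLocFree G) :
    IsIso (pullHom F G σ) := by
  classical
  refine TwistLib.G.isIso_of_bijective_on_basis _ (fun B => ∃ (U : X.Opens) (n k : ℕ)
    (e : ULift.{u} (Fin n) → Γ(F, U)) (d : ULift.{u} (Fin k) → Γ(G, U)),
      B ≤ σ ⁻¹ᵁ U ∧ IsBasisOn F U e ∧ IsBasisOn G U d) (fun V y hy => ?_)
    fun B ⟨U, n, k, e, d, hB, he, hd⟩ => ?_
  · obtain ⟨U, n, k, e, d, hx, -, he, hd⟩ := exists_basis₂ hF hG (σ.base y)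
    exact ⟨V ⊓ σ ⁻¹ᵁ U, ⟨U, n, k, e, d, inf_le_right, he, hd⟩, ⟨hy, hx⟩, inf_le_left⟩
  · have h₁ := (isBasisOn_elemHom he hd).pull σ hB
    have h₂ := isBasisOn_elemHom (he.pull σ) (hd.pull σ) hB
    have hE : ∀ p, (pullHom F G σ).app (σ ⁻¹ᵁ U) (pullSec σ (elemHom he d p)) =
        elemHom (he.pull σ) (fun l => pullSec σ (d l)) p := fun p => by
      refine locHom_ext_basis (he.pull σ) le_rfl (secHom _) (secHom _) fun m => ?_
      rw [PicLib.resM_self]
      refine (ev_pullHom F G σ (elemHom he d p) (e m)).trans ?_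
      show pullSec σ (∑ i, he.coef le_rfl (e m) i •
          resM G le_rfl (Pi.single (M := fun _ => Γ(G, U)) p.1 (d p.2) i)) =
        ∑ i, (he.pull σ).coef le_rfl (pullSec σ (e m)) i •
          resM _ le_rfl (Pi.single (M := fun _ => Γ((Scheme.Modules.pullback σ).obj G, σ ⁻¹ᵁ U)) p.1 (pullSec σ (d p.2)) i)
      have c₁ := he.coef_self (le_refl U) m
      have c₂ := (he.pull σ).coef_self (le_refl (σ ⁻¹ᵁ U)) m
      rw [PicLib.resM_self] at c₁ c₂
      simp only [c₁, c₂, ite_smul, one_smul, zero_smul, Finset.sum_ite_eq', Finset.mem_univ, if_true,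
        PicLib.resM_self]
      by_cases hm : m = p.1
      · subst hm; simp
      · rw [Pi.single_eq_of_ne hm, Pi.single_eq_of_ne hm]
        exact map_zero (((Scheme.Modules.pullbackPushforwardAdjunction σ).unit.app G).app U).hom
    refine ⟨fun z z' hzz => ?_, fun z => ?_⟩
    · obtain ⟨c, rfl⟩ := h₁.2 z
      obtain ⟨c', rfl⟩ := h₁.2 z'
      simp only [map_sum, Scheme.Modules.Hom.app_smul, app_resM, hE] at hzz
      rw [show c = c' from h₂.1 hzz]
    · obtain ⟨c, rfl⟩ := h₂.2 z
      refine ⟨∑ p, c p • resM _ hB (pullSec σ (elemHom he d p)), ?_⟩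
      simp only [map_sum, Scheme.Modules.Hom.app_smul, app_resM, hE]

/-- The inverse image of a morphism, through the comparison. -/
theorem pullback_map_homOfSec (s : Γ(internalHom F G, ⊤)) :
    (Scheme.Modules.pullback σ).map (homOfSec s) =
      homOfSec ((pullHom F G σ).app ⊤ (pullSec σ s)) := by
  refine RelVALib.hom_ext_pullSec σ _ _ fun U _ a => ?_
  rw [DCat.PullTensor.pullback_map_pullSec, homOfSec_app, homOfSec_app]
  refine ((congrArg (pullSec σ) ?_).trans (ev_pullHom F G σ (resM _ le_top s) a).symm).trans ?_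
  · rfl
  · rw [← resM_pullSec σ (le_top : U ≤ ⊤), app_resM]
    rfl

end Pull

end Groth.Agent.Coherent.CohBC
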