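import Groth.Agent.Coherent.CohBC.BaseChange
import Groth.Agent.FlatCxLib.BaseChange

/-!
# Cohomology of the fibres and the finite free complex
-/

set_option autoImplicit false
set_option backward.isDefEq.respectTransparency false

universe u

open CategoryTheory CategoryTheory.Limits AlgebraicGeometry Opposite TopologicalSpace TensorProduct
open HomologicalComplex Function
open Groth.Agent.Coherent Groth.Agent.FlatCxLib

namespace Groth.Agent.Coherent.CohBC

variable {A : Type u} [CommRing A]

/-- `H_p(P ⊗_A B) = H_p(B ⊗_A P)`, as modules over `A`. -/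
noncomputable def bcHomologyIso {ι : Type} {c : ComplexShape ι} {B : Type u} [CommRing B] (φ : A →+* B)
    (P : HomologicalComplex (ModuleCat.{u} A) c) (i : ι) :
    CohIII.T P i ((ModuleCat.restrictScalars φ).obj (ModuleCat.of B B)) ≅
      (ModuleCat.restrictScalars φ).obj ((CohIII.bcCx φ P).homology i) :=
  homologyMapIso ((NatIso.mapHomologicalComplex (tensorExtIso φ) c).app P) i ≪≫
    ((CohIII.bcCx φ P).sc i).mapHomologyIso (ModuleCat.restrictScalars φ)

theorem restrictSelf_smul {B : Type u} [CommRing B] [Algebra A B]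
    (a : A) (x : (ModuleCat.restrictScalars (algebraMap A B)).obj (ModuleCat.of B B)) :
    (a • x : (ModuleCat.restrictScalars (algebraMap A B)).obj (ModuleCat.of B B)) =
      (a • (show B from x) : B) :=
  (Algebra.smul_def a (show B from x)).symm

/-- `B` restricted to `A` is `B`. -/
noncomputable def restrictSelfIso (B : Type u) [CommRing B] [Algebra A B] :
    (ModuleCat.restrictScalars (algebraMap A B)).obj (ModuleCat.of B B) ≅ ModuleCat.of A B :=
  LinearEquiv.toModuleIso (X₁ := (ModuleCat.restrictScalars (algebraMap A B)).obj (ModuleCat.of B B))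
    (X₂ := ModuleCat.of A B)
    { AddEquiv.refl _ with map_smul' := fun a x => restrictSelf_smul a x }

theorem finrank_bc_eq_dRank {K : Type u} [Field K] (φ : A →+* K)
    (P : ChainComplex (ModuleCat.{u} A) ℤ) (p : ℤ) (x : PrimeSpectrum A)
    (hx : RingHom.ker φ = x.asIdeal) :
    Module.finrank K ((CohIII.bcCx φ P).homology p) = CohIII.dRank P p x := by
  let x' : PrimeSpectrum K := ⟨⊥, Ideal.isPrime_bot⟩
  have hc : PrimeSpectrum.comap φ x' = x :=
    PrimeSpectrum.ext ((RingHom.ker_eq_comap_bot φ).symm.trans hx)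
  rw [← hc, ← dRank_bcCx]
  let P' := CohIII.bcCx φ P
  let k := x'.asIdeal.ResidueField
  show Module.finrank K (P'.homology p) =
    Module.finrank k ((CohIII.bcCx (algebraMap K k) P').homology p)
  rw [finrank_bc_homology P' (p + 1) p (p - 1) rfl (by omega),
    finrank_homologyQuot_baseChange _ _ (d_comp_d_hom P' (p + 1) p (p - 1)) k,
    Module.finrank_baseChange]
  exact (homologyQuotEquiv P' (p + 1) p (p - 1) rfl (by omega)).finrank_eq.symm

theorem finite_homology_of_finite {K : Type u} [CommRing K] [IsNoetherianRing K]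
    (P : ChainComplex (ModuleCat.{u} K) ℤ) (hP : ∀ i, Module.Finite K (P.X i)) (p : ℤ) :
    Module.Finite K (P.homology p) := by
  have := hP p
  exact Module.Finite.equiv (homologyQuotEquiv P (p + 1) p (p - 1) rfl (by omega))

noncomputable instance fiberOverOf {X Y : Scheme.{u}} (f : X ⟶ Y) (y : Y) :
    (f.fiber y).Over (Spec (CommRingCat.of (Y.residueField y))) :=
  CohIII.fiberOver f y

/-- The residue field at a point of `Spec A`, as a target of `A`. -/
noncomputable def residueHom (y : ↥(Spec (CommRingCat.of A))) :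
    A →+* (Spec (CommRingCat.of A)).residueField y :=
  (CommRingCat.ofHom (algebraMap A y.asIdeal.ResidueField) ≫
    (Scheme.Spec.residueFieldIso (CommRingCat.of A) y).inv).hom

theorem ker_residueHom (y : ↥(Spec (CommRingCat.of A))) : RingHom.ker (residueHom y) = y.asIdeal := by
  ext a
  rw [RingHom.mem_ker]
  refine Iff.trans ?_ (Ideal.algebraMap_residueField_eq_zero (I := y.asIdeal) (x := a))
  exact map_eq_zero_iff _
    (Scheme.Spec.residueFieldIso (CommRingCat.of A) y).symm.commRingCatIsoToRingEquiv.injective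

namespace PerfData

variable {X : Scheme.{u}} [X.Over (Spec (CommRingCat.of A))] {F : X.Modules} (D : PerfData A X F)

/-- `H^n(X, F) = H_{-n}(P)`. -/
noncomputable def hhHomology (n : ℕ) : Coh.HH X F n ≃ₗ[A] D.P.homology (-(n : ℤ)) :=
  haveI := D.isQCoh
  (hhCech A D.W D.hcov D.hW F n).trans ((unitTIso (cxA A D.W F) n).symm ≪≫
    (D.tIso n).app (ModuleCat.of A A) ≪≫ unitTIso D.P (-(n : ℤ))).toLinearEquiv

variable [IsSeparated (X ↘ Spec (CommRingCat.of A))]
  (hfl : FlatMod.IsFlatOver (X ↘ Spec (CommRingCat.of A)) F) (y : ↥(Spec (CommRingCat.of A)))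
include hfl

omit hfl [IsSeparated (X ↘ Spec (CommRingCat.of A))] in
theorem isPullback_fibre :
    IsPullback ((X ↘ Spec (CommRingCat.of A)).fiberι y)
      (((X ↘ Spec (CommRingCat.of A)).fiber y) ↘
        Spec (CommRingCat.of ((Spec (CommRingCat.of A)).residueField y)))
      (X ↘ Spec (CommRingCat.of A)) (Spec.map (CommRingCat.ofHom (residueHom y))) := by
  have e : Spec.map (CommRingCat.ofHom (residueHom y)) = (Spec (CommRingCat.of A)).fromSpecResidueField y := by
    rw [← Scheme.Spec.map_residueFieldIso_inv_eq_fromSpecResidueField, ← Spec.map_comp]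
    rfl
  rw [e]
  exact IsPullback.of_hasPullback _ _

/-- The finite free complex of a fibre. -/
noncomputable def fibre :
    PerfData ((Spec (CommRingCat.of A)).residueField y) ((X ↘ Spec (CommRingCat.of A)).fiber y)
      (CohIII.fiberMod (X ↘ Spec (CommRingCat.of A)) F y) :=
  haveI := D.isQCoh
  baseChange (residueHom y) ((X ↘ Spec (CommRingCat.of A)).fiberι y) (isPullback_fibre y) D hfl

/-- `H^p` of the fibre is the homology of the base-changed complex. -/
noncomputable def fibreHH (p : ℕ) :
    CohIII.fiberH (X ↘ Spec (CommRingCat.of A)) F y p ≃ₗ[(Spec (CommRingCat.of A)).residueField y]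
      (CohIII.bcCx (residueHom y) D.P).homology (-(p : ℤ)) :=
  (D.fibre hfl y).hhHomology p

include D in
theorem fiberRank_eq (p : ℕ) :
    CohIII.fiberRank (X ↘ Spec (CommRingCat.of A)) F p y = CohIII.dRank D.P (-(p : ℤ)) y :=
  (D.fibreHH hfl y p).finrank_eq.trans (finrank_bc_eq_dRank _ D.P _ y (ker_residueHom y))

include D in
theorem finite_fiberH (p : ℕ) :
    Module.Finite ((Spec (CommRingCat.of A)).residueField y)
      (CohIII.fiberH (X ↘ Spec (CommRingCat.of A)) F y p) := by
  have := finite_homology_of_finite (CohIII.bcCx (residueHom y) D.P)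
    (fun i => (finite_free_bcL (residueHom y) D.P i (D.finite_free_P i)).1) (-(p : ℤ))
  exact Module.Finite.equiv (D.fibreHH hfl y p).symm

include D in
theorem subsingleton_fiberH_iff (p : ℕ) :
    Subsingleton (CohIII.fiberH (X ↘ Spec (CommRingCat.of A)) F y p) ↔
      CohIII.dRank D.P (-(p : ℤ)) y = 0 := by
  have := D.finite_fiberH hfl y p
  rw [← D.fiberRank_eq hfl y p]
  exact (Module.finrank_zero_iff).symm

include D in
theorem isZero_T_residue (p : ℕ)
    (h : Subsingleton (CohIII.fiberH (X ↘ Spec (CommRingCat.of A)) F y p)) :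
    IsZero (CohIII.T D.P (-(p : ℤ)) (ModuleCat.of A y.asIdeal.ResidueField)) := by
  have h1 : Subsingleton ((CohIII.bcCx (algebraMap A y.asIdeal.ResidueField) D.P).homology (-(p : ℤ))) := by
    have := finite_homology_of_finite (CohIII.bcCx (algebraMap A y.asIdeal.ResidueField) D.P)
      (fun i => (finite_free_bcL _ D.P i (D.finite_free_P i)).1) (-(p : ℤ))
    exact Module.finrank_zero_iff.1 ((D.subsingleton_fiberH_iff hfl y p).1 h)
  let e : (ModuleCat.restrictScalars (algebraMap A y.asIdeal.ResidueField)).obj
      (ModuleCat.of y.asIdeal.ResidueField y.asIdeal.ResidueField) ≅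
      ModuleCat.of A y.asIdeal.ResidueField :=
    restrictSelfIso _
  refine IsZero.of_iso ?_ (((CohIII.TFun D.P (-(p : ℤ))).mapIso e).symm ≪≫
    bcHomologyIso (algebraMap A y.asIdeal.ResidueField) D.P _)
  exact Functor.map_isZero _ (@ModuleCat.isZero_of_subsingleton _ _ _ h1)

end PerfData

end Groth.Agent.Coherent.CohBC
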