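import Groth.Agent.Coherent.FlatBaseChangeMain
import Groth.Agent.EulerLib.Additive
import Groth.Agent.Coherent.CohBC.Fibre
import Groth.Agent.Desc19b.FlatOverBC
import Groth.Prelude.Def_PerfAux

/-!
# Fibre cohomology and base change
-/

set_option autoImplicit false
set_option backward.isDefEq.respectTransparency false

universe u

open CategoryTheory CategoryTheory.Limits AlgebraicGeometry TensorProduct
open Groth.Agent.Coherent

namespace Groth.Agent.Coherent.CohBC

theorem finrank_HH_congr (k : Type u) [Field k] {X : Scheme.{u}} [X.Over (Spec (CommRingCat.of k))]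
    {M N : X.Modules} (e : M ≅ N) (q : ℕ) :
    Module.finrank k (Coh.HH X M q) = Module.finrank k (Coh.HH X N q) :=
  ((Groth.Agent.EulerLib.HHBaseEquiv k M q).trans
    ((isoA _ e ⊤ q).trans (Groth.Agent.EulerLib.HHBaseEquiv k N q).symm)).finrank_eq

/-- Flat base change over fields, with the module structures spelled out. -/
theorem finrank_HH_bc (k K : Type u) [Field k] [Field K] (φ : k →+* K) {Z Z' : Scheme.{u}}
    (π : Z ⟶ Spec (CommRingCat.of k)) (π' : Z' ⟶ Spec (CommRingCat.of K)) [CompactSpace Z]
    [QuasiSeparatedSpace Z] (t : Z' ⟶ Z) (hsq : IsPullback t π' π (Spec.map (CommRingCat.ofHom φ)))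
    (M : Z.Modules) [Coh.IsQCoh M] (N : Z'.Modules) (α : (Scheme.Modules.pullback t).obj M ≅ N) (p : ℕ) :
    @Module.finrank K (Coh.HH Z' N p) _ _ (Module.compHom _ (Coh.toGlobal π')) =
      @Module.finrank k (Coh.HH Z M p) _ _ (Module.compHom _ (Coh.toGlobal π)) := by
  let _ : Z.Over (Spec (CommRingCat.of k)) := ⟨π⟩
  let _ : Z'.Over (Spec (CommRingCat.of K)) := ⟨π'⟩
  let _ : Algebra k K := φ.toAlgebra
  obtain ⟨eb⟩ := nonempty_flat_base_change (A := k) (B := K) (g := t) (M := M) hsq p
  exact (finrank_HH_congr K α p).symm.trans (eb.finrank_eq.symm.trans Module.finrank_baseChange)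

variable {X S X' S' : Scheme.{u}} {f : X ⟶ S} {g : S' ⟶ S} {g' : X' ⟶ X} {f' : X' ⟶ S'}
  (h : IsPullback g' f' f g)
include h

/-- The fibres over `y'` and `g y'`. -/
theorem exists_fibre_square [QuasiCompact f] [QuasiSeparated f] (F : X.Modules) [Coh.IsQCoh F]
    (y' : S') :
    ∃ t : f'.fiber y' ⟶ f.fiber (g y'),
      IsPullback t (f'.fiberToSpecResidueField y') (f.fiberToSpecResidueField (g y'))
        (Spec.map (g.residueFieldMap y')) ∧
      CompactSpace ↥(f.fiber (g y')) ∧ QuasiSeparatedSpace ↥(f.fiber (g y')) ∧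
      Coh.IsQCoh (CohIII.fiberMod f F (g y')) ∧
      Nonempty ((Scheme.Modules.pullback t).obj (CohIII.fiberMod f F (g y')) ≅
        CohIII.fiberMod f' ((Scheme.Modules.pullback g').obj F) y') := by
  let φ : S.residueField (g y') ⟶ S'.residueField y' := g.residueFieldMap y'
  have e : f'.fiberι y' ≫ g' ≫ f =
      (f'.fiberToSpecResidueField y' ≫ Spec.map φ) ≫ S.fromSpecResidueField (g y') := by
    rw [h.w, ← Category.assoc, f'.fiber_fac, Category.assoc, Category.assoc,
      Scheme.Hom.SpecMap_residueFieldMap_fromSpecResidueField]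
  let t : f'.fiber y' ⟶ f.fiber (g y') := pullback.lift (f'.fiberι y' ≫ g')
    (f'.fiberToSpecResidueField y' ≫ Spec.map φ) (by rw [Category.assoc]; exact e)
  have htι : t ≫ f.fiberι (g y') = f'.fiberι y' ≫ g' := pullback.lift_fst _ _ _
  have hts : t ≫ f.fiberToSpecResidueField (g y') = f'.fiberToSpecResidueField y' ≫ Spec.map φ :=
    pullback.lift_snd _ _ _
  have houter : IsPullback (t ≫ f.fiberι (g y')) (f'.fiberToSpecResidueField y') f
      (Spec.map φ ≫ S.fromSpecResidueField (g y')) := by
    rw [htι, Scheme.Hom.SpecMap_residueFieldMap_fromSpecResidueField]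
    exact (IsPullback.of_hasPullback f' (S'.fromSpecResidueField y')).paste_horiz h
  have hsq : IsPullback t (f'.fiberToSpecResidueField y') (f.fiberToSpecResidueField (g y')) (Spec.map φ) :=
    IsPullback.of_right houter hts (IsPullback.of_hasPullback f (S.fromSpecResidueField (g y')))
  have : QuasiCompact (f.fiberToSpecResidueField (g y')) :=
    MorphismProperty.pullback_snd (P := @QuasiCompact) _ _ inferInstance
  have : QuasiSeparated (f.fiberToSpecResidueField (g y')) :=
    MorphismProperty.pullback_snd (P := @QuasiSeparated) _ _ inferInstance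
  have : CompactSpace ↥(f.fiber (g y')) :=
    QuasiCompact.compactSpace_of_compactSpace (f.fiberToSpecResidueField (g y'))
  have : QuasiSeparatedSpace ↥(f.fiber (g y')) :=
    (HasAffineProperty.iff_of_isAffine (P := @QuasiSeparated) (f := f.fiberToSpecResidueField (g y'))).mp inferInstance
  have hq : Coh.IsQCoh (CohIII.fiberMod f F (g y')) := EGA43.InjFibre.isQCoh_pullback _ F
  let α : (Scheme.Modules.pullback t).obj (CohIII.fiberMod f F (g y')) ≅
      CohIII.fiberMod f' ((Scheme.Modules.pullback g').obj F) y' :=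
    (Scheme.Modules.pullbackComp t (f.fiberι (g y'))).app F ≪≫
      (Scheme.Modules.pullbackCongr htι).app F ≪≫
      ((Scheme.Modules.pullbackComp (f'.fiberι y') g').app F).symm
  exact ⟨t, hsq, inferInstance, inferInstance, hq, ⟨α⟩⟩

/-- Fibre cohomology only depends on the fibre up to field extensions. -/
theorem fiberRank_pullback [QuasiCompact f] [QuasiSeparated f] (F : X.Modules) [Coh.IsQCoh F]
    (p : ℕ) (y' : S') :
    CohIII.fiberRank f' ((Scheme.Modules.pullback g').obj F) p y' =
      CohIII.fiberRank f F p (g y') := by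
  obtain ⟨t, hsq, _, _, _, ⟨α⟩⟩ := exists_fibre_square h F y'
  exact finrank_HH_bc (S.residueField (g y')) (S'.residueField y') (g.residueFieldMap y').hom
    (f.fiberToSpecResidueField (g y')) (f'.fiberToSpecResidueField y') t hsq
    (CohIII.fiberMod f F (g y')) (CohIII.fiberMod f' ((Scheme.Modules.pullback g').obj F) y') α p

theorem eulerChar_pullback [QuasiCompact f] [QuasiSeparated f] (F : X.Modules) [Coh.IsQCoh F]
    (y' : S') :
    PerfAux.eulerChar f' ((Scheme.Modules.pullback g').obj F) y' = PerfAux.eulerChar f F (g y') := by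
  obtain ⟨t, hsq, _, _, _, ⟨α⟩⟩ := exists_fibre_square h F y'
  refine finsum_congr fun p => congrArg (fun n : ℕ => (-1 : ℤ) ^ p * (n : ℤ)) ?_
  exact finrank_HH_bc (S.residueField (g y')) (S'.residueField y') (g.residueFieldMap y').hom
    (f.fiberToSpecResidueField (g y')) (f'.fiberToSpecResidueField y') t hsq
    (CohIII.fiberMod f F (g y')) (CohIII.fiberMod f' ((Scheme.Modules.pullback g').obj F) y') α p

end Groth.Agent.Coherent.CohBC
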