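import Groth.Agent.Props12.FinLocFree
import Groth.Agent.PicLib.PicMonoid
import Groth.Agent.Coherent.QcohLocal
import Mathlib.RingTheory.Spectrum.Prime.FreeLocus

/-!
# Local properties of quasi-coherent modules read off affine sections
-/

set_option autoImplicit false
set_option backward.isDefEq.respectTransparency false

universe u

open CategoryTheory CategoryTheory.Limits AlgebraicGeometry Opposite TopologicalSpace
open Groth.Agent.Coherent Groth.Agent.Props12

namespace Groth.Agent.Coherent.CohBC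

variable {S : Scheme.{u}}

/-- Restriction of a free module along an open immersion. -/
noncomputable def freeModRestrictIso {Z Y : Scheme.{u}} (j : Z ⟶ Y) [IsOpenImmersion j] (n : ℕ) :
    (FlatMod.freeMod Y n).restrict j ≅ FlatMod.freeMod Z n :=
  (Scheme.Modules.restrictFunctorIsoPullback j).app _ ≪≫
    PreservesCoproduct.iso (Scheme.Modules.pullback j) (fun _ : Fin n => Coh.structureModule Y) ≪≫
    Sigma.mapIso fun _ => PicLoc.pullbackStructureIso j

/-- Free near every point of an open gives finite local freeness on the open. -/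
theorem isFinLocFree_restrict (R : S.Modules) (U : S.Opens)
    (h : ∀ y ∈ U, ∃ (U' : S.Opens) (n : ℕ), y ∈ U' ∧
      Nonempty (R.restrict U'.ι ≅ FlatMod.freeMod U'.toScheme n)) :
    FlatMod.IsFinLocFree (R.restrict U.ι) := fun y => by
  obtain ⟨U', n, hy, ⟨e⟩⟩ := h (U.ι y) (by exact y.2)
  refine ⟨U.ι ⁻¹ᵁ U', n, hy, ⟨?_⟩⟩
  let j := U.ι ∣_ U'
  exact ((Scheme.Modules.restrictFunctorComp (U.ι ⁻¹ᵁ U').ι U.ι).symm ≪≫
      Scheme.Modules.restrictFunctorCongr (morphismRestrict_ι U.ι U').symm ≪≫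
      Scheme.Modules.restrictFunctorComp j U'.ι).app R ≪≫
    (Scheme.Modules.restrictFunctor j).mapIso e ≪≫ freeModRestrictIso j n

/-- A quasi-coherent module without sections on the affine opens inside `U` is zero on `U`. -/
theorem isZero_restrict_of_sections (R : S.Modules) (U : S.Opens)
    (h : ∀ W : S.Opens, IsAffineOpen W → W ≤ U → Subsingleton Γ(R, W)) :
    IsZero (R.restrict U.ι) := by
  refine (IsZero.iff_id_eq_zero _).2 (Scheme.Modules.hom_ext _ _ fun V => ?_)
  ext z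
  show (z : Γ(R, U.ι ''ᵁ V)) = 0
  refine eq_of_nhds R _ _ fun y hy => ?_
  obtain ⟨W, hW, hyW, hWV⟩ := Opens.isBasis_iff_nbhd.mp S.isBasis_affineOpens hy
  have := h W hW (hWV.trans (U.ι_image_le V))
  exact ⟨W, hWV, hyW, Subsingleton.elim _ _⟩

/-- Projective sections of known rank on the affine opens give trivialisations. -/
theorem exists_free_nhd (R : S.Modules) [Coh.IsQCoh R] (hR : CohB1.IsFP R) (U : S.Opens)
    (ρ : S → ℕ)
    (h : ∀ (W : S.Opens) (hW : IsAffineOpen W), W ≤ U → Module.Projective Γ(S, W) Γ(R, W) ∧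
      ∀ y (hy : y ∈ W), Module.rankAtStalk (R := Γ(S, W)) Γ(R, W) (hW.primeIdealOf ⟨y, hy⟩) = ρ y)
    {y : S} (hy : y ∈ U) :
    ∃ U' : S.Opens, y ∈ U' ∧ U' ≤ U ∧
      Nonempty (R.restrict U'.ι ≅ FlatMod.freeMod U'.toScheme (ρ y)) := by
  obtain ⟨W₀, hW₀, hy₀, hW₀U⟩ := Opens.isBasis_iff_nbhd.mp S.isBasis_affineOpens hy
  obtain ⟨hproj, -⟩ := h W₀ hW₀ hW₀U
  have hT : CohB1.IsFT R := by
    have : SheafOfModules.IsFinitePresentation (R := S.ringCatSheaf) R := hR
    infer_instance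
  have := finite_sections R (locallyFinGen_of_isFT R hT) hW₀
  let _ := (S.presheaf.germ W₀ y hy₀).hom.toAlgebra
  let _ := Module.compHom (R.presheaf.stalk y) (S.presheaf.germ W₀ y hy₀).hom
  have : IsScalarTower Γ(S, W₀) (S.presheaf.stalk y) (R.presheaf.stalk y) :=
    IsScalarTower.of_algebraMap_smul fun _ _ => rfl
  let φ : Γ(R, W₀) →ₗ[Γ(S, W₀)] R.presheaf.stalk y :=
    { toFun := R.presheaf.germ W₀ y hy₀
      map_add' := map_add _
      map_smul' := QCohLoc.germ_smul' (M := R) hy₀ }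
  have := EGA43.QcohFP.isLocalizedModule_germ R hW₀ hy₀ φ fun _ => rfl
  have := hW₀.isLocalization_stalk ⟨y, hy₀⟩
  have : Module.Flat (S.presheaf.stalk y) (R.presheaf.stalk y) :=
    Module.Flat.of_isLocalizedModule (S.presheaf.stalk y)
      (hW₀.primeIdealOf ⟨y, hy₀⟩).asIdeal.primeCompl φ
  have := finite_stalk_of_isFT R hT y
  obtain ⟨U₁, n, hy₁, ⟨e⟩⟩ := exists_nhd_free R hR y Module.free_of_flat_of_isLocalRing
  obtain ⟨W₁, hW, hyW, hWU⟩ := Opens.isBasis_iff_nbhd.mp S.isBasis_affineOpens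
    (show y ∈ U₁ ⊓ U from ⟨hy₁, hy⟩)
  let W : S.Opens := W₁
  obtain ⟨b⟩ := exists_basis_sections e (hWU.trans inf_le_left)
  have : Nontrivial Γ(S, W) := ⟨⟨0, 1, fun h01 => (hW.primeIdealOf ⟨y, hyW⟩).isPrime.ne_top
    (Ideal.eq_top_iff_one _ |>.2 (h01 ▸ Ideal.zero_mem _))⟩⟩
  have hn : n = ρ y := by
    rw [← (h W hW (hWU.trans inf_le_right)).2 y hyW]
    have : Module.Free Γ(S, W) Γ(R, W) := .of_basis b
    have : Module.Finite Γ(S, W) Γ(R, W) := .of_basis b
    rw [Module.rankAtStalk_eq_finrank_of_free, Module.finrank_eq_card_basis b, Fintype.card_fin]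
    rfl
  subst hn
  obtain ⟨b'⟩ := exists_basis_restrict_top R W b
  have : IsAffine W.toScheme := hW
  exact ⟨W, hyW, hWU.trans inf_le_right, exists_iso_freeMod_of_basis (R.restrict W.ι) b'⟩

end Groth.Agent.Coherent.CohBC
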