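import Groth.Agent.Coherent.CohBC.ComplexFibres
import Groth.Agent.Coherent.CohBC.FibreInvariance
import Groth.Agent.Coherent.CohBC.LocalModules
import Groth.Agent.Coherent.RpushStalk
import Groth.Agent.Coherent.SupportPullback

/-!
# Cohomology and base change over a locally Noetherian base
-/

set_option autoImplicit false
set_option backward.isDefEq.respectTransparency false

universe u

open CategoryTheory CategoryTheory.Limits AlgebraicGeometry Opposite TopologicalSpace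
open Groth.Agent.Coherent

namespace Groth.Agent.Coherent.CohBC

variable {X S : Scheme.{u}} (f : X ⟶ S) [IsProper f] (F : X.Modules)

theorem subsingleton_fiberH_iff_fiberRank (hF : Coh.IsCoh F) (y : S) (p : ℕ) :
    Subsingleton (CohIII.fiberH f F y p) ↔ CohIII.fiberRank f F p y = 0 := by
  have : IsProper (f.fiberToSpecResidueField y) :=
    MorphismProperty.pullback_snd (P := @IsProper) _ _ inferInstance
  have : Coh.IsQCoh F := hF.1
  have hc : Coh.IsCoh (CohIII.fiberMod f F y) :=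
    ⟨EGA43.InjFibre.isQCoh_pullback _ _, isFT_pullback_qcoh _ hF.1 hF.2⟩
  have : Coh.IsQCoh (CohIII.fiberMod f F y) := hc.1
  have : Module.Finite (S.residueField y) (CohIII.fiberH f F y p) :=
    (finite_HH_iff (S.residueField y) (CohIII.fiberMod f F y) p).2
      (finCoh_of_isProper (f.fiberToSpecResidueField y) _ hc p)
  exact Module.finrank_zero_iff.symm

variable [IsLocallyNoetherian S] [HasInjectiveResolutions X.Modules]

/-- Over an affine open of the base a finite flat complex computes fibres and direct images. -/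
theorem exists_localComplex (hF : Coh.IsCoh F) (hfl : FlatMod.IsFlatOver f F) {V : S.Opens}
    (hV : IsAffineOpen V) :
    ∃ P : ChainComplex (ModuleCat.{u} Γ(S, V)) ℤ,
      (∀ i, Module.Finite Γ(S, V) (P.X i) ∧ Module.Flat Γ(S, V) (P.X i)) ∧
      (∀ i > 0, ∀ M, IsZero (CohIII.T P i M)) ∧ (∃ i₀ : ℤ, ∀ i < i₀, IsZero (P.X i)) ∧
      (∀ (p : ℕ) y (hy : y ∈ V), CohIII.fiberRank f F p y =
        CohIII.dRank P (-(p : ℤ)) (hV.primeIdealOf ⟨y, hy⟩)) ∧
      ∀ p : ℕ, Nonempty (Γ((Coh.Rpush f p).obj F, V) ≃ₗ[Γ(S, V)] P.homology (-(p : ℤ))) := by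
  let _ : (f ⁻¹ᵁ V).toScheme.Over (Spec (CommRingCat.of Γ(S, V))) := ⟨toSpecSections f hV⟩
  have hsq := isPullback_toSpecSections f hV
  have : IsProper ((f ⁻¹ᵁ V).toScheme ↘ Spec (CommRingCat.of Γ(S, V))) :=
    MorphismProperty.IsStableUnderBaseChange.of_isPullback (P := @IsProper) hsq inferInstance
  have : IsNoetherianRing Γ(S, V) := IsLocallyNoetherian.component_noetherian ⟨V, hV⟩
  have : Coh.IsQCoh F := hF.1
  let F' := (Scheme.Modules.pullback (f ⁻¹ᵁ V).ι).obj F
  have hc : Coh.IsCoh F' :=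
    ⟨EGA43.InjFibre.isQCoh_pullback _ _, isFT_pullback_qcoh _ hF.1 hF.2⟩
  have hfl' : FlatMod.IsFlatOver ((f ⁻¹ᵁ V).toScheme ↘ Spec (CommRingCat.of Γ(S, V))) F' :=
    fun x => Desc19b.isFlatOverAt_baseChange f (toSpecSections f hV) (f ⁻¹ᵁ V).ι hV.fromSpec hsq F x
      (hfl _)
  obtain ⟨D⟩ := nonempty_perfData F' hc hfl'
  refine ⟨D.P, D.finite_flat_P, fun i hi M => D.isZero_T_pos i hi M, ⟨_, D.isZero_P⟩,
    fun p y hy => ?_, fun p => ?_⟩
  · have h := fiberRank_pullback hsq F p (hV.primeIdealOf ⟨y, hy⟩)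
    rw [IsAffineOpen.fromSpec_primeIdealOf] at h
    exact h.symm.trans (D.fiberRank_eq hfl' (hV.primeIdealOf ⟨y, hy⟩) p)
  · obtain ⟨e⟩ := exists_rpush_sections_equiv f hV F p
    exact ⟨e.symm.trans ((HHCongr Γ(S, V)
      ((Scheme.Modules.restrictFunctorIsoPullback (f ⁻¹ᵁ V).ι).app F) p).trans (D.hhHomology p))⟩

variable (hF : Coh.IsCoh F) (hfl : FlatMod.IsFlatOver f F)
include hF hfl

theorem isOpen_fiberRank_eq_zero (p : ℕ) : IsOpen {y : S | CohIII.fiberRank f F p y = 0} := by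
  rw [isOpen_iff_forall_mem_open]
  intro y hy
  obtain ⟨V₁, hV, hyV, -⟩ := Opens.isBasis_iff_nbhd.mp S.isBasis_affineOpens (Opens.mem_top y)
  let V : S.Opens := V₁
  have : IsNoetherianRing Γ(S, V) := IsLocallyNoetherian.component_noetherian ⟨V, hV⟩
  obtain ⟨P, hP, -, -, hd, -⟩ := exists_localComplex f F hF hfl hV
  refine ⟨_, fun z hz => ?_, hV.fromSpec.isOpenEmbedding.isOpenMap _
    ((upperSemicontinuous_iff_isOpen_preimage.1 (FlatCxLib.upperSemicontinuous_dRank P hP (-(p : ℤ)))) 1),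
    ⟨hV.primeIdealOf ⟨y, hyV⟩, ?_, hV.fromSpec_primeIdealOf _⟩⟩
  · obtain ⟨x, hx, rfl⟩ := hz
    have hxV : hV.fromSpec x ∈ V := hV.range_fromSpec.le ⟨x, rfl⟩
    show CohIII.fiberRank f F p (hV.fromSpec x) = 0
    rw [hd p _ hxV, show hV.primeIdealOf ⟨hV.fromSpec x, hxV⟩ = x from
      hV.fromSpec.isOpenEmbedding.injective (hV.fromSpec_primeIdealOf _)]
    simpa using hx
  · have := hd p y hyV
    rw [show CohIII.fiberRank f F p y = 0 from hy] at this
    simp [← this]

theorem isZero_rpush_restrict (p : ℕ) (U : S.Opens)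
    (h : ∀ y ∈ U, CohIII.fiberRank f F p y = 0) :
    IsZero (((Coh.Rpush f p).obj F).restrict U.ι) := by
  refine isZero_restrict_of_sections _ U fun W hW hWU => ?_
  have : IsNoetherianRing Γ(S, W) := IsLocallyNoetherian.component_noetherian ⟨W, hW⟩
  obtain ⟨P, hP, -, -, hd, hs⟩ := exists_localComplex f F hF hfl hW
  obtain ⟨e⟩ := hs p
  have h0 := isZero_homology_of_dRank P hP (-(p : ℤ)) fun x => by
    have hxV : hW.fromSpec x ∈ W := hW.range_fromSpec.le ⟨x, rfl⟩
    rw [← show hW.primeIdealOf ⟨hW.fromSpec x, hxV⟩ = x from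
      hW.fromSpec.isOpenEmbedding.injective (hW.fromSpec_primeIdealOf _), ← hd p _ hxV]
    exact h _ (hWU hxV)
  have := ModuleCat.subsingleton_of_isZero h0
  exact e.toEquiv.subsingleton

/-- Flat cokernels around degree `p` make the direct image locally free. -/
theorem exists_free_rpush_of_flat_cokers (p : ℕ) (U : S.Opens)
    (h : ∀ (W : S.Opens) (hW : IsAffineOpen W), W ≤ U →
      ∀ P : ChainComplex (ModuleCat.{u} Γ(S, W)) ℤ,
        (∀ i, Module.Finite Γ(S, W) (P.X i) ∧ Module.Flat Γ(S, W) (P.X i)) →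
        (∀ i > 0, ∀ M, IsZero (CohIII.T P i M)) →
        (∀ (j : ℕ) y (hy : y ∈ W), CohIII.fiberRank f F j y =
          CohIII.dRank P (-(j : ℤ)) (hW.primeIdealOf ⟨y, hy⟩)) →
        Module.Flat Γ(S, W) (P.X (-(p : ℤ)) ⧸
            LinearMap.range (P.d (-(p : ℤ) + 1) (-(p : ℤ))).hom) ∧
          Module.Flat Γ(S, W) (P.X (-(p : ℤ) - 1) ⧸
            LinearMap.range (P.d (-(p : ℤ)) (-(p : ℤ) - 1)).hom))
    {y : S} (hy : y ∈ U) :
    ∃ U' : S.Opens, y ∈ U' ∧ U' ≤ U ∧
      Nonempty (((Coh.Rpush f p).obj F).restrict U'.ι ≅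
        FlatMod.freeMod U'.toScheme (CohIII.fiberRank f F p y)) := by
  have : Coh.IsQCoh F := hF.1
  have : IsLocallyNoetherian X := LocallyOfFiniteType.isLocallyNoetherian f
  have := isQCoh_rpush f F p
  refine exists_free_nhd _ (isFP_of_isCoh (isCoh_rpush f hF p)) U (CohIII.fiberRank f F p)
    (fun W hW hWU => ?_) hy
  have : IsNoetherianRing Γ(S, W) := IsLocallyNoetherian.component_noetherian ⟨W, hW⟩
  obtain ⟨P, hP, hpos, -, hd, hs⟩ := exists_localComplex f F hF hfl hW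
  obtain ⟨e⟩ := hs p
  obtain ⟨hq, hr⟩ := h W hW hWU P hP hpos hd
  obtain ⟨h1, -, h3⟩ := projective_homology P hP (-(p : ℤ) + 1) (-(p : ℤ)) (-(p : ℤ) - 1) rfl
    (by omega) hq hr
  refine ⟨Module.Projective.of_equiv e.symm, fun z hz' => ?_⟩
  rw [Module.rankAtStalk_eq_of_equiv e, h3, hd p z hz']

/-- Vanishing of the fibres in the adjacent degrees makes the direct image locally free. -/
theorem exists_free_rpush (p : ℕ) (U : S.Opens)
    (hup : ∀ y ∈ U, CohIII.fiberRank f F (p + 1) y = 0)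
    (hdown : ∀ j : ℕ, j + 1 = p → ∀ y ∈ U, CohIII.fiberRank f F j y = 0) {y : S} (hy : y ∈ U) :
    ∃ U' : S.Opens, y ∈ U' ∧ U' ≤ U ∧
      Nonempty (((Coh.Rpush f p).obj F).restrict U'.ι ≅
        FlatMod.freeMod U'.toScheme (CohIII.fiberRank f F p y)) := by
  refine exists_free_rpush_of_flat_cokers f F hF hfl p U (fun W hW hWU P hP hpos hd => ?_) hy
  have : IsNoetherianRing Γ(S, W) := IsLocallyNoetherian.component_noetherian ⟨W, hW⟩
  have hz : ∀ j : ℕ, (∀ z ∈ U, CohIII.fiberRank f F j z = 0) →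
      ∀ M, IsZero (CohIII.T P (-(j : ℤ)) M) := fun j hj => isZero_T_of_dRank P hP _ fun x => by
    have hxV : hW.fromSpec x ∈ W := hW.range_fromSpec.le ⟨x, rfl⟩
    rw [← show hW.primeIdealOf ⟨hW.fromSpec x, hxV⟩ = x from
      hW.fromSpec.isOpenEmbedding.injective (hW.fromSpec_primeIdealOf _), ← hd j _ hxV]
    exact hj _ (hWU hxV)
  refine ⟨?_, (flat_cokers_of_isZero_T P hP (-(p : ℤ)) (-(p : ℤ) - 1) (-(p : ℤ) - 2) (by omega)
    (by omega) fun M => by simpa [sub_eq_add_neg, add_comm] using hz (p + 1) hup M).1⟩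
  refine (flat_cokers_of_isZero_T P hP (-(p : ℤ) + 2) (-(p : ℤ) + 1) (-(p : ℤ)) (by omega)
    (by omega) ?_).2
  cases p with
  | zero => exact hpos _ (by norm_num)
  | succ j => exact fun M => by simpa using hz j (hdown j rfl) M

theorem isFinLocFree_rpush_restrict (p : ℕ) (U : S.Opens)
    (hup : ∀ y ∈ U, CohIII.fiberRank f F (p + 1) y = 0)
    (hdown : ∀ j : ℕ, j + 1 = p → ∀ y ∈ U, CohIII.fiberRank f F j y = 0) :
    FlatMod.IsFinLocFree (((Coh.Rpush f p).obj F).restrict U.ι) :=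
  isFinLocFree_restrict _ U fun y hy => by
    obtain ⟨U', hy', -, h⟩ := exists_free_rpush f F hF hfl p U hup hdown hy
    exact ⟨U', _, hy', h⟩

end Groth.Agent.Coherent.CohBC
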