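import Groth.Agent.Coherent.CohBC.ClosedFibre

/-!
# The kernel of the restriction of global sections to the closed fibre
-/

set_option autoImplicit false
set_option backward.isDefEq.respectTransparency false

universe u

open CategoryTheory CategoryTheory.Limits AlgebraicGeometry Opposite TopologicalSpace TensorProduct
open Groth.Agent.Coherent Groth.Agent.PicLib Function

namespace Groth.Agent.Coherent.CohBC

variable {A : Type u} [CommRing A]

/-- A cocycle with coefficients in a finitely generated ideal is a combination of cocycles. -/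
theorem exists_sum_cocycles (C : CochainComplex (ModuleCat.{u} A) ℕ) (hC : Module.Flat A (C.X 1))
    (hT : (CohIII.TFun C 0).PreservesEpimorphisms) {n : ℕ} (a : Fin n → A)
    (x : C.X 0) (hx : (C.d 0 1).hom x = 0)
    (hmem : x ∈ Ideal.span (Set.range a) • (⊤ : Submodule A (C.X 0))) :
    ∃ z : Fin n → C.X 0, (∀ i, (C.d 0 1).hom (z i) = 0) ∧ x = ∑ i, a i • z i := by
  classical
  let I : Ideal A := Ideal.span (Set.range a)
  let φ : (Fin n → A) →ₗ[A] I := (Fintype.linearCombination A a).codRestrict I fun c => by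
    rw [Fintype.linearCombination_apply]
    exact Ideal.sum_mem _ fun i _ => Ideal.mul_mem_left _ _ (Ideal.subset_span ⟨i, rfl⟩)
  have hφ : Surjective φ := fun ⟨b, hb⟩ => by
    obtain ⟨c, hc⟩ := Ideal.mem_span_range_iff_exists_fun.1 hb
    exact ⟨c, Subtype.ext ((Fintype.linearCombination_apply A a c).trans hc)⟩
  let ε : C.X 0 ⊗[A] I →ₗ[A] C.X 0 :=
    (TensorProduct.rid A (C.X 0)).toLinearMap.comp (I.subtype.lTensor (C.X 0))
  obtain ⟨y, hy⟩ : ∃ y : C.X 0 ⊗[A] I, ε y = x := by
    have hle : I • (⊤ : Submodule A (C.X 0)) ≤ LinearMap.range ε := Submodule.smul_le.2 fun b hb m _ =>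
      ⟨m ⊗ₜ (⟨b, hb⟩ : I), by simp [ε]⟩
    exact hle hmem
  have hinj : Injective ((TensorProduct.rid A (C.X 1)).toLinearMap.comp (I.subtype.lTensor (C.X 1))) := by
    have := hC
    exact (TensorProduct.rid A (C.X 1)).injective.comp
      (Module.Flat.lTensor_preserves_injective_linearMap _ I.injective_subtype)
  have hdy : (C.d 0 1).hom.rTensor I y = 0 := by
    refine hinj ?_
    rw [map_zero]
    refine Eq.trans ?_ hx
    rw [← hy]
    clear hy
    induction y using TensorProduct.induction_on with
    | zero => simp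
    | tmul m b => simp [ε]
    | add u v hu hv => simp only [map_add, hu, hv]
  let g : ModuleCat.of A (Fin n → A) ⟶ ModuleCat.of A I := ModuleCat.ofHom φ
  have : Epi g := (ModuleCat.epi_iff_surjective g).2 hφ
  obtain ⟨w, hw, hwy⟩ := (surjective_TFun_zero_iff C g).1 ((ModuleCat.epi_iff_surjective _).1 inferInstance) y hdy
  let π : Fin n → C.X 0 ⊗[A] (Fin n → A) →ₗ[A] C.X 0 := fun i =>
    (TensorProduct.rid A (C.X 0)).toLinearMap.comp ((LinearMap.proj i).lTensor (C.X 0))
  refine ⟨fun i => π i w, fun i => ?_, ?_⟩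
  · have h : ∀ v : C.X 0 ⊗[A] (Fin n → A), (C.d 0 1).hom (π i v) =
        (TensorProduct.rid A (C.X 1)) (((LinearMap.proj i).lTensor (C.X 1)) ((C.d 0 1).hom.rTensor _ v)) := fun v => by
      induction v using TensorProduct.induction_on with
      | zero => simp
      | tmul m b => simp [π]
      | add u v hu hv => simp only [map_add, hu, hv]
    rw [h]
    erw [hw]
    simp
  · rw [← hy, ← hwy]
    clear hwy hw hy
    induction w using TensorProduct.induction_on with
    | zero => simp
    | tmul m b =>
      show ε (m ⊗ₜ φ b) = ∑ i, a i • π i (m ⊗ₜ b)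
      simp only [ε, π, LinearMap.comp_apply, LinearMap.lTensor_tmul, LinearEquiv.coe_coe, TensorProduct.rid_tmul,
        LinearMap.proj_apply, Submodule.subtype_apply, φ, LinearMap.codRestrict_apply,
        Fintype.linearCombination_apply, Finset.sum_smul, smul_smul, smul_eq_mul]
      exact Finset.sum_congr rfl fun i _ => by rw [mul_comm]
    | add u v hu hv => simp only [map_add, smul_add, Finset.sum_add_distrib, hu, hv]

variable [IsLocalRing A] [IsNoetherianRing A] {X : Scheme.{u}} [X.Over (Spec (CommRingCat.of A))]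
  {F : X.Modules} (D : PerfData A X F)
include D

/-- When `H^0` is right exact a section vanishing on the closed fibre lies in `m Γ(F)`. -/
theorem mem_smul_top_of_pullSec_eq_zero (hfl : FlatMod.IsFlatOver (X ↘ Spec (CommRingCat.of A)) F)
    (hT : (CohIII.tensorAFunctor A F ⋙ CohIII.HAb X 0).PreservesEpimorphisms) (b : Γ(F, ⊤))
    (hb : pullSec ((X ↘ Spec (CommRingCat.of A)).fiberι (IsLocalRing.closedPoint A)) b = 0) :
    b ∈ IsLocalRing.maximalIdeal A • (⊤ : Submodule A Γ(F, ⊤)) := by
  classical
  let y : ↥(Spec (CommRingCat.of A)) := IsLocalRing.closedPoint A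
  let K := (Spec (CommRingCat.of A)).residueField y
  let φ := residueHom (A := A) y
  let _ : Algebra A K := φ.toAlgebra
  let g := (X ↘ Spec (CommRingCat.of A)).fiberι y
  have := D.finite
  have := D.isQCoh
  have h := PerfData.isPullback_fibre (X := X) y
  have hT' : (CohIII.TFun (cxA A D.W F) 0).PreservesEpimorphisms :=
    (Functor.PreservesEpimorphisms.iso_iff (D.tIso 0)).2 ((D.preservesEpi_iff 0).1 hT)
  let x : ∀ a : Fin 1 → D.ι, Γ(F, cinter D.W a) := fun a => resM F le_top b
  have hx : (1 : K) ⊗ₜ[A] x = 0 := by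
    refine (bijective_cochainBC φ g h D.W D.hW F 0).1 (funext fun a => ?_)
    rw [map_zero]
    refine Eq.trans (secBCTo_tmul φ g h D.W F a 1 (resM F le_top b)) ?_
    rw [one_smul, ← resM_pullSec g (le_top (a := cinter D.W a)) b, resM_resM, hb, map_zero]
    rfl
  have hmem : x ∈ IsLocalRing.maximalIdeal A • (⊤ : Submodule A (∀ a : Fin 1 → D.ι, Γ(F, cinter D.W a))) := by
    have h1 := (TensorProduct.quotTensorEquivQuotSMul (∀ a : Fin 1 → D.ι, Γ(F, cinter D.W a))
      (IsLocalRing.maximalIdeal A))
    let e : (A ⧸ IsLocalRing.maximalIdeal A) ≃ₐ[A] K :=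
      (Ideal.quotientEquivAlgOfEq A (ker_residueHom y).symm).trans
        (Ideal.quotientKerAlgEquivOfSurjective (f := Algebra.ofId A K) surjective_residueHom)
    have h2 : (TensorProduct.quotTensorEquivQuotSMul (∀ a : Fin 1 → D.ι, Γ(F, cinter D.W a))
        (IsLocalRing.maximalIdeal A)) ((TensorProduct.congr e.toLinearEquiv (LinearEquiv.refl A _)).symm
          ((1 : K) ⊗ₜ[A] x)) = Submodule.Quotient.mk x := by
      rw [TensorProduct.congr_symm_tmul, show e.toLinearEquiv.symm (1 : K) = Ideal.Quotient.mk _ 1 from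
        map_one e.symm, TensorProduct.quotTensorEquivQuotSMul_mk_tmul, one_smul]
      rfl
    rw [hx, map_zero, map_zero] at h2
    exact (Submodule.Quotient.mk_eq_zero _).1 h2.symm
  obtain ⟨n, a, ha⟩ := Submodule.fg_iff_exists_fin_generating_family.1
    (IsNoetherian.noetherian (IsLocalRing.maximalIdeal A))
  obtain ⟨z, hz, hsum⟩ := exists_sum_cocycles (cxA A D.W F) (flat_cxA D.W F hfl D.hW 1) hT' a x
    (by
      refine (LinearMap.congr_fun (congrArg ModuleCat.Hom.hom (cxA_d A D.W F 0)) x).trans ?_
      exact cxD_restrict D.W F b)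
    (by rw [Ideal.span, ha]; exact hmem)
  choose c hc using fun i => exists_glue_cocycle D.W F D.hcov (z i)
    ((LinearMap.congr_fun (congrArg ModuleCat.Hom.hom (cxA_d A D.W F 0)) (z i)).symm.trans (hz i))
  have hb' : b = ∑ i, a i • c i := by
    refine eq_of_restrict D.W F D.hcov _ _ fun s => ?_
    refine (congrFun hsum s).trans ?_
    rw [map_sum, Finset.sum_apply]
    exact Finset.sum_congr rfl fun i _ => by rw [Pi.smul_apply, resM_smulA, hc]
  rw [hb']
  exact Submodule.sum_mem _ fun i _ => Submodule.smul_mem_smul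
    (ha ▸ Submodule.subset_span ⟨i, rfl⟩) trivial

end Groth.Agent.Coherent.CohBC
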