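import Groth.Agent.Coherent.CohBC.EtaleCriterion
import Groth.Agent.Coherent.CohBC.Relative
import Groth.Agent.Coherent.CohBC.HomSheaf
import Groth.Agent.PicLib.FiniteSetTriv

/-!
# The direct image of the structure sheaf near a point with étale fibre functions
-/

set_option autoImplicit false
set_option backward.isDefEq.respectTransparency false

universe u

open CategoryTheory CategoryTheory.Limits AlgebraicGeometry Opposite TopologicalSpace
open Groth.Agent.Coherent Groth.Agent.PicLib Groth.Agent.Props12 Function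

namespace Groth.Agent.Coherent.CohBC

theorem isFinLocFree_structureModule (X : Scheme.{u}) :
    FlatMod.IsFinLocFree (Coh.structureModule X) := fun x =>
  let ⟨U, hx, e⟩ := PicLib.isFinLocFreeOfRank_one (PicLoc.isInvertible_structureModule X) x
  ⟨U, 1, hx, e⟩

theorem isIso_residueFieldMap_of_isPreimmersion {X Y : Scheme.{u}} (g : X ⟶ Y) [IsPreimmersion g]
    (x : X) : IsIso (g.residueFieldMap x) := by
  refine (ConcreteCategory.isIso_iff_bijective _).mpr ⟨(g.residueFieldMap x).hom.injective, fun z => ?_⟩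
  obtain ⟨a, rfl⟩ := X.residue_surjective x z
  obtain ⟨b, rfl⟩ := g.stalkMap_surjective x a
  exact ⟨Y.residue (g x) b, ConcreteCategory.congr_hom (Scheme.residue_residueFieldMap g x) b⟩

/-- Étale functions on a fibre, after an isomorphism of residue fields. -/
theorem etale_fibre_transfer {X S X' S' : Scheme.{u}} {f : X ⟶ S} {g : S' ⟶ S} {g' : X' ⟶ X}
    {f' : X' ⟶ S'} (h : IsPullback g' f' f g) [QuasiCompact f] [QuasiSeparated f] (y' : S')
    [IsIso (g.residueFieldMap y')]
    (het : Algebra.Etale (S.residueField (g y')) Γ(f.fiber (g y'), ⊤)) :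
    Algebra.Etale (S'.residueField y') Γ(f'.fiber y', ⊤) := by
  have : Coh.IsQCoh (Coh.structureModule X) := (isCoh_of_isFinLocFree (isFinLocFree_structureModule X)).1
  obtain ⟨t, hsq, -, -, -, -⟩ := exists_fibre_square h (Coh.structureModule X) y'
  have : IsIso t := hsq.isIso_fst_of_isIso
  let a := (Scheme.ΓSpecIso (S.residueField (g y'))).inv ≫ (f.fiberToSpecResidueField (g y')).appTop
  let b := (Scheme.ΓSpecIso (S'.residueField y')).inv ≫ (f'.fiberToSpecResidueField y').appTop
  have key : g.residueFieldMap y' ≫ b = a ≫ t.appTop := by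
    simp only [a, b, Category.assoc]
    rw [Scheme.ΓSpecIso_inv_naturality_assoc, ← Scheme.Hom.comp_appTop, ← Scheme.Hom.comp_appTop, hsq.w]
  have hb : b = inv (g.residueFieldMap y') ≫ a ≫ t.appTop := by
    rw [← key, IsIso.inv_hom_id_assoc]
  have ha : a.hom.Etale := RingHom.etale_algebraMap.2 het
  have : b.hom.Etale := by
    rw [hb, CommRingCat.hom_comp, CommRingCat.hom_comp]
    refine RingHom.Etale.stableUnderComposition _ _ (.of_bijective (ConcreteCategory.bijective_of_isIso _)) ?_
    exact RingHom.Etale.stableUnderComposition _ _ ha (.of_bijective (ConcreteCategory.bijective_of_isIso _))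
  exact RingHom.etale_algebraMap.1 this

/-- The rank of a module free near `y` is the rank of its stalk at `y`. -/
theorem finrank_stalk_of_free {Y : Scheme.{u}} (R : Y.Modules) [Coh.IsQCoh R] {U : Y.Opens} {y : Y}
    (hy : y ∈ U) {m : ℕ} (e : R.restrict U.ι ≅ FlatMod.freeMod U.toScheme m) :
    Module.finrank (Y.presheaf.stalk y) (R.presheaf.stalk y) = m := by
  obtain ⟨W₁, hW, hyW, hWU⟩ := Opens.isBasis_iff_nbhd.mp Y.isBasis_affineOpens hy
  let W : Y.Opens := W₁
  replace hW : IsAffineOpen W := hW
  obtain ⟨b⟩ := exists_basis_sections e hWU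
  let _ := (Y.presheaf.germ W y hyW).hom.toAlgebra
  let _ := Module.compHom (R.presheaf.stalk y) (Y.presheaf.germ W y hyW).hom
  have : IsScalarTower Γ(Y, W) (Y.presheaf.stalk y) (R.presheaf.stalk y) :=
    IsScalarTower.of_algebraMap_smul fun _ _ => rfl
  let φ : Γ(R, W) →ₗ[Γ(Y, W)] R.presheaf.stalk y :=
    { toFun := R.presheaf.germ W y hyW
      map_add' := map_add _
      map_smul' := QCohLoc.germ_smul' (M := R) hyW }
  have := EGA43.QcohFP.isLocalizedModule_germ R hW hyW φ fun _ => rfl
  have := hW.isLocalization_stalk ⟨y, hyW⟩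
  rw [Module.finrank_eq_card_basis (b.ofIsLocalizedModule (Y.presheaf.stalk y)
    (hW.primeIdealOf ⟨y, hyW⟩).asIdeal.primeCompl φ), Fintype.card_fin]

/-- Étale fibre functions make the direct image of the structure sheaf free near the point. -/
theorem exists_free_push_of_etale {X Y : Scheme.{u}} (f : X ⟶ Y) [IsProper f] [Flat f]
    [IsLocallyNoetherian Y] (y : Y) (het : Algebra.Etale (Y.residueField y) Γ(f.fiber y, ⊤)) :
    ∃ (U : Y.Opens) (m : ℕ), y ∈ U ∧
      Nonempty (((Coh.push f).obj (Coh.structureModule X)).restrict U.ι ≅ FlatMod.freeMod (↑U) m) ∧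
      m = CohIII.fiberRank f (Coh.structureModule X) 0 y := by
  have := hasInjectiveResolutions_modules X
  let M := Coh.structureModule X
  have hM := isFinLocFree_structureModule X
  have : Coh.IsQCoh M := (isCoh_of_isFinLocFree hM).1
  have : IsLocallyNoetherian X := LocallyOfFiniteType.isLocallyNoetherian f
  let A := Y.presheaf.stalk y
  let j : Spec (CommRingCat.of A) ⟶ Y := Y.fromSpecStalk y
  let X' : Scheme.{u} := pullback f j
  let g : X' ⟶ X := pullback.fst f j
  let _ : X'.Over (Spec (CommRingCat.of A)) := ⟨pullback.snd f j⟩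
  have hsq : IsPullback g (X' ↘ Spec (CommRingCat.of A)) f j := IsPullback.of_hasPullback f j
  have : IsProper (X' ↘ Spec (CommRingCat.of A)) :=
    MorphismProperty.IsStableUnderBaseChange.of_isPullback (P := @IsProper) hsq inferInstance
  have : Flat (X' ↘ Spec (CommRingCat.of A)) :=
    MorphismProperty.IsStableUnderBaseChange.of_isPullback (P := @Flat) hsq inferInstance
  have : IsNoetherianRing A := inferInstance
  let c : ↥(Spec (CommRingCat.of A)) := IsLocalRing.closedPoint A
  have hc : j c = y := Scheme.fromSpecStalk_closedPoint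
  have : IsPreimmersion j := inferInstanceAs (IsPreimmersion (Y.fromSpecStalk y))
  have := isIso_residueFieldMap_of_isPreimmersion j c
  have het' : Algebra.Etale ((Spec (CommRingCat.of A)).residueField c)
      Γ((X' ↘ Spec (CommRingCat.of A)).fiber c, ⊤) := etale_fibre_transfer hsq c (by rw [hc]; exact het)
  have hM' := isFinLocFree_structureModule X'
  obtain ⟨D⟩ := nonempty_perfData (Coh.structureModule X') (isCoh_of_isFinLocFree hM')
    (isFlatOver_of_isFinLocFree (X' ↘ Spec (CommRingCat.of A)) hM')
  have h1 := (preservesMono_zero D)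
  have h2 := (preservesEpi_zero_of_etale D het')
  rw [D.preservesMono_iff, FlatCxLib.preservesMono_iff_flat (-((0 : ℕ) : ℤ) + 1) (-((0 : ℕ) : ℤ))
    D.flat_P rfl] at h1
  rw [D.preservesEpi_iff, FlatCxLib.preservesEpi_iff_flat (-((0 : ℕ) : ℤ)) (-((0 : ℕ) : ℤ) - 1)
    D.flat_P (by omega)] at h2
  obtain ⟨hproj, -, hrank⟩ := projective_homology D.P D.finite_flat_P _ _ _ rfl (by omega) h1 h2
  obtain ⟨e⟩ := nonempty_stalk_rpush_equiv f M 0 y X' g hsq
  let e' := (e.trans (HHCongr A (PicLoc.pullbackStructureIso g) 0)).trans (D.hhHomology 0)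
  let R := (Coh.Rpush f 0).obj M
  have : Coh.IsQCoh R := isQCoh_rpush f M 0
  have hR : CohB1.IsFP R := isFP_of_isCoh (isCoh_rpush f (isCoh_of_isFinLocFree hM) 0)
  have : Module.Projective A (R.presheaf.stalk y) := Module.Projective.of_equiv e'.symm
  have hT : CohB1.IsFT R := by
    have : SheafOfModules.IsFinitePresentation (R := Y.ringCatSheaf) R := hR
    infer_instance
  have := Props12.finite_stalk_of_isFT R hT y
  have : Module.Free A (R.presheaf.stalk y) := Module.free_of_flat_of_isLocalRing
  obtain ⟨U, m, hy, ⟨i⟩⟩ := exists_nhd_free R hR y this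
  refine ⟨U, m, hy, ⟨(Scheme.Modules.restrictFunctor U.ι).mapIso
    (((Coh.push f).rightDerivedZeroIsoSelf.app M).symm) ≪≫ i⟩, ?_⟩
  have hm := finrank_stalk_of_free R hy i
  rw [e'.finrank_eq] at hm
  have : Module.Free A (D.P.homology (-((0 : ℕ) : ℤ))) := Module.Free.of_equiv e'
  have : Module.Finite A (D.P.homology (-((0 : ℕ) : ℤ))) := Module.Finite.equiv e'
  have hr := hrank c
  rw [Module.rankAtStalk_eq_finrank_of_free] at hr
  rw [← hm]
  refine (hr.trans ((D.fiberRank_eq (isFlatOver_of_isFinLocFree _ hM') c 0).symm.trans ?_))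
  have h3 := fiberRank_pullback hsq M 0 c
  rw [hc] at h3
  rw [← h3]
  exact finrank_HH_congr _ ((Scheme.Modules.pullback _).mapIso (PicLoc.pullbackStructureIso g).symm) 0

end Groth.Agent.Coherent.CohBC
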