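import Groth.Agent.Coherent.CohBC.Global
import Groth.Agent.Coherent.CohBC.HomSheaf
import Groth.Agent.Coherent.TensorQcoh
import Groth.Agent.DCat.TensorAssoc
import Groth.Agent.ModStalk.Tensor
import Groth.Agent.PicLib.FiniteSetTriv

/-!
# Homomorphisms out of finite locally free modules into `F ⊗_A M` are corepresentable
-/

set_option autoImplicit false
set_option backward.isDefEq.respectTransparency false

universe u

open CategoryTheory CategoryTheory.Limits AlgebraicGeometry Opposite TopologicalSpace Function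
open Groth.Agent.Coherent Groth.Agent.PicLib Groth.Agent.AmpleLib

namespace Groth.Agent.Coherent.CohBC

variable {X : Scheme.{u}} (E : X.Modules)

/-- `E^∨ × N → Hom(E, N)`. -/
noncomputable def dualBilin (N : X.Modules) :
    Bilin (internalHom E (Coh.structureModule X)) N (internalHom E N) where
  app U ξ n := (show locHom E N U from
    ⟨fun W hW => AddMonoidHom.mk'
        (fun a => (show Γ(X, W) from ev (secHom ξ) W hW a) • resM N hW n)
        (fun a a' => by
          rw [show ev (secHom ξ) W hW (a + a') = ev (secHom ξ) W hW a + ev (secHom ξ) W hW a' from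
            map_add ((secHom ξ).1 W hW) a a']
          exact add_smul _ _ _),
      fun W hW r a => by
        show (show Γ(X, W) from ev (secHom ξ) W hW (r • a)) • resM N hW n =
          r • ((show Γ(X, W) from ev (secHom ξ) W hW a) • resM N hW n)
        rw [ev_smul_arg, ← mul_smul]
        rfl,
      fun W W' hW h a => by
        show resM N h ((show Γ(X, W) from ev (secHom ξ) W hW a) • resM N hW n) = _
        rw [resM_smul, resM_resM]
        refine congrArg (fun c : Γ(X, W') => c • resM N (h.trans hW) n) ?_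
        exact ev_res (secHom ξ) hW h a⟩)
  add_left U ξ ξ' n := locHom_ext fun W hW a => add_smul
    (show Γ(X, W) from ev (secHom ξ) W hW a) (show Γ(X, W) from ev (secHom ξ') W hW a) (resM N hW n)
  add_right U ξ n n' := locHom_ext fun W hW a => by
    show (show Γ(X, W) from ev (secHom ξ) W hW a) • resM N hW (n + n') =
      (show Γ(X, W) from ev (secHom ξ) W hW a) • resM N hW n +
        (show Γ(X, W) from ev (secHom ξ) W hW a) • resM N hW n'
    rw [map_add, smul_add]
  smul_left U r ξ n := locHom_ext fun W hW a => by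
    show ((X.presheaf.map (homOfLE hW).op r : Γ(X, W)) * (show Γ(X, W) from ev (secHom ξ) W hW a)) •
        resM N hW n =
      (X.presheaf.map (homOfLE hW).op r : Γ(X, W)) •
        ((show Γ(X, W) from ev (secHom ξ) W hW a) • resM N hW n)
    rw [mul_smul]
  smul_right U r ξ n := locHom_ext fun W hW a => by
    show (show Γ(X, W) from ev (secHom ξ) W hW a) • resM N hW (r • n) =
      (X.presheaf.map (homOfLE hW).op r : Γ(X, W)) •
        ((show Γ(X, W) from ev (secHom ξ) W hW a) • resM N hW n)
    rw [resM_smul, smul_comm]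
  res U V h ξ n := locHom_ext fun W hW a => by
    show (show Γ(X, W) from ev (secHom ξ) W (hW.trans h) a) • resM N _ n =
      (show Γ(X, W) from ev (secHom ξ) W (hW.trans h) a) • resM N hW (resM N h n)
    rw [resM_resM]

theorem tE_comp_dualBilin {N N' : X.Modules} (g : N ⟶ N') :
    tE (internalHom E (Coh.structureModule X)) g ≫ (dualBilin E N').desc =
      (dualBilin E N).desc ≫ internalHomMap E g :=
  AmpleLib.hom_ext fun U ξ n => by
    refine (congrArg (fun t => (dualBilin E N').desc.app U t) (DCat.PullTensor.tensorBi_obj_map_tmul g U ξ n)).trans ?_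
    rw [Bilin.desc_tmul]
    refine Eq.trans ?_ (congrArg (fun t => (internalHomMap E g).app U t) (Bilin.desc_tmul (dualBilin E N) U ξ n)).symm
    refine locHom_ext (φ := secHom _) (ψ := secHom _) fun W hW a => ?_
    refine Eq.trans ?_ (ev_internalHomMap E g _ W hW a).symm
    show (show Γ(X, W) from ev (secHom ξ) W hW a) • resM N' hW (g.app U n) =
      g.app W ((show Γ(X, W) from ev (secHom ξ) W hW a) • resM N hW n)
    rw [Scheme.Modules.Hom.app_smul, app_resM]

theorem bijective_dualBilin_app {U : X.Opens} {I : Type u} [Fintype I] {e : I → Γ(E, U)}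
    (hb : IsBasisOn E U e) (N : X.Modules) :
    Bijective ((dualBilin E N).desc.app U) := by
  classical
  have hd := isBasisOn_coordHom hb
  let z : (I → Γ(N, U)) → Γ(CohB1.tensorMod (internalHom E (Coh.structureModule X)) N, U) := fun n =>
    ∑ i, tmul (resM (internalHom E (Coh.structureModule X)) le_rfl (coordHom hb i)) (n i)
  have hz : Surjective z := (bijective_sum_tmul hd N U le_rfl).2
  have hval : ∀ (n : I → Γ(N, U)) (k : I),
      ev (secHom ((dualBilin E N).desc.app U (z n))) U le_rfl (e k) = n k := by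
    intro n k
    let g : Γ(internalHom E N, U) →+ Γ(N, U) :=
      { toFun := fun φ => ev (secHom φ) U le_rfl (e k)
        map_zero' := rfl
        map_add' := fun _ _ => rfl }
    show g ((dualBilin E N).desc.app U (z n)) = _
    rw [map_sum, map_sum]
    simp only [Bilin.desc_tmul]
    show ∑ i, (show Γ(X, U) from hb.coef le_rfl (e k) i) • resM N le_rfl (n i) = _
    have he : ∀ i, hb.coef le_rfl (e k) i = if i = k then 1 else 0 := fun i => by
      have h := hb.coef_self le_rfl k
      rw [PicLib.resM_self] at h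
      exact congrFun h i
    simp only [he, PicLib.resM_self, ite_smul, one_smul, zero_smul, Finset.sum_ite_eq', Finset.mem_univ,
      if_true]
  constructor
  · intro a b h
    obtain ⟨n, rfl⟩ := hz a
    obtain ⟨n', rfl⟩ := hz b
    refine congrArg z (funext fun k => ?_)
    rw [← hval n k, h, hval n' k]
  · intro φ
    refine ⟨z fun k => ev (secHom φ) U le_rfl (e k), ?_⟩
    refine locHom_ext_basis hb le_rfl (secHom _) (secHom φ) fun m => ?_
    rw [PicLib.resM_self]
    exact hval _ m

theorem isIso_dualBilin (hE : FlatMod.IsFinLocFree E) (N : X.Modules) : IsIso (dualBilin E N).desc := by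
  refine TwistLib.G.isIso_of_bijective_on_basis _
    (fun B => ∃ (n : ℕ) (e : ULift.{u} (Fin n) → Γ(E, B)), IsBasisOn E B e) (fun V y hy => ?_)
    fun B ⟨n, e, he⟩ => bijective_dualBilin_app E he N
  obtain ⟨U, n, e, hyU, hUV, he⟩ := exists_basis_nhd hE y V hy
  exact ⟨U, ⟨n, e, he⟩, hyU, hUV⟩

/-- `Hom(E, N) = Γ(E^∨ ⊗ N)`. -/
noncomputable def homEquivSec (hE : FlatMod.IsFinLocFree E) (N : X.Modules) :
    (E ⟶ N) ≃+ Γ(CohB1.tensorMod (internalHom E (Coh.structureModule X)) N, ⊤) :=
  haveI := isIso_dualBilin E hE N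
  AddEquiv.symm
    { toFun := fun t => homOfSec ((dualBilin E N).desc.app ⊤ t)
      invFun := fun φ => (inv (dualBilin E N).desc).app ⊤ (secOfHom φ)
      left_inv := fun t => by
        refine Eq.trans (congrArg ((inv (dualBilin E N).desc).app ⊤) ?_)
          (ConcreteCategory.congr_hom (congrArg (fun ψ => Scheme.Modules.Hom.app ψ ⊤)
            (IsIso.hom_inv_id (dualBilin E N).desc)) t)
        refine locHom_ext (φ := secHom _) (ψ := secHom _) fun W hW a => ?_
        rfl
      right_inv := fun φ => by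
        refine Eq.trans (congrArg homOfSec (ConcreteCategory.congr_hom
          (congrArg (fun ψ => Scheme.Modules.Hom.app ψ ⊤) (IsIso.inv_hom_id (dualBilin E N).desc))
          (secOfHom φ))) (homOfSec_secOfHom φ)
      map_add' := fun t t' => by
        refine Scheme.Modules.hom_ext _ _ fun W => ConcreteCategory.hom_ext _ _ fun a => ?_
        show ev (secHom ((dualBilin E N).desc.app ⊤ (t + t'))) W le_top a = _
        rw [map_add]
        rfl }

theorem homEquivSec_natural (hE : FlatMod.IsFinLocFree E) {N N' : X.Modules} (g : N ⟶ N') (φ : E ⟶ N) :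
    homEquivSec E hE N' (φ ≫ g) =
      (tE (internalHom E (Coh.structureModule X)) g).app ⊤ (homEquivSec E hE N φ) := by
  refine (homEquivSec E hE N').symm.injective ?_
  rw [AddEquiv.symm_apply_apply]
  obtain ⟨t, rfl⟩ := (homEquivSec E hE N).symm.surjective φ
  rw [AddEquiv.apply_symm_apply]
  show homOfSec ((dualBilin E N).desc.app ⊤ t) ≫ g =
    homOfSec ((dualBilin E N').desc.app ⊤ ((tE _ g).app ⊤ t))
  rw [show (dualBilin E N').desc.app ⊤ ((tE _ g).app ⊤ t) =
      (internalHomMap E g).app ⊤ ((dualBilin E N).desc.app ⊤ t) from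
    ConcreteCategory.congr_hom (congrArg (fun ψ => Scheme.Modules.Hom.app ψ ⊤) (tE_comp_dualBilin E g)) t]
  exact Scheme.Modules.hom_ext _ _ fun W => ConcreteCategory.hom_ext _ _ fun a =>
    (ev_internalHomMap E g _ W le_top a).symm

theorem isFlatOver_tensor {S : Scheme.{u}} (f : X ⟶ S) {E F : X.Modules} [Coh.IsQCoh E]
    (hE : FlatMod.IsFinLocFree E) (hF : FlatMod.IsFlatOver f F) :
    FlatMod.IsFlatOver f (CohB1.tensorMod E F) := fun x => by
  obtain ⟨U, n, hxU, h⟩ := Props12.exists_nhd_basis_stalk E hE x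
  obtain ⟨b⟩ := h x hxU
  let B := S.presheaf.stalk (f.base x)
  let O := X.presheaf.stalk x
  let φ : B →+* O := (f.stalkMap x).hom
  let _ : Algebra B O := φ.toAlgebra
  let T := (CohB1.tensorMod E F).presheaf.stalk x
  let P := F.presheaf.stalk x
  let _ : Module B T := Module.compHom T φ
  let _ : Module B P := Module.compHom P φ
  have : IsScalarTower B O T := IsScalarTower.of_algebraMap_smul fun _ _ => rfl
  have : IsScalarTower B O P := IsScalarTower.of_algebraMap_smul fun _ _ => rfl
  have hP : Module.Flat B P := hF x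
  let e₀ : T ≃ₗ[O] TensorProduct O (E.presheaf.stalk x) P :=
    (ModStalk.stalkTensorIso x E F).toLinearEquiv
  let e : T ≃ₗ[O] (_ →₀ P) := e₀.trans
    (TensorProduct.equivFinsuppOfBasisLeft b)
  show Module.Flat B T
  classical
  exact Module.Flat.of_linearEquiv ((e.restrictScalars B).trans (finsuppLEquivDirectSum B P _))

/-- `D ⊗ e`. -/
noncomputable def tensorModIsoRight (D : X.Modules) {M N : X.Modules} (e : M ≅ N) :
    CohB1.tensorMod D M ≅ CohB1.tensorMod D N :=
  (tensE D).mapIso e

theorem tensorModIsoRight_hom (D : X.Modules) {M N : X.Modules} (e : M ≅ N) :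
    (tensorModIsoRight D e).hom = tE D e.hom := rfl

theorem tE_comp (D : X.Modules) {M N P : X.Modules} (g : M ⟶ N) (h : N ⟶ P) :
    tE D (g ≫ h) = tE D g ≫ tE D h :=
  (tensE D).map_comp g h

/-- `(D ⊗ F) ⊗ P ≅ D ⊗ (F ⊗ P)`. -/
noncomputable def assocMod (D F P : X.Modules) :
    CohB1.tensorMod D (CohB1.tensorMod F P) ≅ CohB1.tensorMod (CohB1.tensorMod D F) P :=
  (DCat.TensorAssoc.assocIso D F P).symm

theorem assocMod_naturality (D F : X.Modules) {P P' : X.Modules} (h : P ⟶ P') :
    tE D (tE F h) ≫ (assocMod D F P').hom = (assocMod D F P).hom ≫ tE (CohB1.tensorMod D F) h :=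
  (Iso.comp_inv_eq _).2 (((Iso.eq_inv_comp _).2
    (DCat.TensorAssoc.assocIso_nat₃ (M := D) (N := F) (h' := h)).symm).trans (Category.assoc _ _ _).symm)

variable {A : Type u} [CommRing A] [X.Over (Spec (CommRingCat.of A))]

/-- `D ⊗ (F ⊗_A M) ≅ (D ⊗ F) ⊗_A M`. -/
noncomputable def tensorAAssoc (D F : X.Modules) (M : ModuleCat.{u} A) :
    CohB1.tensorMod D ((CohIII.tensorAFunctor A F).obj M) ≅
      (CohIII.tensorAFunctor A (CohB1.tensorMod D F)).obj M :=
  tensorModIsoRight D (tensorASwap F M) ≪≫ assocMod D F (pullTilde A M) ≪≫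
    (tensorASwap (CohB1.tensorMod D F) M).symm

theorem tensorAAssoc_naturality (D F : X.Modules) {M N : ModuleCat.{u} A} (g : M ⟶ N) :
    tE D ((CohIII.tensorAFunctor A F).map g) ≫ (tensorAAssoc D F N).hom =
      (tensorAAssoc D F M).hom ≫ (CohIII.tensorAFunctor A (CohB1.tensorMod D F)).map g := by
  let pg : pullTilde A M ⟶ pullTilde A N := (Scheme.Modules.pullback (X ↘ Spec (CommRingCat.of A))).map
    (tilde.map (R := CommRingCat.of A) g)
  have h1 : tE D ((CohIII.tensorAFunctor A F).map g) ≫ tE D (tensorASwap F N).hom =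
      tE D (tensorASwap F M).hom ≫ tE D (tE F pg) :=
    (tE_comp D _ _).symm.trans ((congrArg (tE D) (tensorASwap_naturality F g)).trans (tE_comp D _ _))
  have h2 := assocMod_naturality D F pg
  have h3 : tE (CohB1.tensorMod D F) pg ≫ (tensorASwap (CohB1.tensorMod D F) N).inv =
      (tensorASwap (CohB1.tensorMod D F) M).inv ≫
        (CohIII.tensorAFunctor A (CohB1.tensorMod D F)).map g :=
    (Iso.comp_inv_eq _).2 (((Iso.eq_inv_comp _).2
      (tensorASwap_naturality (CohB1.tensorMod D F) g).symm).trans (Category.assoc _ _ _).symm)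
  simp only [tensorAAssoc, Iso.trans_hom, Iso.symm_hom, tensorModIsoRight_hom, Category.assoc]
  rw [← Category.assoc, h1, Category.assoc, reassoc_of% h2, h3]

/-- An isomorphism of modules on global sections. -/
noncomputable def secEquiv {M N : X.Modules} (e : M ≅ N) : Γ(M, ⊤) ≃+ Γ(N, ⊤) where
  toFun := e.hom.app ⊤
  invFun := e.inv.app ⊤
  left_inv := ConcreteCategory.congr_hom (congrArg (fun ψ => Scheme.Modules.Hom.app ψ ⊤) e.hom_inv_id)
  right_inv := ConcreteCategory.congr_hom (congrArg (fun ψ => Scheme.Modules.Hom.app ψ ⊤) e.inv_hom_id)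
  map_add' := map_add _

variable [IsNoetherianRing A] [IsProper (X ↘ Spec (CommRingCat.of A))]

/-- `M ↦ Hom(E, F ⊗_A M)` is corepresented by a finite module. -/
theorem exists_corep_hom (F : X.Modules) (hF : Coh.IsCoh F)
    (hfl : FlatMod.IsFlatOver (X ↘ Spec (CommRingCat.of A)) F) (hE : FlatMod.IsFinLocFree E) :
    ∃ Q : ModuleCat.{u} A, Module.Finite A Q ∧
      ∃ c : ∀ M : ModuleCat.{u} A, (E ⟶ (CohIII.tensorAFunctor A F).obj M) ≃+ (Q ⟶ M),
        ∀ (M N : ModuleCat.{u} A) (g : M ⟶ N) (φ : E ⟶ (CohIII.tensorAFunctor A F).obj M),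
          c N (φ ≫ (CohIII.tensorAFunctor A F).map g) = c M φ ≫ g := by
  let D := internalHom E (Coh.structureModule X)
  have hD : FlatMod.IsFinLocFree D :=
    isFinLocFree_internalHom hE (fun x => by
      obtain ⟨U, hx, e⟩ := PicLib.isFinLocFreeOfRank_one (PicLoc.isInvertible_structureModule X) x
      exact ⟨U, 1, hx, e⟩)
  have hDc := isCoh_of_isFinLocFree hD
  have : Coh.IsQCoh D := hDc.1
  have : Coh.IsQCoh F := hF.1
  have hG : Coh.IsCoh (CohB1.tensorMod D F) := ⟨isQCoh_tensorMod D F, isFT_tensorMod D F hDc.2 hF.2⟩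
  obtain ⟨P⟩ := nonempty_perfData (CohB1.tensorMod D F) hG (isFlatOver_tensor _ hD hfl)
  obtain ⟨Q, hQ, ⟨q⟩⟩ := P.exists_corep
  refine ⟨Q, hQ, fun M => (homEquivSec E hE _).trans ((secEquiv (tensorAAssoc D F M)).trans
    (q.app M).toLinearEquiv.toAddEquiv), fun M N g φ => ?_⟩
  have h1 := homEquivSec_natural E hE ((CohIII.tensorAFunctor A F).map g) φ
  have h2 := ConcreteCategory.congr_hom (congrArg (fun ψ => Scheme.Modules.Hom.app ψ ⊤)
    (tensorAAssoc_naturality D F g)) (homEquivSec E hE _ φ)
  have h3 := ConcreteCategory.congr_hom (q.hom.naturality g)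
    ((tensorAAssoc D F M).hom.app ⊤ (homEquivSec E hE _ φ))
  exact ((congrArg (fun t => q.hom.app N ((tensorAAssoc D F N).hom.app ⊤ t)) h1).trans
    (congrArg (q.hom.app N) h2)).trans h3

end Groth.Agent.Coherent.CohBC
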