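import Groth.Agent.Coherent.CohBC.EulerConst
import Groth.Agent.Coherent.CohBC.HomCorep
import Groth.Agent.Coherent.CohBC.HomSheaf
import Groth.Agent.EulerLib.InvClass
import Groth.Agent.EulerLib.CohSub
import Groth.Agent.EulerLib.FieldExt
import Groth.Agent.ZClosLib.Descent
import Groth.Prelude.Def_Pic13

/-!
# Euler characteristics in connected families, and twists by classes algebraically equivalent to zero
-/

set_option autoImplicit false
set_option backward.isDefEq.respectTransparency false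
set_option linter.style.haveILetI false

universe u

open CategoryTheory CategoryTheory.Limits AlgebraicGeometry TopologicalSpace
open Groth.Agent.Coherent Groth.Agent.EulerLib

namespace Groth.Agent.Coherent.CohBC

variable (k : Type u) [Field k]

/-- Over a field every module is flat. -/
theorem isFlatOver_field {X : Scheme.{u}} (π : X ⟶ Spec (CommRingCat.of k)) (F : X.Modules) :
    FlatMod.IsFlatOver π F := fun x => by
  have h1 : IsField (Localization.AtPrime (π.base x).asIdeal) :=
    MulEquiv.isField (Field.toIsField k) (IsLocalization.atUnits k (π.base x).asIdeal.primeCompl fun y hy =>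
      isUnit_iff_ne_zero.2 fun h => hy (by rw [h]; exact zero_mem _)).toMulEquiv.symm
  have hf : IsField ((Spec (CommRingCat.of k)).presheaf.stalk (π.base x)) :=
    MulEquiv.isField h1 (StructureSheaf.stalkIso k (π.base x)).symm.toMulEquiv
  letI := FlatMod.moduleStalkOver π F x
  show Module.Flat _ _
  letI := hf.toField
  exact Module.Flat.of_free

/-- The Euler characteristic of the only fibre over a field is the Euler characteristic. -/
theorem eulerChar_eq_euler {X : Scheme.{u}} [X.Over (Spec (CommRingCat.of k))]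
    [IsProper (X ↘ Spec (CommRingCat.of k))] (F : X.Modules) [Coh.IsQCoh F] (y : Spec (CommRingCat.of k)) :
    PerfAux.eulerChar (X ↘ Spec (CommRingCat.of k)) F y = Curv2.euler k X F := by
  haveI : CompactSpace X := QuasiCompact.compactSpace_of_compactSpace (X ↘ Spec (CommRingCat.of k))
  haveI : QuasiSeparatedSpace X := quasiSeparatedSpace_of_quasiSeparated (X ↘ Spec (CommRingCat.of k))
  refine finsum_congr fun p => congrArg (fun n : ℕ => (-1 : ℤ) ^ p * (n : ℤ)) ?_
  exact finrank_HH_bc k _ (residueHom y) (X ↘ Spec (CommRingCat.of k))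
    ((X ↘ Spec (CommRingCat.of k)).fiberToSpecResidueField y) ((X ↘ Spec (CommRingCat.of k)).fiberι y)
    (PerfData.isPullback_fibre y) F _ (Iso.refl _) p

variable (X : Scheme.{u}) [X.Over (Spec (CommRingCat.of k))] [IsProper (X ↘ Spec (CommRingCat.of k))]

theorem isPullback_slice {T : Scheme.{u}} (q : T ⟶ Spec (CommRingCat.of k)) (t : Spec (CommRingCat.of k) ⟶ T)
    (ht : t ≫ q = 𝟙 _) :
    IsPullback (Pic13.sliceAt k X q t ht) (X ↘ Spec (CommRingCat.of k))
      (pullback.snd (X ↘ Spec (CommRingCat.of k)) q) t := by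
  have h1 : Pic13.sliceAt k X q t ht ≫ pullback.fst _ _ = 𝟙 X := pullback.lift_fst _ _ _
  have h2 : Pic13.sliceAt k X q t ht ≫ pullback.snd _ _ = (X ↘ Spec (CommRingCat.of k)) ≫ t :=
    pullback.lift_snd _ _ _
  refine IsPullback.of_right ?_ h2 (IsPullback.of_hasPullback (X ↘ Spec (CommRingCat.of k)) q)
  rw [h1, ht]
  exact IsPullback.of_horiz_isIso ⟨by rw [Category.id_comp, Category.comp_id]⟩

/-- **Euler characteristics are constant in connected flat families.** -/
theorem euler_fibreMod_eq {T : Scheme.{u}} (q : T ⟶ Spec (CommRingCat.of k)) [LocallyOfFiniteType q]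
    [PreconnectedSpace T] {G : (Pic13.prodK k X q).Modules} (hG : Coh.IsCoh G)
    (hfl : FlatMod.IsFlatOver (pullback.snd (X ↘ Spec (CommRingCat.of k)) q) G)
    (t t₀ : Spec (CommRingCat.of k) ⟶ T) (ht : t ≫ q = 𝟙 _) (ht₀ : t₀ ≫ q = 𝟙 _) :
    Curv2.euler k X (Pic13.fibreMod k X q t ht G) = Curv2.euler k X (Pic13.fibreMod k X q t₀ ht₀ G) := by
  haveI : IsLocallyNoetherian T := LocallyOfFiniteType.isLocallyNoetherian q
  haveI : IsProper (pullback.snd (X ↘ Spec (CommRingCat.of k)) q) :=
    MorphismProperty.pullback_snd (P := @IsProper) _ _ inferInstance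
  haveI := hG.1
  let pt : Spec (CommRingCat.of k) := default
  have key : ∀ (s : Spec (CommRingCat.of k) ⟶ T) (hs : s ≫ q = 𝟙 _),
      Curv2.euler k X (Pic13.fibreMod k X q s hs G) =
        PerfAux.eulerChar (pullback.snd (X ↘ Spec (CommRingCat.of k)) q) G (s pt) := by
    intro s hs
    haveI : Coh.IsQCoh (Pic13.fibreMod k X q s hs G) := EGA43.InjFibre.isQCoh_pullback _ G
    rw [← eulerChar_eq_euler k (Pic13.fibreMod k X q s hs G) pt]
    exact eulerChar_pullback (isPullback_slice k X q s hs) G pt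
  rw [key t ht, key t₀ ht₀]
  exact IsLocallyConstant.apply_eq_of_isPreconnected (isLocallyConstant_eulerChar _ hG hfl)
    isPreconnected_univ (Set.mem_univ _) (Set.mem_univ _)

/-- **Twisting by a class algebraically equivalent to zero preserves the Euler characteristic.** -/
theorem euler_tensor_eq_of_isAlgEquivZero {L : X.Modules} (hL : Pic13.IsAlgEquivZero k X L) {F : X.Modules}
    (hF : Coh.IsCoh F) : Curv2.euler k X (CohB1.tensorMod F L) = Curv2.euler k X F := by
  obtain ⟨T, q, hT, hq, -, M, hM, t, t₀, ht, ht₀, ⟨e⟩, ⟨e₀⟩⟩ := hL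
  haveI : IsLocallyNoetherian T := LocallyOfFiniteType.isLocallyNoetherian q
  haveI : IsProper (pullback.snd (X ↘ Spec (CommRingCat.of k)) q) :=
    MorphismProperty.pullback_snd (P := @IsProper) _ _ inferInstance
  haveI : IsLocallyNoetherian (Pic13.prodK k X q) :=
    LocallyOfFiniteType.isLocallyNoetherian (pullback.snd (X ↘ Spec (CommRingCat.of k)) q)
  let fX : Pic13.prodK k X q ⟶ X := pullback.fst _ _
  let F' : (Pic13.prodK k X q).Modules := (Scheme.Modules.pullback fX).obj F
  haveI := hF.1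
  have hF' : Coh.IsCoh F' := ZClosLib.isCoh_pullback fX F hF
  have hMF : FlatMod.IsFinLocFree M := fun x => let ⟨U, hx, e'⟩ := PicLib.isFinLocFreeOfRank_one hM x; ⟨U, 1, hx, e'⟩
  haveI : Coh.IsQCoh M := (isCoh_of_isFinLocFree hMF).1
  let G : (Pic13.prodK k X q).Modules := CohB1.tensorMod M F'
  have hG : Coh.IsCoh G := isCoh_iso (Groth.Agent.AmpleLib.tensorComm F' M) (isCoh_twist hM hF')
  have hfl : FlatMod.IsFlatOver (pullback.snd (X ↘ Spec (CommRingCat.of k)) q) G :=
    isFlatOver_tensor _ hMF fun x' => Groth.Agent.Desc19b.isFlatOverAt_baseChange _ _ fX q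
      (IsPullback.of_hasPullback (X ↘ Spec (CommRingCat.of k)) q) F x' (isFlatOver_field k _ F _)
  have key : ∀ (s : Spec (CommRingCat.of k) ⟶ T) (hs : s ≫ q = 𝟙 _) (N : X.Modules),
      (Pic13.fibreMod k X q s hs M ≅ N) →
      Curv2.euler k X (Pic13.fibreMod k X q s hs G) = Curv2.euler k X (CohB1.tensorMod F N) := by
    intro s hs N eN
    have e1 : Pic13.sliceAt k X q s hs ≫ fX = 𝟙 X := pullback.lift_fst _ _ _
    let α : (Scheme.Modules.pullback (Pic13.sliceAt k X q s hs)).obj F' ≅ F :=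
      (Scheme.Modules.pullbackComp _ fX).app F ≪≫ (Scheme.Modules.pullbackCongr e1).app F ≪≫
        (Scheme.Modules.pullbackId X).app F
    exact euler_congr k X (DCat.PullTensor.pullTensorIso (Pic13.sliceAt k X q s hs) M F' ≪≫
      Groth.Agent.AmpleLib.tensorIso eN α ≪≫ Groth.Agent.AmpleLib.tensorComm _ _)
  haveI : PreconnectedSpace T := inferInstance
  have h := euler_fibreMod_eq k X q hG hfl t t₀ ht ht₀
  rw [key t ht L e, key t₀ ht₀ _ e₀] at h
  exact h.trans (euler_congr k X (Groth.Agent.AmpleLib.tensorComm _ _ ≪≫ Groth.Agent.AmpleLib.unitTensorIso F))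

variable {X}

/-- **Twisting by powers of a class τ-equivalent to zero does not change Euler characteristics.** -/
theorem chiCl_mul_pow_eq_of_isTauEquivZero {L : X.Modules} (hL : PicF.IsInvertible L)
    (hτ : Pic13.IsTauEquivZero k X L) {F : X.Modules} (hF : Coh.IsCoh F) (b : InvCl X) (m : ℕ) :
    chiCl k F (b * InvCl.mk L hL ^ m) = chiCl k F b := by
  haveI := isNoetherian_of_proper (X := X) k
  obtain ⟨n, hn, halg⟩ := hτ
  obtain ⟨N, hN, rfl⟩ := InvCl.exists_rep b
  let F₁ := CohB1.tensorMod F N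
  have hF₁ : Coh.IsCoh F₁ := isCoh_twist hN hF
  have hshift : ∀ {P : X.Modules} (hP : PicF.IsInvertible P),
      chiCl k F (InvCl.mk N hN * InvCl.mk P hP) = chiCl k F₁ (InvCl.mk P hP) := by
    intro P hP
    obtain ⟨a⟩ := exists_assocIso' F hN hP
    rw [InvCl.mk_mul, chiCl_mk, chiCl_mk]
    exact euler_congr k X a.symm
  have hshift' : ∀ c : InvCl X, chiCl k F (InvCl.mk N hN * c) = chiCl k F₁ c := fun c => by
    obtain ⟨P, hP, rfl⟩ := InvCl.exists_rep c
    exact hshift hP
  -- multiples of `n`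
  have hstep : ∀ {G : X.Modules}, Coh.IsCoh G → ∀ c : InvCl X,
      chiCl k G (c * InvCl.mk L hL ^ n) = chiCl k G c := by
    intro G hG c
    obtain ⟨P, hP, rfl⟩ := InvCl.exists_rep c
    obtain ⟨a⟩ := exists_assocIso' G hP (Groth.Agent.AmpleLib.isInvertible_tensorPow hL n)
    rw [← InvCl.mk_tensorPow hL, InvCl.mk_mul, chiCl_mk, chiCl_mk, ← euler_congr k X a]
    exact euler_tensor_eq_of_isAlgEquivZero k X halg (isCoh_twist hP hG)
  have hmul : ∀ j : ℕ, chiCl k F₁ (InvCl.mk L hL ^ (n * j)) = chiCl k F₁ 1 := by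
    intro j
    induction j with
    | zero => rw [Nat.mul_zero, pow_zero]
    | succ j ih => rw [Nat.mul_succ, pow_add, hstep hF₁, ih]
  obtain ⟨r, hr⟩ := exists_dim_le k (X := X) (CohB1.support F₁)
  obtain ⟨P, -, hP⟩ := snapper k hF₁ hr ![InvCl.mk L hL]
  let P₁ : Polynomial ℚ := MvPolynomial.aeval (fun _ => Polynomial.X) P
  have hP₁ : ∀ j : ℕ, P₁.eval (j : ℚ) = (chiCl k F₁ (InvCl.mk L hL ^ j) : ℚ) := by
    intro j
    have h := hP fun _ => j
    rw [Fin.prod_univ_one] at h
    simp only [Matrix.cons_val_zero] at h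
    rw [h]
    show (Polynomial.aeval (j : ℚ)) (MvPolynomial.aeval (fun _ => Polynomial.X) P) = _
    rw [MvPolynomial.comp_aeval_apply]
    simp only [Polynomial.aeval_X]
    rfl
  have hconst : P₁ = Polynomial.C (chiCl k F₁ 1 : ℚ) := by
    refine Polynomial.eq_of_infinite_eval_eq _ _ (Set.Infinite.mono ?_ (Set.infinite_range_of_injective
      (f := fun j : ℕ => ((n * j : ℕ) : ℚ)) fun a b h => Nat.eq_of_mul_eq_mul_left hn (Nat.cast_injective h)))
    rintro _ ⟨j, rfl⟩
    show P₁.eval ((n * j : ℕ) : ℚ) = (Polynomial.C (chiCl k F₁ 1 : ℚ)).eval ((n * j : ℕ) : ℚ)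
    rw [hP₁, hmul, Polynomial.eval_C]
  rw [hshift' _, ← mul_one (InvCl.mk N hN), hshift' 1]
  have h := hP₁ m
  rw [hconst, Polynomial.eval_C] at h
  exact_mod_cast h.symm

end Groth.Agent.Coherent.CohBC
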