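import Groth.Agent.Coherent.CohBC.ComplexFibres
import Groth.Agent.Coherent.CohBC.Relative
import Groth.Agent.Coherent.CohBC.FibreInvariance

/-!
# The Euler characteristic of the fibres of a flat coherent family is locally constant
-/

set_option autoImplicit false
set_option backward.isDefEq.respectTransparency false

universe u

open CategoryTheory CategoryTheory.Limits AlgebraicGeometry TensorProduct TopologicalSpace
open Groth.Agent.Coherent Groth.Agent.FlatCxLib

namespace Groth.Agent.Coherent.CohBC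

section Complex

variable {A : Type u} [CommRing A]

theorem rankAtStalk_eq_zero_of_isZero {M : ModuleCat.{u} A} (h : IsZero M) (x : PrimeSpectrum A) :
    Module.rankAtStalk (R := A) M x = 0 := by
  have := ModuleCat.subsingleton_of_isZero h
  simp

/-- The correction terms in the telescoping sum. -/
noncomputable def eulerErr (P : ChainComplex (ModuleCat.{u} A) ℤ) (i : ℤ) (x : PrimeSpectrum A) : ℤ :=
  (fibreRank (P.X (i - 1) ⧸ LinearMap.range (P.d i (i - 1)).hom) x : ℤ) -
    (Module.rankAtStalk (P.X (i - 1)) x : ℤ)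

theorem eulerErr_eq_zero (P : ChainComplex (ModuleCat.{u} A) ℤ) (i : ℤ) (x : PrimeSpectrum A)
    (h : IsZero (P.X (i - 1))) : eulerErr P i x = 0 := by
  have := ModuleCat.subsingleton_of_isZero h
  simp only [eulerErr, fibreRank, rankAtStalk_eq_zero_of_isZero h, Nat.cast_zero, sub_zero]
  rw [Module.finrank_zero_of_subsingleton, Nat.cast_zero]

variable (P : ChainComplex (ModuleCat.{u} A) ℤ) (hP : ∀ i, Module.Finite A (P.X i) ∧ Module.Flat A (P.X i))

include hP in
theorem dRank_eq_rank_add (i : ℤ) (x : PrimeSpectrum A) :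
    (CohIII.dRank P i x : ℤ) =
      (Module.rankAtStalk (P.X i) x : ℤ) + eulerErr P (i + 1) x + eulerErr P i x := by
  have := dRank_add P hP (i + 1) i (i - 1) rfl (by omega) x
  simp only [eulerErr]
  rw [show i + 1 - 1 = i by omega]
  omega

include hP in
theorem sum_dRank_eq (n : ℕ) (x : PrimeSpectrum A) :
    ∑ j ∈ Finset.range (n + 1), (-1 : ℤ) ^ j * (CohIII.dRank P (-(j : ℤ)) x : ℤ) =
      (∑ j ∈ Finset.range (n + 1), (-1 : ℤ) ^ j * (Module.rankAtStalk (P.X (-(j : ℤ))) x : ℤ)) +
        eulerErr P 1 x + (-1 : ℤ) ^ n * eulerErr P (-(n : ℤ)) x := by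
  induction n with
  | zero =>
    simp only [zero_add, Finset.sum_range_one, pow_zero, one_mul, Nat.cast_zero, neg_zero]
    rw [dRank_eq_rank_add P hP 0 x, zero_add]
    rfl
  | succ n ih =>
    rw [Finset.sum_range_succ, ih, dRank_eq_rank_add P hP (-((n + 1 : ℕ) : ℤ)) x, Finset.sum_range_succ _ (n + 1),
      show -((n + 1 : ℕ) : ℤ) + 1 = -(n : ℤ) by omega, pow_succ]
    ring

variable [IsNoetherianRing A]

include hP in
/-- Without homology in positive degrees, the Euler characteristic of the fibres is locally constant. -/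
theorem isLocallyConstant_sum_dRank (hpos : ∀ M : ModuleCat.{u} A, IsZero (CohIII.T P 1 M)) (i₀ : ℤ)
    (h₀ : ∀ i < i₀, IsZero (P.X i)) {n : ℕ} (hn : -(n : ℤ) - 1 < i₀) :
    IsLocallyConstant fun x : PrimeSpectrum A =>
      ∑ j ∈ Finset.range (n + 1), (-1 : ℤ) ^ j * (CohIII.dRank P (-(j : ℤ)) x : ℤ) := by
  have : ∀ M : ModuleCat.{u} A, IsZero (CohIII.T P (0 + 1) M) := hpos
  have hQ := (flat_cokers_of_isZero_T P hP 2 1 0 (by omega) (by omega) hpos).2
  have := (hP 0).1
  have : Module.FinitePresentation A (P.X 0 ⧸ LinearMap.range (P.d 1 0).hom) :=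
    Module.finitePresentation_of_finite A _
  have he : ∀ x, eulerErr P 1 x = (Module.rankAtStalk (R := A) (P.X 0 ⧸ LinearMap.range (P.d 1 0).hom) x : ℤ) -
      (Module.rankAtStalk (P.X 0) x : ℤ) := fun x => by
    show (fibreRank (P.X 0 ⧸ LinearMap.range (P.d 1 0).hom) x : ℤ) - _ = _
    rw [fibreRank_eq_rankAtStalk]
    rfl
  have key : (fun x : PrimeSpectrum A => ∑ j ∈ Finset.range (n + 1),
      (-1 : ℤ) ^ j * (CohIII.dRank P (-(j : ℤ)) x : ℤ)) = fun x =>
      (∑ j ∈ Finset.range (n + 1), (-1 : ℤ) ^ j * (Module.rankAtStalk (P.X (-(j : ℤ))) x : ℤ)) +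
        ((Module.rankAtStalk (R := A) (P.X 0 ⧸ LinearMap.range (P.d 1 0).hom) x : ℤ) -
          (Module.rankAtStalk (P.X 0) x : ℤ)) := by
    funext x
    rw [sum_dRank_eq P hP n x, he, eulerErr_eq_zero P _ x (h₀ _ hn), mul_zero, add_zero]
  rw [key, IsLocallyConstant.iff_eventually_eq]
  intro x
  have hfp : ∀ i, Module.FinitePresentation A (P.X i) := fun i =>
    haveI := (hP i).1
    Module.finitePresentation_of_finite A _
  have hev : ∀ᶠ y in nhds x, (∀ j ∈ Finset.range (n + 1),
      Module.rankAtStalk (P.X (-(j : ℤ))) y = Module.rankAtStalk (P.X (-(j : ℤ))) x) ∧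
      Module.rankAtStalk (R := A) (P.X 0 ⧸ LinearMap.range (P.d 1 0).hom) y =
        Module.rankAtStalk (R := A) (P.X 0 ⧸ LinearMap.range (P.d 1 0).hom) x ∧
      Module.rankAtStalk (P.X 0) y = Module.rankAtStalk (P.X 0) x := by
    refine ((Finset.range (n + 1)).eventually_all.2 fun j _ => ?_).and
      ((Module.isLocallyConstant_rankAtStalk.eventually_eq x).and ?_)
    · have := (hP (-(j : ℤ))).2
      exact (Module.isLocallyConstant_rankAtStalk (R := A) (M := P.X (-(j : ℤ)))).eventually_eq x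
    · have := (hP 0).2
      exact (Module.isLocallyConstant_rankAtStalk (R := A) (M := P.X 0)).eventually_eq x
  filter_upwards [hev] with y hy
  rw [hy.2.1, hy.2.2]
  exact congrArg (· + _) (Finset.sum_congr rfl fun j hj => by rw [hy.1 j hj])

include hP in
omit [IsNoetherianRing A] in
theorem dRank_eq_zero_of_isZero (i : ℤ) (x : PrimeSpectrum A) (h : IsZero (P.X i)) (h' : IsZero (P.X (i - 1))) :
    CohIII.dRank P i x = 0 := by
  have := dRank_eq_rank_add P hP i x
  rw [rankAtStalk_eq_zero_of_isZero h, eulerErr_eq_zero P (i + 1) x (by rwa [add_sub_cancel_right]),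
    eulerErr_eq_zero P i x h'] at this
  omega

end Complex

variable {X S : Scheme.{u}}

/-- **The Euler characteristic of the fibres of a proper flat coherent family is locally constant.** -/
theorem isLocallyConstant_eulerChar (f : X ⟶ S) [IsProper f] [IsLocallyNoetherian S] {F : X.Modules}
    (hF : Coh.IsCoh F) (hfl : FlatMod.IsFlatOver f F) :
    IsLocallyConstant fun s : S => PerfAux.eulerChar f F s := by
  rw [IsLocallyConstant.iff_exists_open]
  intro y
  obtain ⟨W₁, hW, hyW, -⟩ := Opens.isBasis_iff_nbhd.mp S.isBasis_affineOpens (Opens.mem_top y)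
  let W : S.Opens := W₁
  replace hW : IsAffineOpen W := hW
  have : IsNoetherianRing Γ(S, W) := IsLocallyNoetherian.component_noetherian ⟨W, hW⟩
  obtain ⟨P, hP, hpos, ⟨i₀, hi₀⟩, hd, -⟩ := exists_localComplex f F hF hfl hW
  let n : ℕ := (-i₀).toNat + 1
  let χ : PrimeSpectrum Γ(S, W) → ℤ := fun x =>
    ∑ j ∈ Finset.range (n + 1), (-1 : ℤ) ^ j * (CohIII.dRank P (-(j : ℤ)) x : ℤ)
  have hlc : IsLocallyConstant χ :=
    isLocallyConstant_sum_dRank P hP (hpos 1 one_pos) i₀ hi₀ (by omega)
  have heq : ∀ (z : S) (hz : z ∈ W), PerfAux.eulerChar f F z = χ (hW.primeIdealOf ⟨z, hz⟩) := by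
    intro z hz
    have hb : ∀ j : ℕ, PerfAux.betti f F z j = CohIII.dRank P (-(j : ℤ)) (hW.primeIdealOf ⟨z, hz⟩) :=
      fun j => (show PerfAux.betti f F z j = CohIII.fiberRank f F j z from rfl).trans (hd j z hz)
    unfold PerfAux.eulerChar
    rw [finsum_eq_sum_of_support_subset _ (s := Finset.range (n + 1)) fun j hj => ?_]
    · exact Finset.sum_congr rfl fun j _ => by rw [hb]
    · by_contra hc
      simp only [Finset.coe_range, Set.mem_Iio, not_lt] at hc
      refine hj ?_
      show (-1 : ℤ) ^ j * (PerfAux.betti f F z j : ℤ) = 0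
      rw [hb, dRank_eq_zero_of_isZero P hP _ _ (hi₀ _ (by omega)) (hi₀ _ (by omega)), Nat.cast_zero, mul_zero]
  let x := hW.primeIdealOf ⟨y, hyW⟩
  refine ⟨hW.fromSpec '' {z | χ z = χ x}, hW.fromSpec.isOpenEmbedding.isOpenMap _ (hlc.isOpen_fiber _),
    ⟨x, rfl, hW.fromSpec_primeIdealOf _⟩, ?_⟩
  rintro _ ⟨z, hz, rfl⟩
  have hzV : hW.fromSpec z ∈ W := hW.range_fromSpec.le ⟨z, rfl⟩
  rw [heq _ hzV, heq y hyW, show hW.primeIdealOf ⟨hW.fromSpec z, hzV⟩ = z from
    hW.fromSpec.isOpenEmbedding.injective (hW.fromSpec_primeIdealOf _)]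
  exact hz

end Groth.Agent.Coherent.CohBC
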