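import Groth.Agent.S1455
import Groth.Agent.Coherent.CohBC.EulerConst
import Groth.Agent.Coherent.CohBC.FibreInvariance
import Groth.Agent.Coherent.FinitePres
import Groth.Agent.ZClosLib.Descent

/-!
# Finitely many Euler characteristics in a family

For a proper morphism to a Noetherian scheme and a coherent sheaf on the source, the Euler characteristics of
the fibres take only finitely many values (flatten by a finite stratification).
-/

set_option autoImplicit false
set_option backward.isDefEq.respectTransparency false
set_option linter.style.haveILetI false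

universe u

open CategoryTheory CategoryTheory.Limits AlgebraicGeometry TopologicalSpace

namespace Groth.Agent.Coherent.CohBC

/-- The Euler characteristics of the fibres of a coherent sheaf take finitely many values. -/
theorem finite_range_eulerChar {X S : Scheme.{u}} (f : X ⟶ S) [IsProper f] [IsNoetherian S] {G : X.Modules}
    (hG : Coh.IsCoh G) : (Set.range fun s : S => PerfAux.eulerChar f G s).Finite := by
  haveI : IsLocallyNoetherian X := LocallyOfFiniteType.isLocallyNoetherian f
  haveI := hG.1
  haveI : LocallyOfFinitePresentation f :=
    LocallyOfFinitePresentation.iff_locallyOfFiniteType.2 inferInstance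
  obtain ⟨t, I, -, hlast, h0, -, hflat⟩ := Groth.Agent.S1455.result f G hG.1 (isFP_of_isCoh hG)
  let j : ∀ i : Fin t, ((I i.castSucc).subschemeι ⁻¹ᵁ (I i.succ).support.compl).toScheme ⟶ S :=
    fun i => ((I i.castSucc).subschemeι ⁻¹ᵁ (I i.succ).support.compl).ι ≫ (I i.castSucc).subschemeι
  have hcov : ∀ s : S, ∃ (i : Fin t) (z : _), j i z = s := by
    intro s
    by_contra hne
    have hall : ∀ i : Fin (t + 1), s ∈ ((I i).support : Set S) := by
      refine Fin.induction (by rw [h0]; trivial) fun i hi => ?_
      by_contra hc
      obtain ⟨w, hw⟩ : s ∈ Set.range (I i.castSucc).subschemeι := by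
        rw [Scheme.IdealSheafData.range_subschemeι]; exact hi
      refine hne ⟨i, ⟨w, ?_⟩, hw⟩
      show (I i.castSucc).subschemeι w ∈ ((I i.succ).support.compl : Set S)
      rw [hw]; exact hc
    have := hall (Fin.last t)
    rw [hlast, Scheme.IdealSheafData.support_top] at this
    exact this
  have hfin : ∀ i : Fin t, (Set.range fun z => PerfAux.eulerChar (pullback.snd f (j i))
      ((Scheme.Modules.pullback (pullback.fst f (j i))).obj G) z).Finite := by
    intro i
    haveI : IsLocallyNoetherian ((I i.castSucc).subschemeι ⁻¹ᵁ (I i.succ).support.compl).toScheme :=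
      LocallyOfFiniteType.isLocallyNoetherian (j i)
    haveI : NoetherianSpace (I i.castSucc).subscheme :=
      (I i.castSucc).subschemeι.isEmbedding.toIsInducing.noetherianSpace
    haveI : CompactSpace ((I i.castSucc).subschemeι ⁻¹ᵁ (I i.succ).support.compl).toScheme :=
      isCompact_iff_compactSpace.mp (NoetherianSpace.isCompact _)
    exact (isLocallyConstant_eulerChar (pullback.snd f (j i))
      (ZClosLib.isCoh_pullback (pullback.fst f (j i)) G hG) (hflat i)).range_finite
  refine (Set.finite_iUnion hfin).subset ?_
  rintro _ ⟨s, rfl⟩
  obtain ⟨i, z, rfl⟩ := hcov s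
  exact Set.mem_iUnion.2 ⟨i, z, eulerChar_pullback (IsPullback.of_hasPullback f (j i)) G z⟩

end Groth.Agent.Coherent.CohBC
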