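import Groth.Agent.ModStalk.Pullback
import Groth.Agent.EGA43.InjFibre.StalkBridge
import Groth.Agent.Props12.Stalks
import Groth.Agent.Props12.FinLocFree
import Groth.Agent.EGA43.InjCokerFlat
import Groth.Agent.PicLib.BasisOn

/-!
# Morphisms injective or surjective on a closed fibre
-/

set_option autoImplicit false
set_option backward.isDefEq.respectTransparency false

universe u

open CategoryTheory CategoryTheory.Limits AlgebraicGeometry Opposite TopologicalSpace TensorProduct Function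

namespace Groth.Agent.Coherent.CohBC

theorem tmul_one_eq_zero_iff {B C : Type u} [CommRing B] [CommRing C] [Algebra B C] {M : Type u}
    [AddCommGroup M] [Module B M] (h : Surjective (algebraMap B C)) (m : M) :
    (1 : C) ⊗ₜ[B] m = 0 ↔ m ∈ RingHom.ker (algebraMap B C) • (⊤ : Submodule B M) := by
  let e : (B ⧸ RingHom.ker (Algebra.ofId B C).toRingHom) ≃ₐ[B] C :=
    Ideal.quotientKerAlgEquivOfSurjective (f := Algebra.ofId B C) h
  let E := (TensorProduct.congr e.symm.toLinearEquiv (LinearEquiv.refl B M)).trans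
    (quotTensorEquivQuotSMul M (RingHom.ker (Algebra.ofId B C).toRingHom))
  have hE : E ((1 : C) ⊗ₜ[B] m) = Submodule.Quotient.mk m := by
    simp only [E, LinearEquiv.trans_apply, TensorProduct.congr_tmul, AlgEquiv.toLinearEquiv_apply,
      map_one, LinearEquiv.refl_apply]
    rw [show (1 : B ⧸ RingHom.ker (Algebra.ofId B C).toRingHom) = Ideal.Quotient.mk _ 1 from rfl,
      quotTensorEquivQuotSMul_mk_tmul, one_smul]
  rw [← E.map_eq_zero_iff, hE, Submodule.Quotient.mk_eq_zero]
  rfl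

variable {Z X : Scheme.{u}} (σ : Z ⟶ X) (z : Z) {F G : X.Modules} (u : F ⟶ G)

/-- `u` on stalks, as a linear map. -/
noncomputable abbrev stalkLin : (DerSch.stalkFunctor X (σ.base z)).obj F ⟶
    (DerSch.stalkFunctor X (σ.base z)).obj G :=
  (DerSch.stalkFunctor X (σ.base z)).map u

theorem mono_extendScalars_of_mono [Mono ((Scheme.Modules.pullback σ).map u)] :
    Mono ((ModuleCat.extendScalars (σ.stalkMap z).hom).map (stalkLin σ z u)) := by
  refine ((MorphismProperty.monomorphisms _).arrow_mk_iso_iff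
    (Arrow.isoMk ((ModStalk.pullbackStalkIso σ z).app F) ((ModStalk.pullbackStalkIso σ z).app G)
      ((ModStalk.pullbackStalkIso σ z).hom.naturality u).symm)).1 ?_
  exact inferInstanceAs (Mono ((DerSch.stalkFunctor Z z).map ((Scheme.Modules.pullback σ).map u)))

theorem epi_extendScalars_of_epi [Epi ((Scheme.Modules.pullback σ).map u)] :
    Epi ((ModuleCat.extendScalars (σ.stalkMap z).hom).map (stalkLin σ z u)) := by
  refine ((MorphismProperty.epimorphisms _).arrow_mk_iso_iff
    (Arrow.isoMk ((ModStalk.pullbackStalkIso σ z).app F) ((ModStalk.pullbackStalkIso σ z).app G)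
      ((ModStalk.pullbackStalkIso σ z).hom.naturality u).symm)).1 ?_
  exact inferInstanceAs (Epi ((DerSch.stalkFunctor Z z).map ((Scheme.Modules.pullback σ).map u)))

variable (hσ : Surjective (σ.stalkMap z).hom)
include hσ

theorem mem_smul_top_of_mono [Mono ((Scheme.Modules.pullback σ).map u)]
    (m : F.presheaf.stalk (σ.base z))
    (h : (stalkLin σ z u).hom m ∈ RingHom.ker (σ.stalkMap z).hom •
      (⊤ : Submodule (X.presheaf.stalk (σ.base z)) (G.presheaf.stalk (σ.base z)))) :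
    m ∈ RingHom.ker (σ.stalkMap z).hom •
      (⊤ : Submodule (X.presheaf.stalk (σ.base z)) (F.presheaf.stalk (σ.base z))) := by
  let _ : Algebra (X.presheaf.stalk (σ.base z)) (Z.presheaf.stalk z) := (σ.stalkMap z).hom.toAlgebra
  have hi := (ModuleCat.mono_iff_injective _).1 (mono_extendScalars_of_mono σ z u)
  refine (tmul_one_eq_zero_iff (C := Z.presheaf.stalk z) hσ m).1 (hi ?_)
  refine (ModuleCat.ExtendScalars.map_tmul _ (stalkLin σ z u) 1 m).trans ?_
  rw [(tmul_one_eq_zero_iff (C := Z.presheaf.stalk z) hσ _).2 h, map_zero]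

theorem surjective_stalk_of_epi [Epi ((Scheme.Modules.pullback σ).map u)]
    [Module.Finite (X.presheaf.stalk (σ.base z)) (G.presheaf.stalk (σ.base z))]
    (hJ : RingHom.ker (σ.stalkMap z).hom ≤ Ideal.jacobson ⊥) :
    Surjective (stalkLin σ z u).hom := by
  let _ : Algebra (X.presheaf.stalk (σ.base z)) (Z.presheaf.stalk z) := (σ.stalkMap z).hom.toAlgebra
  have hs := (ModuleCat.epi_iff_surjective _).1 (epi_extendScalars_of_epi σ z u)
  have hgen : ∀ w : (ModuleCat.extendScalars (σ.stalkMap z).hom).obj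
      ((DerSch.stalkFunctor X (σ.base z)).obj F),
      ∃ m : F.presheaf.stalk (σ.base z), w = (1 : Z.presheaf.stalk z) ⊗ₜ[X.presheaf.stalk (σ.base z)] m := by
    intro w
    induction w using TensorProduct.induction_on with
    | zero => exact ⟨0, (tmul_zero _ _).symm⟩
    | tmul c m =>
      obtain ⟨r, rfl⟩ := hσ c
      refine ⟨r • m, ?_⟩
      rw [← smul_tmul, Algebra.smul_def, mul_one]
      rfl
    | add a b ha hb =>
      obtain ⟨m, rfl⟩ := ha
      obtain ⟨m', rfl⟩ := hb
      exact ⟨m + m', (tmul_add _ _ _).symm⟩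
  rw [← LinearMap.range_eq_top]
  refine eq_top_iff.2 (Submodule.le_of_le_smul_of_le_jacobson_bot
    (show (⊤ : Submodule (X.presheaf.stalk (σ.base z)) (G.presheaf.stalk (σ.base z))).FG from
      Module.Finite.fg_top) hJ fun n _ => ?_)
  obtain ⟨w, hw⟩ := hs ((1 : Z.presheaf.stalk z) ⊗ₜ[X.presheaf.stalk (σ.base z)] n)
  obtain ⟨m, rfl⟩ := hgen w
  have hw' : (1 : Z.presheaf.stalk z) ⊗ₜ[X.presheaf.stalk (σ.base z)] (stalkLin σ z u).hom m =
      (1 : Z.presheaf.stalk z) ⊗ₜ[X.presheaf.stalk (σ.base z)] n :=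
    (ModuleCat.ExtendScalars.map_tmul _ (stalkLin σ z u) 1 m).symm.trans hw
  refine Submodule.mem_sup.2 ⟨_, ⟨m, rfl⟩, n - (stalkLin σ z u).hom m, ?_, add_sub_cancel _ _⟩
  refine (tmul_one_eq_zero_iff (C := Z.presheaf.stalk z) hσ _).1 ?_
  rw [tmul_sub, hw', sub_self]

omit hσ

theorem mono_of_injective_stalks (h : ∀ x : X, Injective (EGA43.InjCokerFlat.stalkMapOf u x)) : Mono u :=
  Preadditive.mono_of_isZero_kernel _ (ModStalk.isZero_of_stalks fun x => by
    have : Mono ((DerSch.stalkFunctor X x).map u) := (ModuleCat.mono_iff_injective _).2 (h x)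
    exact IsZero.of_iso (isZero_kernel_of_mono ((DerSch.stalkFunctor X x).map u))
      (PreservesKernel.iso (DerSch.stalkFunctor X x) u))

theorem epi_of_surjective_stalks (h : ∀ x : X, Surjective (EGA43.InjCokerFlat.stalkMapOf u x)) : Epi u :=
  Preadditive.epi_of_isZero_cokernel _ (ModStalk.isZero_of_stalks fun x => by
    have : Epi ((DerSch.stalkFunctor X x).map u) := (ModuleCat.epi_iff_surjective _).2 (h x)
    exact IsZero.of_iso (isZero_cokernel_of_epi ((DerSch.stalkFunctor X x).map u))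
      (PreservesCokernel.iso (DerSch.stalkFunctor X x) u))

variable {S : Scheme.{u}} (f : X ⟶ S) [IsProper f] [IsLocallyNoetherian S]
  (hF : FlatMod.IsFinLocFree F) (hG : FlatMod.IsFinLocFree G) [Coh.IsQCoh F] [Coh.IsQCoh G] {y : S}
  (hy : ∀ U : S.Opens, y ∈ U → U = ⊤)
include hy

omit [IsLocallyNoetherian S] in
theorem eq_univ_of_fibre_subset {O : Set X} (hO : IsOpen O) (h : f.base ⁻¹' {y} ⊆ O) : O = Set.univ := by
  let C : S.Opens := ⟨(f.base '' Oᶜ)ᶜ, (f.isClosedMap _ hO.isClosed_compl).isOpen_compl⟩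
  have hC := hy C (by rintro ⟨x, hx, hxy⟩; exact hx (h hxy))
  refine Set.eq_univ_of_forall fun x => by_contra fun hx => ?_
  exact (show f.base x ∈ C from hC ▸ trivial) ⟨x, hx, rfl⟩

include hF hG

theorem mono_of_mono_closedFibre (hfl : FlatMod.IsFlatOver f G)
    [Mono ((Scheme.Modules.pullback (f.fiberι y)).map u)] : Mono u := by
  refine mono_of_injective_stalks u fun x => ?_
  have h := eq_univ_of_fibre_subset f hy (EGA43.InjCokerFlat.isOpen_setOf f
    (Props12.isFP_of_isFinLocFree G hG) (Props12.isFP_of_isFinLocFree F hF) u) fun x hx => ?_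
  · exact ((Set.eq_univ_iff_forall.1 h) x).1
  · obtain ⟨z, rfl⟩ : x ∈ Set.range (f.fiberι y) := by rw [f.range_fiberι]; exact hx
    obtain ⟨hs, hker⟩ := Props12.stalkMap_fiberι f y z
    refine (EGA43.InjFibre.inj_and_coker_flat_iff f (Props12.isFP_of_isFinLocFree G hG)
      (Props12.isFP_of_isFinLocFree F hF) u _ (hfl _)).2 fun m hm => ?_
    rw [← hker] at hm ⊢
    exact mem_smul_top_of_mono (f.fiberι y) z u hs m hm

omit hF [Coh.IsQCoh F] [IsLocallyNoetherian S] in
theorem epi_of_epi_closedFibre [Epi ((Scheme.Modules.pullback (f.fiberι y)).map u)] : Epi u := by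
  refine epi_of_surjective_stalks u fun x => ?_
  obtain ⟨x₀, hx₀, hsp⟩ : ∃ x₀, f.base x₀ = y ∧ x ⤳ x₀ := by
    by_contra hne
    have := eq_univ_of_fibre_subset f hy (O := (closure {x})ᶜ) isClosed_closure.isOpen_compl
      fun x₀ h₀ hc => hne ⟨x₀, h₀, specializes_iff_mem_closure.2 hc⟩
    exact ((Set.eq_univ_iff_forall.1 this) x) (subset_closure rfl)
  obtain ⟨z, rfl⟩ : x₀ ∈ Set.range (f.fiberι y) := by rw [f.range_fiberι]; exact hx₀
  obtain ⟨hs, hker⟩ := Props12.stalkMap_fiberι f y z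
  obtain ⟨U', n, hzU', hb⟩ := Props12.exists_nhd_basis_stalk G hG ((f.fiberι y).base z)
  obtain ⟨b⟩ := hb _ hzU'
  have : Module.Finite (X.presheaf.stalk ((f.fiberι y).base z)) (G.presheaf.stalk ((f.fiberι y).base z)) :=
    Module.Finite.of_basis b
  have hsurj := surjective_stalk_of_epi (f.fiberι y) z u hs (by
    rw [hker, IsLocalRing.jacobson_eq_maximalIdeal ⊥ bot_ne_top]
    exact Ideal.map_le_iff_le_comap.2 fun b hb => map_nonunit (f.stalkMap _).hom b hb)
  obtain ⟨U, k, d, hzU, hd⟩ := PicLib.exists_isBasisOn hG ((f.fiberι y).base z)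
  have hnear : ∀ i, ∃ (V : X.Opens) (hV : V ≤ U) (a : Γ(F, V)), (f.fiberι y).base z ∈ V ∧
      u.app V a = Coherent.resM G hV (d i) := fun i => by
    obtain ⟨m, hm⟩ := hsurj (G.presheaf.germ U _ hzU (d i))
    obtain ⟨W, hzW, a, rfl⟩ := F.presheaf.exists_germ_eq m
    change EGA43.InjCokerFlat.stalkMapOf u _ _ = _ at hm
    rw [EGA43.InjCokerFlat.stalkMapOf_germ] at hm
    obtain ⟨V, hzV, i₁, i₂, hV⟩ := G.presheaf.germ_eq _ hzW hzU _ _ hm
    exact ⟨V, i₂.le, Coherent.resM F i₁.le a, hzV, (Coherent.app_resM u i₁.le a).trans hV⟩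
  choose V hV a hzV ha using hnear
  let B : X.Opens := U ⊓ ⟨⋂ i, (V i : Set X), isOpen_iInter_of_finite fun i => (V i).2⟩
  have hxB : x ∈ B := hsp.mem_open B.2 ⟨hzU, Set.mem_iInter.2 hzV⟩
  have hBV : ∀ i, B ≤ V i := fun i p hp => Set.mem_iInter.1 hp.2 i
  intro w
  obtain ⟨W, hxW, g, rfl⟩ := G.presheaf.exists_germ_eq w
  let B' : X.Opens := W ⊓ B
  obtain ⟨c, hc⟩ := (hd (show B' ≤ U from inf_le_right.trans inf_le_left)).2
    (Coherent.resM G (inf_le_left : B' ≤ W) g)
  refine ⟨F.presheaf.germ B' x ⟨hxW, hxB⟩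
    (∑ i, c i • Coherent.resM F (inf_le_right.trans (hBV i)) (a i)), ?_⟩
  rw [EGA43.InjCokerFlat.stalkMapOf_germ]
  refine Eq.trans (congrArg _ (Eq.trans ?_ hc)) (TopCat.Presheaf.germ_res_apply _ _ x _ g)
  rw [map_sum]
  refine Finset.sum_congr rfl fun i _ => ?_
  rw [Scheme.Modules.Hom.app_smul, Coherent.app_resM, ha, Coherent.resM_resM]

end Groth.Agent.Coherent.CohBC
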