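import Groth.Agent.Coherent.CohBC.TwistBC
import Groth.Agent.AmpleLib.Twist2
import Groth.Agent.Props12.FlatOver
import Mathlib.Algebra.DirectSum.Module

/-!
# Flatness from the flatness of high twisted sections

On the affine locus `D` of a section `c` of `L`, `Γ(F, D)` is the union of the `Γ(X, F ⊗ L^n)`; hence if all
`B ⊗_A Γ(X, F ⊗ L^n)` are flat over `B` for large `n`, the pullback of `F` is flat over `B` above `D`.
-/

set_option autoImplicit false
set_option backward.isDefEq.respectTransparency false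
set_option linter.style.haveILetI false

universe u

open CategoryTheory CategoryTheory.Limits AlgebraicGeometry Opposite TopologicalSpace TensorProduct Function
open Groth.Agent.Coherent Groth.Agent.PicLib Groth.Agent.AmpleLib

namespace Groth.Agent.Coherent.CohBC

section Algebra

variable {A : Type u} [CommRing A] {E : ℕ → Type u} [∀ n, AddCommGroup (E n)] [∀ n, Module A (E n)]
  {M : Type u} [AddCommGroup M] [Module A M] (ρ : ∀ n, E n →ₗ[A] M) (τ : ∀ k l, k ≤ l → (E k →ₗ[A] E l))
  (hτ : ∀ k l h z, ρ l (τ k l h z) = ρ k z) (hsurj : ∀ x, ∃ n z, ρ n z = x)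
include hτ hsurj

/-- Every element of `Q ⊗ M` comes from every large enough stage. -/
theorem exists_lTensor_stage (Q : Type u) [AddCommGroup Q] [Module A Q] (x : Q ⊗[A] M) (N : ℕ) :
    ∃ n, N ≤ n ∧ ∃ w, (ρ n).lTensor Q w = x := by
  have up : ∀ {k l : ℕ} (h : k ≤ l) (w : Q ⊗[A] E k),
      (ρ l).lTensor Q ((τ k l h).lTensor Q w) = (ρ k).lTensor Q w := fun {k l} h w => by
    rw [← LinearMap.comp_apply, ← LinearMap.lTensor_comp,
      show ρ l ∘ₗ τ k l h = ρ k from LinearMap.ext (hτ k l h)]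
  induction x using TensorProduct.induction_on with
  | zero => exact ⟨N, le_rfl, 0, map_zero _⟩
  | tmul q m =>
    obtain ⟨n, z, rfl⟩ := hsurj m
    exact ⟨max N n, le_max_left _ _, q ⊗ₜ τ n _ (le_max_right N n) z, by rw [LinearMap.lTensor_tmul, hτ]⟩
  | add a b ha hb =>
    obtain ⟨i, hi, wa, rfl⟩ := ha
    obtain ⟨j, hj, wb, rfl⟩ := hb
    exact ⟨max i j, hi.trans (le_max_left _ _), (τ i _ (le_max_left i j)).lTensor Q wa +
      (τ j _ (le_max_right i j)).lTensor Q wb, by rw [map_add, up, up]⟩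

variable (hfun : ∀ k l p hkl hlp z, τ l p hlp (τ k l hkl z) = τ k p (le_trans hkl hlp) z)
  (hker : ∀ n z, ρ n z = 0 → ∃ l h, τ n l h z = 0)
include hfun hker

/-- An element of a stage that vanishes in `Q ⊗ M` vanishes at a later stage. -/
theorem exists_lTensor_stage_zero (Q : Type u) [AddCommGroup Q] [Module A Q] (n : ℕ) (w : Q ⊗[A] E n)
    (hw : (ρ n).lTensor Q w = 0) : ∃ (l : ℕ) (h : n ≤ l), (τ n l h).lTensor Q w = 0 := by
  classical
  let S := DirectSum ℕ E
  let ι : ∀ k, E k →ₗ[A] S := DirectSum.lof A ℕ E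
  let π : S →ₗ[A] M := DirectSum.toModule A ℕ M ρ
  have hπ : ∀ k z, π (ι k z) = ρ k z := fun k z => DirectSum.toModule_lof A k z
  have hπs : Surjective π := fun x => by
    obtain ⟨k, z, rfl⟩ := hsurj x
    exact ⟨ι k z, hπ k z⟩
  let P : ∀ L, S →ₗ[A] E L := fun L =>
    DirectSum.toModule A ℕ (E L) fun k => if h : k ≤ L then τ k L h else 0
  have hP : ∀ L k (h : k ≤ L) z, P L (ι k z) = τ k L h z := fun L k h z =>
    (DirectSum.toModule_lof A k z).trans (by rw [dif_pos h])
  have hsup : ∀ s : S, ∃ L, ∀ L', L ≤ L' → ρ L' (P L' s) = π s ∧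
      ∀ L'' (h : L' ≤ L''), τ L' L'' h (P L' s) = P L'' s := fun s => by
    induction s using DirectSum.induction_on with
    | zero => exact ⟨0, fun L' _ => ⟨by simp, fun L'' h => by simp⟩⟩
    | of k z => exact ⟨k, fun L' h => by
        rw [show DirectSum.of E k z = ι k z from rfl, hP L' k h, hτ, hπ]
        exact ⟨rfl, fun L'' h' => by rw [hP L'' k (h.trans h'), hfun]⟩⟩
    | add a b ha hb =>
      obtain ⟨i, hi⟩ := ha
      obtain ⟨j, hj⟩ := hb
      exact ⟨max i j, fun L' h => by
        obtain ⟨h1, h1'⟩ := hi L' (le_of_max_le_left h)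
        obtain ⟨h2, h2'⟩ := hj L' (le_of_max_le_right h)
        exact ⟨by simp only [map_add, h1, h2], fun L'' h' => by simp only [map_add, h1', h2']⟩⟩
  have hkill : ∀ v : Q ⊗[A] LinearMap.ker π,
      ∃ L, ∀ L', L ≤ L' → (P L').lTensor Q ((LinearMap.ker π).subtype.lTensor Q v) = 0 := by
    intro v
    induction v using TensorProduct.induction_on with
    | zero => exact ⟨0, fun L' _ => by simp⟩
    | tmul q s =>
      obtain ⟨L, hL⟩ := hsup s.1
      obtain ⟨l, hl, hz⟩ := hker L (P L s.1) ((hL L le_rfl).1.trans s.2)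
      refine ⟨l, fun L' h => ?_⟩
      simp only [LinearMap.lTensor_tmul, Submodule.subtype_apply]
      rw [← (hL L le_rfl).2 L' (hl.trans h), ← hfun L l L' hl h, hz, map_zero, TensorProduct.tmul_zero]
    | add a b ha hb =>
      obtain ⟨i, hi⟩ := ha
      obtain ⟨j, hj⟩ := hb
      exact ⟨max i j, fun L' h => by
        simp only [map_add, hi L' (le_of_max_le_left h), hj L' (le_of_max_le_right h), add_zero]⟩
  have h0 : π.lTensor Q ((ι n).lTensor Q w) = 0 := by
    rw [← LinearMap.comp_apply, ← LinearMap.lTensor_comp, show π ∘ₗ ι n = ρ n from LinearMap.ext (hπ n)]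
    exact hw
  obtain ⟨v, hv⟩ := (lTensor_exact Q π.exact_subtype_ker_map hπs _).1 h0
  obtain ⟨L, hL⟩ := hkill v
  refine ⟨max n L, le_max_left _ _, ?_⟩
  have := hL (max n L) (le_max_right _ _)
  rwa [hv, ← LinearMap.comp_apply, ← LinearMap.lTensor_comp,
    show P (max n L) ∘ₗ ι n = τ n _ (le_max_left n L) from LinearMap.ext (hP _ n _)] at this

/-- A union of stages whose base changes are flat has flat base change. -/
theorem flat_baseChange_of_stages {B : Type u} [CommRing B] [Algebra A B] (N : ℕ)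
    (hflat : ∀ n, N ≤ n → Module.Flat B (B ⊗[A] E n)) : Module.Flat B (B ⊗[A] M) := by
  let ρ' := fun n => (ρ n).baseChange B
  let τ' := fun k l h => (τ k l h).baseChange B
  have hτ' : ∀ k l h z, ρ' l (τ' k l h z) = ρ' k z := fun k l h z => by
    show (ρ l).baseChange B ((τ k l h).baseChange B z) = _
    rw [← LinearMap.comp_apply, ← LinearMap.baseChange_comp,
      show ρ l ∘ₗ τ k l h = ρ k from LinearMap.ext (hτ k l h)]
  have hfun' : ∀ k l p hkl hlp z, τ' l p hlp (τ' k l hkl z) = τ' k p (le_trans hkl hlp) z :=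
    fun k l p hkl hlp z => by
    show (τ l p hlp).baseChange B ((τ k l hkl).baseChange B z) = _
    rw [← LinearMap.comp_apply, ← LinearMap.baseChange_comp,
      show τ l p hlp ∘ₗ τ k l hkl = τ k p (hkl.trans hlp) from LinearMap.ext (hfun k l p hkl hlp)]
  have hsurj' : ∀ x, ∃ n z, ρ' n z = x := fun x => by
    obtain ⟨n, -, w, hw⟩ := exists_lTensor_stage ρ τ hτ hsurj B x 0
    exact ⟨n, w, hw⟩
  have hker' : ∀ n z, ρ' n z = 0 → ∃ l h, τ' n l h z = 0 := fun n z hz =>
    exists_lTensor_stage_zero ρ τ hτ hsurj hfun hker B n z hz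
  rw [Module.Flat.iff_rTensor_preserves_injective_linearMap]
  intro P Q _ _ _ _ f hf
  rw [injective_iff_map_eq_zero]
  intro x hx
  obtain ⟨n, hn, w, rfl⟩ := exists_lTensor_stage ρ' τ' hτ' hsurj' P x N
  have h1 : (ρ' n).lTensor Q (f.rTensor (B ⊗[A] E n) w) = 0 := by
    rw [← hx, ← LinearMap.comp_apply, ← LinearMap.comp_apply, LinearMap.lTensor_comp_rTensor,
      LinearMap.rTensor_comp_lTensor]
  obtain ⟨l, hl, h2⟩ := exists_lTensor_stage_zero ρ' τ' hτ' hsurj' hfun' hker' Q n _ h1
  have h3 : (τ' n l hl).lTensor P w = 0 := by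
    haveI := hflat l (hn.trans hl)
    refine Module.Flat.rTensor_preserves_injective_linearMap (M := B ⊗[A] E l) f hf ?_
    rw [map_zero, ← h2, ← LinearMap.comp_apply, ← LinearMap.comp_apply, LinearMap.lTensor_comp_rTensor,
      LinearMap.rTensor_comp_lTensor]
  rw [← show (ρ' l).comp (τ' n l hl) = ρ' n from LinearMap.ext (hτ' n l hl), LinearMap.lTensor_comp,
    LinearMap.comp_apply, h3, map_zero]

end Algebra

section Geometry

variable {X : Scheme.{u}}

/-- Multiplication by a global section. -/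
noncomputable def mulSecHom (M : X.Modules) {N : X.Modules} (c : Γ(N, ⊤)) : M ⟶ CohB1.tensorMod M N :=
  ⟨PresheafOfModules.homMk
    { app := fun W => AddCommGrpCat.ofHom (AddMonoidHom.mk'
        (fun a : Γ(M, W.unop) => (tmul a (resM N le_top c) : Γ(CohB1.tensorMod M N, W.unop)))
        fun a b => tmul_add_left a b _)
      naturality := fun V W f => ConcreteCategory.hom_ext _ _ fun a => by
        show tmul (resM M (leOfHom f.unop) a) (resM N le_top c) =
          resM (CohB1.tensorMod M N) (leOfHom f.unop) (tmul a (resM N le_top c))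
        rw [resM_tmul, resM_resM] }
    fun W r a => tmul_smul_left (U := W.unop) r a (resM N le_top c)⟩

theorem mulSecHom_app (M : X.Modules) {N : X.Modules} (c : Γ(N, ⊤)) (U : X.Opens) (a : Γ(M, U)) :
    (mulSecHom M c).app U a = tmul a (resM N le_top c) := rfl

variable (F : X.Modules) {L : X.Modules} (c : Γ(L, ⊤))

/-- The transition `F ⊗ L^n ⟶ F ⊗ L^{n+1}`. -/
noncomputable def stepHom (n : ℕ) :
    CohB1.tensorMod F (CohB1.tensorPow L n) ⟶ CohB1.tensorMod F (CohB1.tensorPow L (n + 1)) :=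
  tensorMap (𝟙 F) (mulSecHom (CohB1.tensorPow L n) c)

theorem stepHom_tmul (n : ℕ) (U : X.Opens) (x : Γ(F, U)) (y : Γ(CohB1.tensorPow L n, U)) :
    (stepHom F c n).app U (tmul x y) = tmul x (tmul y (resM L le_top c)) :=
  (tensorMap_tmul _ _ x y).trans rfl

theorem stepHom_powSec (n : ℕ) (U : X.Opens) (x : Γ(F, U)) :
    (stepHom F c n).app U (tmul x (powSec (resM L le_top c) n)) = tmul x (powSec (resM L le_top c) (n + 1)) :=
  stepHom_tmul F c n U x _

theorem stepHom_gen (n : ℕ) {U : X.Opens} {g : Γ(L, U)} (hg : IsGen L U g) (x : Γ(F, U)) :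
    (stepHom F c n).app U (tmul x (powSec g n)) =
      tmul (hg.coef le_rfl (resM L le_top c) • x) (powSec g (n + 1)) := by
  have h := hg.coef_spec le_rfl (resM L le_top c)
  rw [resM_self] at h
  rw [stepHom_tmul]
  conv_lhs => rw [← h, tmul_smul_right, tmul_smul_right, ← tmul_smul_left]
  rfl

variable {A : Type u} [CommRing A] [X.Over (Spec (CommRingCat.of A))]

/-- The transition between two stages. -/
noncomputable def stageMap (k l : ℕ) (h : k ≤ l) :
    Γ(CohB1.tensorMod F (CohB1.tensorPow L k), ⊤) →ₗ[A] Γ(CohB1.tensorMod F (CohB1.tensorPow L l), ⊤) :=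
  Nat.leRecOn (C := fun l => Γ(CohB1.tensorMod F (CohB1.tensorPow L k), ⊤) →ₗ[A]
      Γ(CohB1.tensorMod F (CohB1.tensorPow L l), ⊤)) h
    (fun {j} f => (⟨⟨fun z => (stepHom F c j).app ⊤ z, map_add _⟩, fun a z => app_smulA (stepHom F c j) ⊤ a z⟩ :
      Γ(CohB1.tensorMod F (CohB1.tensorPow L j), ⊤) →ₗ[A]
        Γ(CohB1.tensorMod F (CohB1.tensorPow L (j + 1)), ⊤)) ∘ₗ f) LinearMap.id

theorem stageMap_self (k : ℕ) (z : Γ(CohB1.tensorMod F (CohB1.tensorPow L k), ⊤)) :
    stageMap (A := A) F c k k le_rfl z = z := by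
  rw [stageMap, Nat.leRecOn_self]
  rfl

theorem stageMap_succ (k l : ℕ) (h : k ≤ l) (z : Γ(CohB1.tensorMod F (CohB1.tensorPow L k), ⊤)) :
    stageMap (A := A) F c k (l + 1) (h.trans (Nat.le_succ l)) z =
      (stepHom F c l).app ⊤ (stageMap (A := A) F c k l h z) := by
  rw [stageMap, Nat.leRecOn_succ h]
  rfl

theorem stageMap_trans (k l p : ℕ) (hkl : k ≤ l) (hlp : l ≤ p) (z : Γ(CohB1.tensorMod F (CohB1.tensorPow L k), ⊤)) :
    stageMap (A := A) F c l p hlp (stageMap (A := A) F c k l hkl z) =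
      stageMap (A := A) F c k p (hkl.trans hlp) z := by
  induction p, hlp using Nat.le_induction with
  | base => exact stageMap_self F c l _
  | succ p hlp ih => rw [stageMap_succ F c l p hlp, ih, ← stageMap_succ F c k p (hkl.trans hlp)]

/-- The value on the locus of `c`. -/
noncomputable def stageVal (n : ℕ) :
    Γ(CohB1.tensorMod F (CohB1.tensorPow L n), ⊤) →ₗ[A] Γ(F, glocus L c) :=
  (LinearEquiv.ofBijective
    (⟨⟨fun x => tmul x (powSec (resM L le_top c) n), fun x y => tmul_add_left x y _⟩,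
      fun a x => tmul_smul_left (toΓ A (glocus L c) a) x _⟩ :
      Γ(F, glocus L c) →ₗ[A] Γ(CohB1.tensorMod F (CohB1.tensorPow L n), glocus L c))
    (by
      have h := bijective_tmul_powSec (M := F) (isGen_glocus c) n (glocus L c) le_rfl
      rwa [resM_self] at h)).symm.toLinearMap ∘ₗ
  (⟨⟨fun z => resM _ le_top z, map_add _⟩, fun a z => resM_smulA _ _ a z⟩ :
    Γ(CohB1.tensorMod F (CohB1.tensorPow L n), ⊤) →ₗ[A]
      Γ(CohB1.tensorMod F (CohB1.tensorPow L n), glocus L c))

theorem stageVal_spec (n : ℕ) (z : Γ(CohB1.tensorMod F (CohB1.tensorPow L n), ⊤)) :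
    tmul (stageVal (A := A) F c n z) (powSec (resM L le_top c) n) = resM _ (le_top : glocus L c ≤ ⊤) z := by
  rw [stageVal]
  exact LinearEquiv.apply_symm_apply (LinearEquiv.ofBijective
    (⟨⟨fun x => tmul x (powSec (resM L le_top c) n), fun x y => tmul_add_left x y _⟩,
      fun a x => tmul_smul_left (toΓ A (glocus L c) a) x _⟩ :
      Γ(F, glocus L c) →ₗ[A] Γ(CohB1.tensorMod F (CohB1.tensorPow L n), glocus L c)) (by
      have h := bijective_tmul_powSec (M := F) (isGen_glocus c) n (glocus L c) le_rfl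
      rwa [resM_self] at h)) _

theorem stageVal_eq_iff (n : ℕ) (z : Γ(CohB1.tensorMod F (CohB1.tensorPow L n), ⊤)) (x : Γ(F, glocus L c)) :
    stageVal (A := A) F c n z = x ↔
      resM _ (le_top : glocus L c ≤ ⊤) z = tmul x (powSec (resM L le_top c) n) := by
  refine ⟨fun e => e ▸ (stageVal_spec F c n z).symm, fun e => ?_⟩
  have h := bijective_tmul_powSec (M := F) (isGen_glocus c) n (glocus L c) le_rfl
  rw [resM_self] at h
  exact h.1 ((stageVal_spec F c n z).trans e)

theorem stageVal_stageMap (k l : ℕ) (h : k ≤ l) (z : Γ(CohB1.tensorMod F (CohB1.tensorPow L k), ⊤)) :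
    stageVal (A := A) F c l (stageMap (A := A) F c k l h z) = stageVal (A := A) F c k z := by
  induction l, h using Nat.le_induction with
  | base => rw [stageMap_self]
  | succ l h ih =>
    rw [stageMap_succ F c k l h, stageVal_eq_iff, ← app_resM, ← stageVal_spec (A := A) F c l, ih]
    exact stepHom_powSec F c l _ _

theorem exists_stageMap_eq_zero [CompactSpace X] [Coh.IsQCoh F] (hL : PicF.IsInvertible L) (n : ℕ)
    (z : Γ(CohB1.tensorMod F (CohB1.tensorPow L n), ⊤)) (hz : stageVal (A := A) F c n z = 0) :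
    ∃ l h, stageMap (A := A) F c n l h z = 0 := by
  classical
  obtain ⟨ι, _, W, hW, -, hcov, hgen⟩ := exists_finite_gen_cover hL (W := (⊤ : X.Opens)) isCompact_univ
  choose g hg using hgen
  have := Fintype.ofFinite ι
  let r : ∀ i, Γ(X, W i) := fun i => (hg i).coef le_rfl (resM L le_top c)
  have hz' : resM _ (le_top : glocus L c ≤ ⊤) z = 0 := by
    rw [← stageVal_spec (A := A) F c n z, hz, tmul_zero_left]
  have hx : ∀ i, ∃ (m : ℕ) (x : Γ(F, W i)), resM _ (le_top : W i ≤ ⊤) z = tmul x (powSec (g i) n) ∧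
      r i ^ m • x = 0 := fun i => by
    have hb := bijective_tmul_powSec (M := F) (hg i) n (W i) le_rfl
    rw [resM_self] at hb
    obtain ⟨x, hx⟩ := hb.2 (resM _ (le_top : W i ≤ ⊤) z)
    obtain ⟨m, hm⟩ := exists_pow_smul_eq_zero_affine F c (hW i) (hg i) x (by
      have hb' := bijective_tmul_powSec (M := F) ((hg i).restrict (inf_le_right : glocus L c ⊓ W i ≤ W i)) n
        (glocus L c ⊓ W i) le_rfl
      rw [resM_self] at hb'
      refine hb'.1 ?_
      show tmul _ _ = tmul _ _
      rw [← resM_powSec, ← resM_tmul, show tmul x (powSec (g i) n) = _ from hx, resM_resM,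
        ← resM_resM _ (le_top : glocus L c ≤ ⊤) inf_le_left, hz', map_zero, tmul_zero_left])
    exact ⟨m, x, hx.symm, hm⟩
  choose m x hx hm using hx
  let N := Finset.univ.sup m
  have key : ∀ (j : ℕ) (i : ι), resM _ (le_top : W i ≤ ⊤) (stageMap (A := A) F c n (n + j) (Nat.le_add_right n j) z) =
      tmul (r i ^ j • x i) (powSec (g i) (n + j)) := by
    intro j i
    induction j with
    | zero =>
      show resM _ _ (stageMap (A := A) F c n n le_rfl z) = tmul (r i ^ 0 • x i) (powSec (g i) n)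
      rw [stageMap_self, hx i, pow_zero, one_smul]
    | succ j ih =>
      show resM _ _ (stageMap (A := A) F c n (n + j + 1) _ z) = tmul (r i ^ (j + 1) • x i) (powSec (g i) (n + j + 1))
      rw [stageMap_succ F c n (n + j) (Nat.le_add_right n j), ← app_resM, ih, stepHom_gen F c (n + j) (hg i),
        smul_smul, ← pow_succ']
  refine ⟨n + N, Nat.le_add_right n N, sec_ext _ _ _ fun y _ => ?_⟩
  obtain ⟨i, hyi⟩ := Opens.mem_iSup.1 (hcov (show y ∈ (⊤ : X.Opens) from trivial))
  refine ⟨W i, le_top, hyi, ?_⟩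
  obtain ⟨e, he⟩ := Nat.exists_eq_add_of_le (Finset.le_sup (f := m) (Finset.mem_univ i))
  rw [key N i, map_zero, show N = e + m i from he.trans (add_comm _ _), pow_add, mul_smul, hm i, smul_zero,
    tmul_zero_left]

/-- The sections on the affine locus have flat base change when all high stages do. -/
theorem flat_baseChange_glocus [CompactSpace X] [QuasiSeparatedSpace X] [Coh.IsQCoh F]
    (hL : PicF.IsInvertible L) {B : Type u} [CommRing B] [Algebra A B] (N : ℕ)
    (hflat : ∀ n, N ≤ n → Module.Flat B (B ⊗[A] Γ(CohB1.tensorMod F (CohB1.tensorPow L n), ⊤))) :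
    Module.Flat B (B ⊗[A] Γ(F, glocus L c)) :=
  flat_baseChange_of_stages (fun n => stageVal (A := A) F c n) (stageMap (A := A) F c)
    (stageVal_stageMap F c) (fun x => by
      obtain ⟨n, t, ht⟩ := exists_extend F c hL x
      exact ⟨n, t, (stageVal_eq_iff F c n t x).2 ht⟩)
    (stageMap_trans F c) (exists_stageMap_eq_zero F c hL) N hflat

variable [IsProper (X ↘ Spec (CommRingCat.of A))]

/-- Flatness of the pullback above the affine locus of `c`. -/
theorem isFlatOverAt_pullback_of_stages [Coh.IsQCoh F] (hL : PicF.IsInvertible L)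
    (hD : IsAffineOpen (glocus L c)) {B : Type u} [CommRing B] (φ : A →+* B) {X' : Scheme.{u}}
    [X'.Over (Spec (CommRingCat.of B))] (g : X' ⟶ X)
    (h : IsPullback g (X' ↘ Spec (CommRingCat.of B)) (X ↘ Spec (CommRingCat.of A))
      (Spec.map (CommRingCat.ofHom φ))) (N : ℕ)
    (hflat : letI := φ.toAlgebra
      ∀ n, N ≤ n → Module.Flat B (B ⊗[A] Γ(CohB1.tensorMod F (CohB1.tensorPow L n), ⊤)))
    (x : X') (hx : g x ∈ glocus L c) :
    FlatMod.IsFlatOverAt (X' ↘ Spec (CommRingCat.of B)) ((Scheme.Modules.pullback g).obj F) x := by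
  letI := φ.toAlgebra
  haveI : CompactSpace X := QuasiCompact.compactSpace_of_compactSpace (X ↘ Spec (CommRingCat.of A))
  haveI : QuasiSeparatedSpace X := quasiSeparatedSpace_of_quasiSeparated (X ↘ Spec (CommRingCat.of A))
  haveI : IsAffineHom g := MorphismProperty.of_isPullback (P := @IsAffineHom) h.flip inferInstance
  let G := (Scheme.Modules.pullback g).obj F
  haveI : Coh.IsQCoh G := EGA43.InjFibre.isQCoh_pullback g F
  have := flat_baseChange_glocus (A := A) F c hL N hflat
  let U := g ⁻¹ᵁ glocus L c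
  let f' := X' ↘ Spec (CommRingCat.of B)
  have hflatU : Module.Flat B Γ(G, U) :=
    Module.Flat.of_linearEquiv (LinearEquiv.ofBijective _ (bijective_secBC φ g h F hD)).symm
  have e : U ≤ f' ⁻¹ᵁ ⊤ := le_top
  refine (Props12.flat_sections_iff f' G (isAffineOpen_top _) (hD.preimage g) e).1 ?_ x hx
  let R := Γ(Spec (CommRingCat.of B), ⊤)
  letI : Module R Γ(G, U) := EGA43.QcohFlat.overModule f' G ⊤ U e
  let ι := Scheme.ΓSpecIso (CommRingCat.of B)
  letI : Algebra R B := ι.hom.hom.toAlgebra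
  haveI : Module.Flat R B := (RingHom.Flat.of_bijective (f := ι.hom.hom) (ConcreteCategory.bijective_of_isIso _) : _)
  haveI : IsScalarTower R B Γ(G, U) := IsScalarTower.of_algebraMap_smul fun a x => by
    refine congrArg (fun r : Γ(X', U) => r • x) ?_
    refine Eq.trans ?_ (congrArg (f'.appLE ⊤ U e).hom (ConcreteCategory.congr_hom ι.hom_inv_id a))
    rfl
  exact Module.Flat.trans R B Γ(G, U)

end Geometry

end Groth.Agent.Coherent.CohBC
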