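import Groth.Agent.FlatCxLib.DRank2
import Groth.Agent.FlatCxLib.Exact

/-!
# Locally constant fibre ranks and flat cokernels
-/

set_option autoImplicit false
set_option backward.isDefEq.respectTransparency false

universe u

open CategoryTheory Filter Topology TensorProduct Groth.Agent.FlatCxLib

namespace Groth.Agent.Coherent.CohBC

theorem isLocallyConstant_of_usc_add {T : Type*} [TopologicalSpace T] {f g : T → ℕ}
    (hf : UpperSemicontinuous f) (hg : UpperSemicontinuous g)
    (h : IsLocallyConstant fun x => f x + g x) : IsLocallyConstant f ∧ IsLocallyConstant g := by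
  have key : ∀ x, ∀ᶠ z in 𝓝 x, f z = f x ∧ g z = g x := fun x => by
    filter_upwards [hf x (f x + 1) (Nat.lt_succ_self _), hg x (g x + 1) (Nat.lt_succ_self _),
      h.eventually_eq x] with z h1 h2 h3
    omega
  exact ⟨(IsLocallyConstant.iff_eventually_eq f).2 fun x => (key x).mono fun _ hz => hz.1,
    (IsLocallyConstant.iff_eventually_eq g).2 fun x => (key x).mono fun _ hz => hz.2⟩

variable {A : Type u} [CommRing A] [IsNoetherianRing A]

/-- Over a reduced ring, constant fibre rank in degree `p` makes both cokernels flat. -/
theorem flat_cokers_of_isLocallyConstant_dRank [IsReduced A] (P : ChainComplex (ModuleCat.{u} A) ℤ)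
    (hP : ∀ i, Module.Finite A (P.X i) ∧ Module.Flat A (P.X i)) (q p r : ℤ) (hqp : p + 1 = q)
    (hpr : r + 1 = p) (h : IsLocallyConstant (CohIII.dRank P p)) :
    Module.Flat A (P.X p ⧸ LinearMap.range (P.d q p).hom) ∧
      Module.Flat A (P.X r ⧸ LinearMap.range (P.d p r).hom) := by
  have := (hP p).1
  have := (hP r).1
  have := (hP r).2
  have : Module.FinitePresentation A (P.X r) := Module.finitePresentation_of_finite A _
  have h' : IsLocallyConstant fun x : PrimeSpectrum A =>
      fibreRank (P.X p ⧸ LinearMap.range (P.d q p).hom) x +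
        fibreRank (P.X r ⧸ LinearMap.range (P.d p r).hom) x := by
    have : IsLocallyConstant fun x => CohIII.dRank P p x + Module.rankAtStalk (P.X r) x :=
      h.comp₂ (Module.isLocallyConstant_rankAtStalk) (· + ·)
    simpa only [dRank_add P hP q p r hqp hpr] using this
  obtain ⟨h1, h2⟩ := isLocallyConstant_of_usc_add (upperSemicontinuous_fibreRank _)
    (upperSemicontinuous_fibreRank _) h'
  exact ⟨flat_of_isLocallyConstant_fibreRank _ h1, flat_of_isLocallyConstant_fibreRank _ h2⟩

end Groth.Agent.Coherent.CohBC
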