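import Groth.Agent.Coherent.CohBC.UnivExact
import Groth.Agent.Coherent.CohBC.RankConst
import Groth.Agent.Coherent.CohBC.Fibre
import Groth.Agent.FlatCx12.BC
import Groth.Agent.FlatCxLib.Exact
import Mathlib.RingTheory.Spectrum.Prime.FreeLocus

/-!
# Complexes of finite flat modules: conclusions from the fibre dimensions
-/

set_option autoImplicit false
set_option backward.isDefEq.respectTransparency false

universe u

open CategoryTheory CategoryTheory.Limits TensorProduct
open Groth.Agent.FlatCxLib

namespace Groth.Agent.Coherent.CohBC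

variable {A : Type u} [CommRing A] [IsNoetherianRing A] (P : ChainComplex (ModuleCat.{u} A) ℤ)
  (hP : ∀ i, Module.Finite A (P.X i) ∧ Module.Flat A (P.X i))
include hP

omit [IsNoetherianRing A] in
theorem finite_bc_X {K : Type u} [CommRing K] (φ : A →+* K) (i : ℤ) :
    Module.Finite K ((CohIII.bcCx φ P).X i) := by
  let _ := φ.toAlgebra
  have := (hP i).1
  exact inferInstanceAs (Module.Finite K (K ⊗[A] P.X i))

omit [IsNoetherianRing A] in
theorem isZero_T_of_dRank_eq_zero (p : ℤ) (x : PrimeSpectrum A) (h : CohIII.dRank P p x = 0) :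
    IsZero (CohIII.T P p (ModuleCat.of A x.asIdeal.ResidueField)) := by
  have := finite_homology_of_finite (CohIII.bcCx (algebraMap A x.asIdeal.ResidueField) P)
    (finite_bc_X P hP _) p
  have h1 : Subsingleton ((CohIII.bcCx (algebraMap A x.asIdeal.ResidueField) P).homology p) :=
    Module.finrank_zero_iff.1 h
  refine IsZero.of_iso ?_ (((CohIII.TFun P p).mapIso (restrictSelfIso x.asIdeal.ResidueField)).symm ≪≫
    bcHomologyIso (algebraMap A x.asIdeal.ResidueField) P p)
  exact Functor.map_isZero _ (@ModuleCat.isZero_of_subsingleton _ _ _ h1)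

/-- Vanishing fibres give universal vanishing. -/
theorem isZero_T_of_dRank (p : ℤ) (h : ∀ x, CohIII.dRank P p x = 0) (M : ModuleCat.{u} A) :
    IsZero (CohIII.T P p M) :=
  (flat_and_isZero_of_fibres P hP p (p - 1) (by omega) fun m hm =>
    (isZero_T_of_dRank_eq_zero P hP p ⟨m, hm.isPrime⟩ (h _)).of_iso ((CohIII.TFun P p).mapIso
      (AlgEquiv.ofBijective (IsScalarTower.toAlgHom A (A ⧸ m) m.ResidueField)
        (Ideal.bijective_algebraMap_quotient_residueField m)).toLinearEquiv.toModuleIso)).2 M

theorem isZero_homology_of_dRank (p : ℤ) (h : ∀ x, CohIII.dRank P p x = 0) :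
    IsZero (P.homology p) :=
  (isZero_T_of_dRank P hP p h (ModuleCat.of A A)).of_iso (unitTIso P p).symm

omit [IsNoetherianRing A] in
/-- Universal vanishing gives flat cokernels on both sides. -/
theorem flat_cokers_of_isZero_T (q p r : ℤ) (hqp : p + 1 = q) (hpr : r + 1 = p)
    (h : ∀ M, IsZero (CohIII.T P p M)) :
    Module.Flat A (P.X p ⧸ LinearMap.range (P.d q p).hom) ∧
      Module.Flat A (P.X r ⧸ LinearMap.range (P.d p r).hom) :=
  ⟨(preservesMono_iff_flat q p (fun i => (hP i).2) hqp).1 (preservesMono_of_isZero p h),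
    (preservesEpi_iff_flat p r (fun i => (hP i).2) hpr).1 (preservesEpi_of_isZero p h)⟩

/-- Flat cokernels give projective homology with rank the fibre dimension. -/
theorem projective_homology (q p r : ℤ) (hqp : p + 1 = q) (hpr : r + 1 = p)
    (h1 : Module.Flat A (P.X p ⧸ LinearMap.range (P.d q p).hom))
    (h2 : Module.Flat A (P.X r ⧸ LinearMap.range (P.d p r).hom)) :
    Module.Projective A (P.homology p) ∧ Module.Finite A (P.homology p) ∧
      ∀ x, Module.rankAtStalk (R := A) (P.homology p) x = CohIII.dRank P p x := by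
  have := (hP r).2
  have := (hP p).1
  have hfl := (flat_coker_iff_flat_homology (d_comp_d_hom P q p r)).1 h1
  let e := homologyQuotEquiv P q p r hqp hpr
  have this' : Module.Finite A (P.homology p) := finite_homology_of_finite P (fun i => (hP i).1) p
  have : Module.Flat A (P.homology p) := Module.Flat.of_linearEquiv e.symm
  have : Module.FinitePresentation A (P.homology p) := Module.finitePresentation_of_finite A _
  refine ⟨Module.Flat.projective_of_finitePresentation, this', fun x => ?_⟩
  rw [Module.rankAtStalk_eq, FlatCx12.dRank_eq_fibreRank (fun i => (hP i).2) q p r hqp hpr x,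
    fibreRank]
  exact (LinearEquiv.baseChange A x.asIdeal.ResidueField _ _ e).finrank_eq.symm

omit [IsNoetherianRing A] in
/-- Flat homology up to degree `N` gives flat cokernels up to degree `N`. -/
theorem flat_coker_of_flat_homology (i₀ : ℤ) (hb : ∀ i < i₀, IsZero (P.X i)) (N : ℤ)
    (hH : ∀ n ≤ N, Module.Flat A (P.homology n)) (n : ℤ) (hn : n ≤ N) :
    Module.Flat A (P.X n ⧸ LinearMap.range (P.d (n + 1) n).hom) := by
  suffices h : ∀ k : ℕ, ∀ n : ℤ, n < i₀ + k → n ≤ N →
      Module.Flat A (P.X n ⧸ LinearMap.range (P.d (n + 1) n).hom) from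
    h ((n - i₀).toNat + 1) n (by omega) hn
  intro k
  induction k with
  | zero =>
    intro n hn _
    have := ModuleCat.isZero_iff_subsingleton.mp (hb n (by omega))
    infer_instance
  | succ k ih =>
    intro n hn hnN
    have := (hP (n - 1)).2
    have h0 := ih (n - 1) (by omega) (by omega)
    rw [sub_add_cancel] at h0
    have := hH n hnN
    exact (flat_coker_iff_flat_homology (d_comp_d_hom P (n + 1) n (n - 1))).2
      (Module.Flat.of_linearEquiv (homologyQuotEquiv P (n + 1) n (n - 1) rfl (by omega)))

/-- With flat homology up to `N`, fibre dimensions are ranks of the homology. -/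
theorem dRank_eq_rankAtStalk (i₀ : ℤ) (hb : ∀ i < i₀, IsZero (P.X i)) (N : ℤ)
    (hH : ∀ n ≤ N, Module.Flat A (P.homology n)) (n : ℤ) (hn : n ≤ N) (x : PrimeSpectrum A) :
    CohIII.dRank P n x = Module.rankAtStalk (R := A) (P.homology n) x := by
  have h := flat_coker_of_flat_homology P hP i₀ hb N hH
  have h' := h (n - 1) (by omega)
  rw [sub_add_cancel] at h'
  exact ((projective_homology P hP (n + 1) n (n - 1) rfl (by omega) (h n hn) h').2.2 x).symm

end Groth.Agent.Coherent.CohBC
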