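import Groth.Agent.Coherent.CohBC.TwistUniform
import Groth.Agent.Coherent.CohBC.ComplexFibres
import Mathlib.RingTheory.LocalRing.Module

/-!
# Flat pullbacks: twisted sections commute with base change beyond the uniform bound

If the pullback of `F` to a Noetherian `A → B` is flat, then beyond the bound that works for fields,
`B ⊗_A Γ(X, F ⊗ L^r) → Γ(X_B, (F ⊗ L^r)_B)` is bijective and the target is finite projective.
-/

set_option autoImplicit false
set_option backward.isDefEq.respectTransparency false
set_option linter.style.haveILetI false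

universe u

open CategoryTheory CategoryTheory.Limits AlgebraicGeometry Opposite TopologicalSpace TensorProduct Function
open Groth.Agent.Coherent Groth.Agent.PicLib Groth.Agent.AmpleLib

namespace Groth.Agent.Coherent.CohBC

variable {B : Type u} [CommRing B]

/-- A finite module vanishing at all residue fields is zero. -/
theorem subsingleton_of_tensor_residue (C : Type u) [AddCommGroup C] [Module B C] [Module.Finite B C]
    (h : ∀ y : ↥(Spec (CommRingCat.of B)),
      letI := (residueHom y).toAlgebra
      Subsingleton (((Spec (CommRingCat.of B)).residueField y : Type u) ⊗[B] C)) :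
    Subsingleton C := by
  refine (Module.support_eq_empty_iff (R := B) (M := C)).1 (Set.eq_empty_iff_forall_notMem.2 fun p hp => ?_)
  have hnt := (Module.mem_support_iff_nontrivial_residueField_tensorProduct p).1 hp
  letI := (residueHom (A := B) p).toAlgebra
  have := h p
  let e : (p.asIdeal.ResidueField) ≃ₗ[B] ((Spec (CommRingCat.of B)).residueField p : Type u) :=
    ({ (Scheme.Spec.residueFieldIso (CommRingCat.of B) p).symm.commRingCatIsoToRingEquiv with
        commutes' := fun _ => rfl } :
      p.asIdeal.ResidueField ≃ₐ[B] ((Spec (CommRingCat.of B)).residueField p : Type u)).toLinearEquiv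
  exact not_nontrivial_iff_subsingleton.2 ((LinearEquiv.rTensor C e).toEquiv.subsingleton) hnt

/-- A map to a projective module which is bijective at all residue fields is bijective. -/
theorem bijective_of_residue [IsNoetherianRing B] {M P : Type u} [AddCommGroup M] [Module B M]
    [AddCommGroup P] [Module B P] [Module.Finite B M] [Module.Finite B P] [Module.Projective B P]
    (θ : M →ₗ[B] P)
    (h : ∀ y : ↥(Spec (CommRingCat.of B)),
      letI := (residueHom y).toAlgebra
      Bijective (θ.lTensor ((Spec (CommRingCat.of B)).residueField y : Type u))) : Bijective θ := by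
  have hs : Surjective θ := by
    rw [← LinearMap.range_eq_top, ← Submodule.Quotient.subsingleton_iff]
    refine subsingleton_of_tensor_residue (B := B) (P ⧸ LinearMap.range θ) fun y => ?_
    letI := (residueHom y).toAlgebra
    refine ⟨fun a b => ?_⟩
    have key : ∀ z : ((Spec (CommRingCat.of B)).residueField y : Type u) ⊗[B] (P ⧸ LinearMap.range θ), z = 0 := by
      intro z
      obtain ⟨w, rfl⟩ := LinearMap.lTensor_surjective _ (g := (LinearMap.range θ).mkQ)
        (Submodule.mkQ_surjective _) z
      obtain ⟨v, rfl⟩ := (h y).2 w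
      rw [← LinearMap.comp_apply, ← LinearMap.lTensor_comp,
        show (LinearMap.range θ).mkQ ∘ₗ θ = 0 from LinearMap.ext fun m =>
          (Submodule.Quotient.mk_eq_zero _).2 ⟨m, rfl⟩]
      simp
    rw [key a, key b]
  refine ⟨?_, hs⟩
  obtain ⟨σ, hσ⟩ := Module.projective_lifting_property θ LinearMap.id hs
  haveI : Module.Finite B (LinearMap.ker θ) := Module.Finite.of_injective _ (LinearMap.ker θ).injective_subtype
  have hsub : Subsingleton (LinearMap.ker θ) := by
    refine subsingleton_of_tensor_residue (B := B) (LinearMap.ker θ) fun y => ?_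
    letI := (residueHom y).toAlgebra
    -- a retraction onto the kernel
    let ρ : M →ₗ[B] LinearMap.ker θ := (LinearMap.id - σ ∘ₗ θ).codRestrict _ fun m => by
      rw [LinearMap.mem_ker, LinearMap.sub_apply, map_sub, LinearMap.id_apply, LinearMap.comp_apply]
      exact sub_eq_zero.2 (LinearMap.congr_fun hσ (θ m)).symm
    have hρ : ρ ∘ₗ (LinearMap.ker θ).subtype = LinearMap.id := LinearMap.ext fun m => Subtype.ext (by
      show (m : M) - σ (θ m) = m
      rw [LinearMap.mem_ker.1 m.2, map_zero, sub_zero])
    refine ⟨fun a b => ?_⟩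
    have key : ∀ z : ((Spec (CommRingCat.of B)).residueField y : Type u) ⊗[B] LinearMap.ker θ, z = 0 := by
      intro z
      have h0 : θ.lTensor _ ((LinearMap.ker θ).subtype.lTensor _ z) = 0 := by
        rw [← LinearMap.comp_apply, ← LinearMap.lTensor_comp, LinearMap.comp_ker_subtype]
        simp
      have h1 := congrArg (ρ.lTensor ((Spec (CommRingCat.of B)).residueField y : Type u))
        ((h y).1 (h0.trans (map_zero _).symm))
      rwa [← LinearMap.comp_apply, ← LinearMap.lTensor_comp, hρ, LinearMap.lTensor_id, LinearMap.id_apply,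
        map_zero] at h1
    rw [key a, key b]
  rw [← LinearMap.ker_eq_bot, ← Submodule.subsingleton_iff_eq_bot]
  exact hsub

variable {A : Type u} [CommRing A] {X : Scheme.{u}} [X.Over (Spec (CommRingCat.of A))]
  [IsNoetherianRing A] [IsNoetherianRing B] [IsProper (X ↘ Spec (CommRingCat.of A))]
  {L : X.Modules} {X' : Scheme.{u}} [X'.Over (Spec (CommRingCat.of B))]

/-- Beyond the bound for fields, flat pullbacks commute with base change and have projective sections. -/
theorem bijective_secBC_of_flat_pullback (hLi : PicF.IsInvertible L) {F : X.Modules} (hF : Coh.IsCoh F) (r : ℕ)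
    (hr : ∀ (K : Type u) [Field K] (ψ : A →+* K) (P : Scheme.{u})
      [P.Over (Spec (CommRingCat.of K))] (g : P ⟶ X)
      (h : IsPullback g (P ↘ Spec (CommRingCat.of K)) (X ↘ Spec (CommRingCat.of A))
        (Spec.map (CommRingCat.ofHom ψ))),
      Bijective (secBC ψ g h (CohB1.tensorMod F (CohB1.tensorPow L r)) ⊤) ∧
      ∀ p : ℕ, 0 < p → Subsingleton
        (Coh.HH P ((Scheme.Modules.pullback g).obj (CohB1.tensorMod F (CohB1.tensorPow L r))) p))
    (φ : A →+* B) (g : X' ⟶ X)
    (h : IsPullback g (X' ↘ Spec (CommRingCat.of B)) (X ↘ Spec (CommRingCat.of A))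
      (Spec.map (CommRingCat.ofHom φ)))
    (hfl : FlatMod.IsFlatOver (X' ↘ Spec (CommRingCat.of B)) ((Scheme.Modules.pullback g).obj F)) :
    Bijective (secBC φ g h (CohB1.tensorMod F (CohB1.tensorPow L r)) ⊤) ∧
      Module.Finite B Γ((Scheme.Modules.pullback g).obj (CohB1.tensorMod F (CohB1.tensorPow L r)), ⊤) ∧
      Module.Projective B Γ((Scheme.Modules.pullback g).obj (CohB1.tensorMod F (CohB1.tensorPow L r)), ⊤) := by
  classical
  haveI : IsLocallyNoetherian X := LocallyOfFiniteType.isLocallyNoetherian (X ↘ Spec (CommRingCat.of A))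
  haveI : IsProper (X' ↘ Spec (CommRingCat.of B)) :=
    MorphismProperty.of_isPullback (P := @IsProper) h inferInstance
  haveI : IsLocallyNoetherian X' := LocallyOfFiniteType.isLocallyNoetherian (X' ↘ Spec (CommRingCat.of B))
  let p' := X' ↘ Spec (CommRingCat.of B)
  let G := CohB1.tensorMod F (CohB1.tensorPow L r)
  have hT : PicF.IsInvertible (CohB1.tensorPow L r) := AmpleLib.isInvertible_tensorPow hLi r
  have hG : Coh.IsCoh G := EulerLib.isCoh_twist hT hF
  haveI := hG.1
  let G' := (Scheme.Modules.pullback g).obj G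
  have hG' : Coh.IsCoh G' := ZClosLib.isCoh_pullback g G hG
  haveI := hG'.1
  obtain ⟨eT⟩ := EulerLib.nonempty_twist_pullback g hLi F r
  let Lb := CohB1.tensorPow ((Scheme.Modules.pullback g).obj L) r
  have hLb : PicF.IsInvertible Lb := AmpleLib.isInvertible_tensorPow (PicLoc.isInvertible_pullback g hLi) r
  haveI : Coh.IsQCoh Lb := AmpleLib.isQCoh_of_isInvertible hLb
  have hG'fl : FlatMod.IsFlatOver p' G' := fun x => EGA43.DvrCrit.isFlatOverAt_of_iso p' eT.symm x
    (EGA43.DvrCrit.isFlatOverAt_of_iso p' (AmpleLib.tensorComm Lb _) x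
      (isFlatOver_tensor p' (isFinLocFree_of_invertible hLb) hfl x))
  obtain ⟨D⟩ := nonempty_perfData G' hG' hG'fl
  -- the fibres
  have hfib : ∀ y : ↥(Spec (CommRingCat.of B)), ∃ hc, Bijective (secBC ((residueHom y).comp φ)
      (p'.fiberι y ≫ g) hc G ⊤) ∧
      ∀ p : ℕ, 0 < p → CohIII.fiberRank p' G' p y = 0 := fun y => by
    have hsqy := PerfData.isPullback_fibre (X := X') y
    have hc := isPullback_comp φ g h (residueHom y) (p'.fiberι y) hsqy
    obtain ⟨hb, hv⟩ := hr _ ((residueHom y).comp φ) _ (p'.fiberι y ≫ g) hc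
    refine ⟨hc, hb, fun p hp => ?_⟩
    have := Serre.HH_subsingleton_of_iso (A := (Spec (CommRingCat.of B)).residueField y)
      ((Scheme.Modules.pullbackComp (p'.fiberι y) g).app G).symm p (hv p hp)
    haveI : Subsingleton (CohIII.fiberH p' G' y p) := this
    exact Module.finrank_zero_of_subsingleton
  have hvH : ∀ p : ℕ, 0 < p → Subsingleton (Coh.HH X' G' p) := fun p hp => by
    have hz := isZero_homology_of_dRank D.P D.finite_flat_P (-(p : ℤ)) fun x => by
      rw [← D.fiberRank_eq hG'fl x p]
      exact (hfib x).choose_spec.2 p hp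
    have := ModuleCat.subsingleton_of_isZero hz
    exact (D.hhHomology p).toEquiv.subsingleton
  haveI hflat : Module.Flat B Γ(G', ⊤) := flat_sections_top G' hG'fl hvH
  haveI hfin : Module.Finite B Γ(G', ⊤) := by
    have : Module.Finite B (Coh.HH X' G' 0) :=
      (finite_HH_iff B G' 0).2 (finCoh_of_isProper p' G' hG' 0)
    refine Module.Finite.of_surjective
      ({ toFun := globalEquiv B G', map_add' := map_add _, map_smul' := fun a x => ?_ } :
        Coh.HH X' G' 0 →ₗ[B] Γ(G', ⊤)) (globalEquiv B G').surjective
    refine (globalEquiv_smul G' a x).trans ?_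
    refine congrArg (fun c : Γ(X', ⊤) => c • (show Γ(G', ⊤) from globalEquiv B G' x)) ?_
    exact (ConcreteCategory.congr_hom (X'.presheaf.map_id (op (⊤ : X'.Opens))) _).symm
  haveI : Module.FinitePresentation B Γ(G', ⊤) := Module.finitePresentation_of_finite B _
  haveI hproj : Module.Projective B Γ(G', ⊤) := Module.Flat.projective_of_finitePresentation
  refine ⟨?_, hfin, hproj⟩
  letI := φ.toAlgebra
  haveI : Module.Finite A Γ(G, ⊤) := by
    have : Module.Finite A (Coh.HH X G 0) :=
      (finite_HH_iff A G 0).2 (finCoh_of_isProper (X ↘ Spec (CommRingCat.of A)) G hG 0)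
    refine Module.Finite.of_surjective
      ({ toFun := globalEquiv A G, map_add' := map_add _, map_smul' := fun a x => ?_ } :
        Coh.HH X G 0 →ₗ[A] Γ(G, ⊤)) (globalEquiv A G).surjective
    refine (globalEquiv_smul G a x).trans ?_
    refine congrArg (fun c : Γ(X, ⊤) => c • (show Γ(G, ⊤) from globalEquiv A G x)) ?_
    exact (ConcreteCategory.congr_hom (X.presheaf.map_id (op (⊤ : X.Opens))) _).symm
  haveI : Module.Finite B Γ(G', g ⁻¹ᵁ ⊤) := hfin
  haveI : Module.Projective B Γ(G', g ⁻¹ᵁ ⊤) := hproj
  refine bijective_of_residue (secBC φ g h G ⊤) fun y => ?_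
  obtain ⟨hc, hb, -⟩ := hfib y
  exact bijective_lTensor_secBC φ g h (residueHom y) (p'.fiberι y) (PerfData.isPullback_fibre (X := X') y) G hb
    (bijective_secBC_top G' hG'fl hvH (residueHom y) (p'.fiberι y) (PerfData.isPullback_fibre (X := X') y))

end Groth.Agent.Coherent.CohBC
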