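import Groth.Agent.Coherent.CohBC.SectionsPush
import Groth.Agent.Coherent.CohBC.TwistFlat
import Groth.Agent.Coherent.CohBC.TwistColim
import Groth.Agent.Coherent.Existence.Restrict
import Groth.Agent.DQCoh.RelTor
import Groth.Agent.FlatMor12.FittSheaf
import Groth.Agent.AmpleLib.Power

/-!
# Flatness of a pullback and the direct images of high twists

For `f : X ⟶ S` proper flat over a Noetherian base, `L` invertible and ample over the affine opens of `S`, and `F`
coherent, put `E_r = f_*(F ⊗ L^r)`. For large `r`: the Fitting supports of `E_r` are given by the dimension of the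
sections on the fibres, and a pullback of `F` to a locally Noetherian `T` is flat iff all `E_r|_T` are locally free.
-/

set_option autoImplicit false
set_option backward.isDefEq.respectTransparency false
set_option linter.style.haveILetI false

universe u

open CategoryTheory CategoryTheory.Limits AlgebraicGeometry Opposite TopologicalSpace TensorProduct Function
open Groth.Agent.Coherent Groth.Agent.PicLib Groth.Agent.AmpleLib

namespace Groth.Agent.Coherent.CohBC

variable {X S : Scheme.{u}}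

/-- The twist and its restriction. -/
theorem nonempty_restrict_twist {Z : Scheme.{u}} (j : Z ⟶ X) {L : X.Modules} (hL : PicF.IsInvertible L)
    (F : X.Modules) (m : ℕ) :
    Nonempty ((Scheme.Modules.pullback j).obj (CohB1.tensorMod F (CohB1.tensorPow L m)) ≅
      CohB1.tensorMod ((Scheme.Modules.pullback j).obj F) (CohB1.tensorPow ((Scheme.Modules.pullback j).obj L) m)) :=
  EulerLib.nonempty_twist_pullback j hL F m

/-- Flatness at a point of an open piece. -/
theorem isFlatOverAt_restrict_iff {Y S' : Scheme.{u}} {π : X ⟶ S} {a : Y ⟶ X} {π' : Y ⟶ S'} {j : S' ⟶ S}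
    [IsOpenImmersion a] [IsOpenImmersion j] (hw : a ≫ π = π' ≫ j) (M : X.Modules) (x : Y) :
    FlatMod.IsFlatOverAt π' ((Scheme.Modules.pullback a).obj M) x ↔ FlatMod.IsFlatOverAt π M (a x) := by
  rw [Props12.isFlatOverAt_pullback_iff a π M x
      (RingHom.Flat.of_bijective (ConcreteCategory.bijective_of_isIso (a.stalkMap x))), hw,
    DQCoh.isFlatOverAt_comp_iff]

/-- The support of a Fitting ideal sheaf in terms of the fibre of the module. -/
theorem mem_support_fitting_iff (E : S.Modules) [Coh.IsQCoh E] (hE : CohB1.IsFT E) {V : S.Opens}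
    (hV : IsAffineOpen V) {s : S} (hs : s ∈ V) (k : ℕ) :
    letI := (S.evaluation V s hs).hom.toAlgebra
    (s ∈ (Fitt.sheafIdeal E k).support ↔
      k < Module.finrank (S.residueField s) ((S.residueField s : Type u) ⊗[Γ(S, V)] Γ(E, V))) := by
  letI := (S.evaluation V s hs).hom.toAlgebra
  haveI := FlatMor12.FittSheaf.finite_affine E hE ⟨V, hV⟩
  let K : Type u := S.residueField s
  rw [Scheme.IdealSheafData.mem_support_iff_of_mem (U := ⟨V, hV⟩) hs, Scheme.mem_zeroLocus_iff,
    FlatMor12.FittSheaf.ideal_eq E hE]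
  let I := Fitt.ideal Γ(S, V) Γ(E, V) k
  have hker : (∀ a ∈ (I : Set Γ(S, V)), s ∉ S.basicOpen a) ↔
      Fitt.ideal K (K ⊗[Γ(S, V)] Γ(E, V)) k = ⊥ := by
    rw [FittLib.ideal_baseChange, Ideal.map_eq_bot_iff_le_ker]
    refine forall₂_congr fun a _ => ?_
    rw [RingHom.mem_ker, ← S.evaluation_ne_zero_iff_mem_basicOpen s hs a, not_not]
    rfl
  refine hker.trans ⟨fun h => ?_, fun h => ?_⟩
  · by_contra hk
    let b := Module.finBasis K (K ⊗[Γ(S, V)] Γ(E, V))
    rw [FittLib.ideal_eq_top_of_span b b.span_eq (not_lt.1 hk)] at h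
    exact bot_ne_top (α := Ideal K) h.symm
  · exact FittLib.ideal_eq_bot_of_basis (Module.finBasis K (K ⊗[Γ(S, V)] Γ(E, V))) h

variable (f : X ⟶ S) [IsProper f] [Flat f] [IsNoetherian S] {L : X.Modules}

/-- Everything the bound gives over one affine open. -/
theorem exists_bound_affine (hLi : PicF.IsInvertible L) {F : X.Modules} (hF : Coh.IsCoh F) {V : S.Opens}
    (hV : IsAffineOpen V) (hL : CohB1.IsAmple ((Scheme.Modules.pullback (f ⁻¹ᵁ V).ι).obj L)) :
    ∃ N : ℕ, ∀ r : ℕ, N ≤ r →
      (∀ (s : S) (hs : s ∈ V),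
        letI := (S.evaluation V s hs).hom.toAlgebra
        Module.finrank (S.residueField s) ((S.residueField s : Type u) ⊗[Γ(S, V)]
            Γ((Coh.push f).obj (CohB1.tensorMod F (CohB1.tensorPow L r)), V)) =
          CohIII.fiberRank f (CohB1.tensorMod F (CohB1.tensorPow L r)) 0 s ∧
        ∀ p : ℕ, 0 < p → CohIII.fiberRank f (CohB1.tensorMod F (CohB1.tensorPow L r)) p s = 0) ∧
      ∀ (T XT : Scheme.{u}) [IsLocallyNoetherian T] (φ : T ⟶ S) (πT : XT ⟶ T) (g : XT ⟶ X),
        IsPullback g πT f φ → FlatMod.IsFlatOver πT ((Scheme.Modules.pullback g).obj F) →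
        ∀ (W : T.Opens), IsAffineOpen W → W ≤ φ ⁻¹ᵁ V →
          Module.Flat Γ(T, W) Γ((Scheme.Modules.pullback φ).obj
            ((Coh.push f).obj (CohB1.tensorMod F (CohB1.tensorPow L r))), W) := by
  let _ : (f ⁻¹ᵁ V).toScheme.Over (Spec (CommRingCat.of Γ(S, V))) := ⟨toSpecSections f hV⟩
  have hsqV := isPullback_toSpecSections f hV
  haveI : IsProper ((f ⁻¹ᵁ V).toScheme ↘ Spec (CommRingCat.of Γ(S, V))) :=
    MorphismProperty.of_isPullback (P := @IsProper) hsqV inferInstance
  haveI : Flat ((f ⁻¹ᵁ V).toScheme ↘ Spec (CommRingCat.of Γ(S, V))) :=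
    MorphismProperty.of_isPullback (P := @Flat) hsqV inferInstance
  haveI : IsNoetherianRing Γ(S, V) := IsLocallyNoetherian.component_noetherian ⟨V, hV⟩
  haveI : IsLocallyNoetherian X := LocallyOfFiniteType.isLocallyNoetherian f
  let ι := (f ⁻¹ᵁ V).ι
  let FV := (Scheme.Modules.pullback ι).obj F
  let LV := (Scheme.Modules.pullback ι).obj L
  have hLV : PicF.IsInvertible LV := PicLoc.isInvertible_pullback ι hLi
  have hFV : Coh.IsCoh FV := ZClosLib.isCoh_pullback ι F hF
  obtain ⟨N, hN⟩ := exists_uniform_field (A := Γ(S, V)) hL FV hFV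
  refine ⟨N, fun r hr => ?_⟩
  let G := CohB1.tensorMod F (CohB1.tensorPow L r)
  have hG : Coh.IsCoh G := EulerLib.isCoh_twist (isInvertible_tensorPow hLi r) hF
  haveI := hG.1
  obtain ⟨eG⟩ := nonempty_restrict_twist ι hLi F r
  haveI : Coh.IsQCoh ((Coh.push f).obj G) := (Existence.isCoh_push_of_isProper f hG).1
  constructor
  · intro s hs
    let α := S.evaluation V s hs
    let _ := α.hom.toAlgebra
    have hα : Spec.map α ≫ hV.fromSpec = S.fromSpecResidueField s := by
      show Spec.map (S.presheaf.germ V s hs ≫ S.residue s) ≫ hV.fromSpec = _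
      rw [Spec.map_comp, Category.assoc]
      show Spec.map (S.residue s) ≫ hV.fromSpecStalk hs = _
      rw [hV.fromSpecStalk_eq_fromSpecStalk]
      rfl
    have hrange : Set.range (f.fiberι s) ⊆ Set.range ι := by
      rw [Scheme.Opens.range_ι]
      rintro _ ⟨z, rfl⟩
      show f (f.fiberι s z) ∈ V
      rw [show f (f.fiberι s z) = s from (f.range_fiberι s).le ⟨z, rfl⟩]
      exact hs
    let j : f.fiber s ⟶ (f ⁻¹ᵁ V).toScheme := IsOpenImmersion.lift ι (f.fiberι s) hrange
    have hj : j ≫ ι = f.fiberι s := IsOpenImmersion.lift_fac _ _ _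
    let _ : (f.fiber s).Over (Spec (CommRingCat.of (S.residueField s))) := CohIII.fiberOver f s
    have hsq' : IsPullback j ((f.fiber s) ↘ Spec (CommRingCat.of (S.residueField s)))
        ((f ⁻¹ᵁ V).toScheme ↘ Spec (CommRingCat.of Γ(S, V))) (Spec.map (CommRingCat.ofHom α.hom)) := by
      refine IsPullback.of_right (h₁₂ := ι) ?_ ?_ hsqV
      · rw [hj]
        show IsPullback (f.fiberι s) _ f (Spec.map α ≫ hV.fromSpec)
        rw [hα]
        exact IsPullback.of_hasPullback _ _
      · refine (cancel_mono hV.fromSpec).1 ?_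
        rw [Category.assoc, Category.assoc]
        erw [← hsqV.w, reassoc_of% hj, hα]
        exact pullback.condition
    obtain ⟨hb, hv⟩ := hN r hr (S.residueField s) α.hom (f.fiber s) j hsq'
    let GV := (Scheme.Modules.pullback ι).obj G
    let ec : (Scheme.Modules.pullback j).obj GV ≅ CohIII.fiberMod f G s :=
      (Scheme.Modules.pullbackComp j ι).app G ≪≫ (Scheme.Modules.pullbackCongr hj).app G
    refine ⟨?_, fun p hp => ?_⟩
    · obtain ⟨eV⟩ := nonempty_pushEquiv f hV G
      have hbG := bijective_secBC_of_iso α.hom j hsq' eG.symm hb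
      let e0 : Coh.HH (f.fiber s) (CohIII.fiberMod f G s) 0 ≃ₗ[(S.residueField s : Type u)]
          Γ(CohIII.fiberMod f G s, ⊤) :=
        { globalEquiv (S.residueField s) (CohIII.fiberMod f G s) with
          map_smul' := fun a x => by
            refine (globalEquiv_smul (CohIII.fiberMod f G s) a x).trans ?_
            refine congrArg (fun t : Γ(f.fiber s, ⊤) => t •
              (show Γ(CohIII.fiberMod f G s, ⊤) from globalEquiv (S.residueField s) (CohIII.fiberMod f G s) x)) ?_
            exact (ConcreteCategory.congr_hom ((f.fiber s).presheaf.map_id (op (⊤ : (f.fiber s).Opens))) _).symm }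
      let e1 := eV.baseChange Γ(S, V) (S.residueField s : Type u) _ _
      let e2 := LinearEquiv.ofBijective _ hbG
      let e3 := topEquiv (A := (S.residueField s : Type u)) ec
      exact ((e1.trans e2).trans (e3.trans e0.symm)).finrank_eq
    · haveI := Serre.HH_subsingleton_of_iso (A := (S.residueField s : Type u))
        ((Scheme.Modules.pullback j).mapIso eG.symm ≪≫ ec) p (hv p hp)
      exact Module.finrank_zero_of_subsingleton
  · intro T XT _ φ πT g hsq hfl W hW e
    haveI : IsNoetherianRing Γ(T, W) := IsLocallyNoetherian.component_noetherian ⟨W, hW⟩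
    obtain ⟨gW, hgW, hsqW⟩ := exists_localSquare f φ hsq hV hW e
    let _ : (πT ⁻¹ᵁ W).toScheme.Over (Spec (CommRingCat.of Γ(T, W))) := ⟨toSpecSections πT hW⟩
    have hsqT := isPullback_toSpecSections πT hW
    let eF : (Scheme.Modules.pullback (πT ⁻¹ᵁ W).ι).obj ((Scheme.Modules.pullback g).obj F) ≅
        (Scheme.Modules.pullback gW).obj FV :=
      (Scheme.Modules.pullbackComp _ _).app F ≪≫ (Scheme.Modules.pullbackCongr hgW.symm).app F ≪≫
        ((Scheme.Modules.pullbackComp gW ι).app F).symm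
    have hflW : FlatMod.IsFlatOver (toSpecSections πT hW) ((Scheme.Modules.pullback gW).obj FV) :=
      fun x => EGA43.DvrCrit.isFlatOverAt_of_iso _ eF x
        (Desc19b.isFlatOverAt_baseChange πT _ _ _ hsqT _ x (hfl _))
    obtain ⟨hb, hfin, hproj⟩ := bijective_secBC_of_flat_pullback hLV hFV r (hN r hr)
      (φ.appLE V W e).hom gW hsqW hflW
    letI := (φ.appLE V W e).hom.toAlgebra
    obtain ⟨eP⟩ := nonempty_pullPushEquiv f φ hV hW e G
    haveI : Module.Flat Γ(T, W)
        Γ((Scheme.Modules.pullback gW).obj (CohB1.tensorMod FV (CohB1.tensorPow LV r)), gW ⁻¹ᵁ ⊤) :=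
      @Module.Flat.of_projective _ _ _ _ _ hproj
    exact Module.Flat.of_linearEquiv (eP.trans (((topEquiv (A := Γ(S, V)) eG).baseChange Γ(S, V) Γ(T, W) _ _).trans
      (LinearEquiv.ofBijective _ hb)))

variable (hLi : PicF.IsInvertible L)
  (hamp : ∀ V : S.Opens, IsAffineOpen V → CohB1.IsAmple ((Scheme.Modules.pullback (f ⁻¹ᵁ V).ι).obj L))
  {F : X.Modules} (hF : Coh.IsCoh F)
include hLi hamp hF

/-- One bound for the Fitting supports and for the local freeness over flat pullbacks. -/
theorem exists_bound_strata :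
    ∃ N : ℕ, ∀ r : ℕ, N ≤ r →
      (∀ (s : S) (k : ℕ),
        s ∈ (Fitt.sheafIdeal ((Coh.push f).obj (CohB1.tensorMod F (CohB1.tensorPow L r))) k).support ↔
          k < CohIII.fiberRank f (CohB1.tensorMod F (CohB1.tensorPow L r)) 0 s) ∧
      (∀ (s : S) (p : ℕ), 0 < p → CohIII.fiberRank f (CohB1.tensorMod F (CohB1.tensorPow L r)) p s = 0) ∧
      ∀ (T XT : Scheme.{u}) [IsLocallyNoetherian T] (φ : T ⟶ S) (πT : XT ⟶ T) (g : XT ⟶ X),
        IsPullback g πT f φ → FlatMod.IsFlatOver πT ((Scheme.Modules.pullback g).obj F) →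
        FlatMod.IsFinLocFree ((Scheme.Modules.pullback φ).obj
          ((Coh.push f).obj (CohB1.tensorMod F (CohB1.tensorPow L r)))) := by
  classical
  haveI : IsLocallyNoetherian X := LocallyOfFiniteType.isLocallyNoetherian f
  let 𝒰 := S.affineCover.finiteSubcover
  let V : 𝒰.I₀ → S.Opens := fun i => (𝒰.f i).opensRange
  have hV : ∀ i, IsAffineOpen (V i) := fun i => by
    haveI : IsAffine (𝒰.X i) := inferInstanceAs (IsAffine (S.affineCover.finiteSubcover.X i))
    exact isAffineOpen_opensRange _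
  have hcov : ∀ s : S, ∃ i, s ∈ V i := fun s => by
    obtain ⟨i, w, hw⟩ := 𝒰.exists_eq s
    exact ⟨i, w, hw⟩
  choose N hN using fun i => exists_bound_affine f hLi hF (hV i) (hamp _ (hV i))
  refine ⟨Finset.univ.sup N, fun r hr => ?_⟩
  have hr' : ∀ i, N i ≤ r := fun i => (Finset.le_sup (Finset.mem_univ i)).trans hr
  let G := CohB1.tensorMod F (CohB1.tensorPow L r)
  have hE : Coh.IsCoh ((Coh.push f).obj G) :=
    Existence.isCoh_push_of_isProper f (EulerLib.isCoh_twist (isInvertible_tensorPow hLi r) hF)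
  haveI := hE.1
  refine ⟨fun s k => ?_, fun s p hp => ?_, fun T XT _ φ πT g hsq hfl => ?_⟩
  · obtain ⟨i, hi⟩ := hcov s
    rw [mem_support_fitting_iff _ hE.2 (hV i) hi, ((hN i r (hr' i)).1 s hi).1]
  · obtain ⟨i, hi⟩ := hcov s
    exact ((hN i r (hr' i)).1 s hi).2 p hp
  · refine isFinLocFree_of_flat_sections _ (ZClosLib.isCoh_pullback φ _ hE) fun t => ?_
    obtain ⟨i, hi⟩ := hcov (φ t)
    obtain ⟨W, hW, htW, hWV⟩ := Opens.isBasis_iff_nbhd.mp T.isBasis_affineOpens (show t ∈ φ ⁻¹ᵁ V i from hi)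
    exact ⟨W, hW, htW, (hN i r (hr' i)).2 T XT φ πT g hsq hfl W hW hWV⟩

omit [Flat f] in
/-- Local freeness of all high direct images makes the pullback flat. -/
theorem isFlatOver_pullback_of_isFinLocFree {T XT : Scheme.{u}} (φ : T ⟶ S) (πT : XT ⟶ T) (g : XT ⟶ X)
    (hsq : IsPullback g πT f φ) (N : ℕ)
    (h : ∀ r : ℕ, N ≤ r → FlatMod.IsFinLocFree ((Scheme.Modules.pullback φ).obj
      ((Coh.push f).obj (CohB1.tensorMod F (CohB1.tensorPow L r))))) :
    FlatMod.IsFlatOver πT ((Scheme.Modules.pullback g).obj F) := by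
  intro x
  haveI : IsLocallyNoetherian X := LocallyOfFiniteType.isLocallyNoetherian f
  obtain ⟨V₁, hV, hyV, -⟩ := Opens.isBasis_iff_nbhd.mp S.isBasis_affineOpens (Opens.mem_top (φ (πT x)))
  let V : S.Opens := V₁
  replace hV : IsAffineOpen V := hV
  obtain ⟨W, hW, hxW, hWV⟩ := Opens.isBasis_iff_nbhd.mp T.isBasis_affineOpens (show πT x ∈ φ ⁻¹ᵁ V from hyV)
  let _ : (f ⁻¹ᵁ V).toScheme.Over (Spec (CommRingCat.of Γ(S, V))) := ⟨toSpecSections f hV⟩
  haveI : IsProper ((f ⁻¹ᵁ V).toScheme ↘ Spec (CommRingCat.of Γ(S, V))) :=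
    MorphismProperty.of_isPullback (P := @IsProper) (isPullback_toSpecSections f hV) inferInstance
  obtain ⟨gW, hgW, hsqW⟩ := exists_localSquare f φ hsq hV hW hWV
  let _ : (πT ⁻¹ᵁ W).toScheme.Over (Spec (CommRingCat.of Γ(T, W))) := ⟨toSpecSections πT hW⟩
  let ι := (f ⁻¹ᵁ V).ι
  let FV := (Scheme.Modules.pullback ι).obj F
  let LV := (Scheme.Modules.pullback ι).obj L
  have hLV : PicF.IsInvertible LV := PicLoc.isInvertible_pullback ι hLi
  haveI : Coh.IsQCoh FV := (ZClosLib.isCoh_pullback ι F hF).1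
  let x' : (πT ⁻¹ᵁ W).toScheme := ⟨x, hxW⟩
  obtain ⟨m, hm, c, hc, -, haff⟩ := (isAmple_iff_affGlocus.1 (hamp V hV)).2.2 (gW x')
  have hflat : letI := (φ.appLE V W hWV).hom.toAlgebra
      ∀ n, N ≤ n → Module.Flat Γ(T, W)
        (Γ(T, W) ⊗[Γ(S, V)] Γ(CohB1.tensorMod FV (CohB1.tensorPow (CohB1.tensorPow LV m) n), ⊤)) := by
    letI := (φ.appLE V W hWV).hom.toAlgebra
    intro n hn
    let G := CohB1.tensorMod F (CohB1.tensorPow L (m * n))
    haveI : Coh.IsQCoh ((Coh.push f).obj G) :=
      (Existence.isCoh_push_of_isProper f (EulerLib.isCoh_twist (isInvertible_tensorPow hLi _) hF)).1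
    haveI : Coh.IsQCoh ((Scheme.Modules.pullback φ).obj ((Coh.push f).obj G)) :=
      EGA43.InjFibre.isQCoh_pullback _ _
    obtain ⟨eG⟩ := nonempty_restrict_twist ι hLi F (m * n)
    obtain ⟨ep, -⟩ := exists_powPowIso hLV m n
    obtain ⟨eP⟩ := nonempty_pullPushEquiv f φ hV hW hWV G
    haveI := flat_sections_of_isFinLocFree _ (h (m * n) (hn.trans (Nat.le_mul_of_pos_left n hm))) hW
    exact Module.Flat.of_linearEquiv ((((topEquiv (A := Γ(S, V))
      (eG ≪≫ AmpleLib.tensorIso (Iso.refl FV) ep.symm)).baseChange Γ(S, V) Γ(T, W) _ _).symm.trans eP.symm))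
  have key := isFlatOverAt_pullback_of_stages FV c (isInvertible_tensorPow hLV m) haff
    (φ.appLE V W hWV).hom gW hsqW N hflat x' hc
  refine (isFlatOverAt_restrict_iff (isPullback_toSpecSections πT hW).w
    ((Scheme.Modules.pullback g).obj F) x').1 ?_
  exact EGA43.DvrCrit.isFlatOverAt_of_iso _ ((((Scheme.Modules.pullbackComp _ _).app F ≪≫
    (Scheme.Modules.pullbackCongr hgW.symm).app F ≪≫
      ((Scheme.Modules.pullbackComp gW ι).app F).symm)).symm) x' key

end Groth.Agent.Coherent.CohBC
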