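import Groth.Agent.Coherent.CohBC.Criteria
import Groth.Agent.Coherent.FlatBaseChangeMain
import Groth.Agent.Coherent.PullUnit
import Groth.Agent.DCat.LPull
import Mathlib.LinearAlgebra.TensorProduct.Pi
import Mathlib.Algebra.Homology.QuasiIso

/-!
# Base change of the finite free complex computing cohomology
-/

set_option autoImplicit false
set_option backward.isDefEq.respectTransparency false

universe u

open CategoryTheory CategoryTheory.Limits AlgebraicGeometry Opposite TopologicalSpace TensorProduct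
open MonoidalCategory HomologicalComplex
open Groth.Agent.Coherent Groth.Agent.PicLib Groth.Agent.AmpleLib

namespace Groth.Agent.Coherent.CohBC

variable {A B : Type u} [CommRing A] [CommRing B] (φ : A →+* B)

section Algebra

/-- Extension of scalars of a finite free complex. -/
noncomputable abbrev bcL {ι : Type} {c : ComplexShape ι}
    (K : HomologicalComplex (ModuleCat.{u} A) c) : HomologicalComplex (ModuleCat.{u} B) c :=
  CohIII.bcCx φ K

/-- `K ⊗_A B` is `B ⊗_A K`. -/
noncomputable def tensorExtIso :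
    tensorRight ((ModuleCat.restrictScalars φ).obj (ModuleCat.of B B)) ≅
      ModuleCat.extendScalars φ ⋙ ModuleCat.restrictScalars φ :=
  (BraidedCategory.tensorLeftIsoTensorRight _).symm ≪≫ DCat.restrictExtIso φ

theorem quasiIso_bc_of_tensor {L C : CochainComplex (ModuleCat.{u} A) ℤ} (ψ : L ⟶ C)
    (h : QuasiIso (((tensorRight ((ModuleCat.restrictScalars φ).obj (ModuleCat.of B B))).mapHomologicalComplex
      (ComplexShape.up ℤ)).map ψ)) :
    QuasiIso (((ModuleCat.extendScalars φ).mapHomologicalComplex (ComplexShape.up ℤ)).map ψ) := by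
  refine (quasiIso_map_iff_of_preservesHomology _ (ModuleCat.restrictScalars φ)).1 ?_
  let α := NatIso.mapHomologicalComplex (tensorExtIso φ) (ComplexShape.up ℤ)
  exact (quasiIso_iff_of_arrow_mk_iso _ _
    (Arrow.isoMk (α.app L) (α.app C) (α.hom.naturality ψ).symm)).1 h

theorem isZero_bcL_X {ι : Type} {c : ComplexShape ι} (K : HomologicalComplex (ModuleCat.{u} A) c)
    (i : ι) (h : IsZero (K.X i)) : IsZero ((bcL φ K).X i) :=
  Functor.map_isZero (ModuleCat.extendScalars φ) h

theorem finite_free_bcL {ι : Type} {c : ComplexShape ι} (K : HomologicalComplex (ModuleCat.{u} A) c)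
    (i : ι) (h : Module.Finite A (K.X i) ∧ Module.Free A (K.X i)) :
    Module.Finite B ((bcL φ K).X i) ∧ Module.Free B ((bcL φ K).X i) := by
  let _ := φ.toAlgebra
  have := h.1
  have := h.2
  exact ⟨inferInstanceAs (Module.Finite B (B ⊗[A] K.X i)), inferInstanceAs (Module.Free B (B ⊗[A] K.X i))⟩

/-- A replacement of `C` gives one of a base change of `C`. -/
noncomputable def Replacement.baseChange {C : CochainComplex (ModuleCat.{u} A) ℕ} (R : Replacement C)
    {C' : CochainComplex (ModuleCat.{u} B) ℕ} (e : CohIII.bcCx φ C ≅ C')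
    (hflat : ∀ n, Module.Flat B (C'.X n)) (N : ℕ)
    (hvan : ∀ n, N ≤ n → ∀ M : ModuleCat.{u} B, IsZero (CohIII.T C' n M)) : Replacement C' where
  L := bcL φ R.L
  bound := R.bound
  finFree i := finite_free_bcL φ R.L i (R.finFree i)
  isZero_X i hi := isZero_bcL_X φ R.L i (R.isZero_X i hi)
  φ := ((ModuleCat.extendScalars φ).mapHomologicalComplex (ComplexShape.up ℤ)).map R.φ ≫
    (cohBCMapExtendIso (ModuleCat.extendScalars φ) C _).hom ≫ extendMap e.hom _
  quasiIso M := by
    have := quasiIso_bc_of_tensor φ R.φ (R.quasiIso _)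
    have : IsIso (extendMap e.hom ComplexShape.embeddingUpNat) :=
      ⟨extendMap e.inv _, by rw [← extendMap_comp, e.hom_inv_id, extendMap_id],
        by rw [← extendMap_comp, e.inv_hom_id, extendMap_id]⟩
    exact quasiIso_tensor
      (fun i => have := (finite_free_bcL φ R.L i (R.finFree i)).2; inferInstance)
      (flat_extZ C' hflat) R.bound (fun i hi => isZero_bcL_X φ R.L i (R.isZero_X i hi)) (N : ℤ)
      (univVanishes_extZ C' N hvan) _ M

end Algebra

section Geometry

variable {X X' : Scheme.{u}} [X.Over (Spec (CommRingCat.of A))] [X'.Over (Spec (CommRingCat.of B))]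
  (g : X' ⟶ X)
  (h : IsPullback g (X' ↘ Spec (CommRingCat.of B)) (X ↘ Spec (CommRingCat.of A))
    (Spec.map (CommRingCat.ofHom φ)))
include h

theorem toΓ_pull (U : X.Opens) (a : A) : g.app U (toΓ A U a) = toΓ B (g ⁻¹ᵁ U) (φ a) := by
  let _ := φ.toAlgebra
  refine (ConcreteCategory.congr_hom (g.naturality (homOfLE (le_top (a := U))).op)
    (Coh.toGlobal (X ↘ Spec (CommRingCat.of A)) a)).trans ?_
  exact congrArg (X'.presheaf.map _) (appTop_toGlobal g (A := A) (B := B) h a)

theorem pullSec_smulA (F : X.Modules) (U : X.Opens) (a : A) (m : Γ(F, U)) :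
    pullSec g (a • m) = φ a • (pullSec g m : Γ((Scheme.Modules.pullback g).obj F, g ⁻¹ᵁ U)) :=
  (pullSec_smul g (toΓ A U a) m).trans
    (congrArg (fun r : Γ(X', g ⁻¹ᵁ U) => r • (pullSec g m : Γ((Scheme.Modules.pullback g).obj F, g ⁻¹ᵁ U)))
      (toΓ_pull φ g h U a))

/-- `B ⊗_A Γ(F, U) → Γ(g^*F, g⁻¹U)`. -/
noncomputable def secBC (F : X.Modules) (U : X.Opens) :
    letI := φ.toAlgebra
    B ⊗[A] Γ(F, U) →ₗ[B] Γ((Scheme.Modules.pullback g).obj F, g ⁻¹ᵁ U) :=
  letI := φ.toAlgebra
  let P := Γ((Scheme.Modules.pullback g).obj F, g ⁻¹ᵁ U)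
  let f : B ⊗[A] Γ(F, U) →+ P := TensorProduct.liftAddHom
    (AddMonoidHom.mk' (fun b => AddMonoidHom.mk' (fun m => b • (pullSec g m : P))
        fun m m' => (congrArg (b • ·) (map_add _ m m')).trans (smul_add b _ _))
      fun b b' => AddMonoidHom.ext fun m => add_smul b b' _)
    fun a b m => by
      show (φ a * b) • (pullSec g m : P) = b • (pullSec g (a • m) : P)
      rw [pullSec_smulA φ g h, mul_comm, mul_smul]
  { toFun := f
    map_add' := map_add f
    map_smul' := fun b z => by
      induction z with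
      | zero => rw [smul_zero, map_zero, RingHom.id_apply, smul_zero]
      | add u v hu hv =>
        rw [RingHom.id_apply] at hu hv ⊢
        rw [smul_add, map_add, hu, hv, map_add, smul_add]
      | tmul b' m => exact mul_smul b b' (pullSec g m : P) }

theorem secBC_tmul (F : X.Modules) (U : X.Opens) (b : B) (m : Γ(F, U)) :
    letI := φ.toAlgebra
    secBC φ g h F U (b ⊗ₜ m) = b • pullSec g m := rfl

theorem bijective_secBC (F : X.Modules) [Coh.IsQCoh F] {U : X.Opens} (hU : IsAffineOpen U) :
    Function.Bijective (secBC φ g h F U) := by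
  let _ := φ.toAlgebra
  have : IsAffineHom g := MorphismProperty.IsStableUnderBaseChange.of_isPullback
    (P := @IsAffineHom) h.flip inferInstance
  let U' : X'.Opens := g ⁻¹ᵁ U
  have hp : IsBCPushout g (Coh.toGlobal (X ↘ Spec (CommRingCat.of A)))
      (Coh.toGlobal (X' ↘ Spec (CommRingCat.of B))) U :=
    isBCPushout_of_isPullback g (A := A) (B := B) h hU
  rw [IsBCPushout, g.app_eq_appLE] at hp
  let P : X'.Modules := (Scheme.Modules.pullback g).obj F
  let _ : Algebra Γ(X, U) Γ(X', U') := (g.appLE U U' le_rfl).hom.toAlgebra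
  let _ : Algebra A Γ(X', U') := ((g.appLE U U' le_rfl).hom.comp (toΓ A U)).toAlgebra
  have : IsScalarTower A Γ(X, U) Γ(X', U') := .of_algebraMap_eq fun _ => rfl
  have : IsScalarTower A B Γ(X', U') :=
    .of_algebraMap_eq fun r => ConcreteCategory.congr_hom hp.w r
  have : Algebra.IsPushout A Γ(X, U) B Γ(X', U') := CommRingCat.isPushout_iff_isPushout.1 hp
  have : Algebra.IsPushout A B Γ(X, U) Γ(X', U') := Algebra.IsPushout.symm inferInstance
  let _ : Module Γ(X, U) Γ(P, U') := Module.compHom _ (g.appLE U U' le_rfl).hom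
  let _ : Module A Γ(P, U') := Module.compHom _ ((g.appLE U U' le_rfl).hom.comp (toΓ A U))
  have : IsScalarTower Γ(X, U) Γ(X', U') Γ(P, U') := IsScalarTower.of_algebraMap_smul fun _ _ => rfl
  have : IsScalarTower A Γ(X, U) Γ(P, U') := IsScalarTower.of_algebraMap_smul fun _ _ => rfl
  have : IsScalarTower A B Γ(P, U') := IsScalarTower.of_algebraMap_smul fun a m =>
    congrArg (fun r : Γ(X', U') => r • m) (ConcreteCategory.congr_hom hp.w a).symm
  obtain ⟨μ, hμ, hμe⟩ :=
    EGA43.InjFibre.pullMap_isBaseChange g hU (hU.preimage g) le_rfl (M := F)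
  have hb := (EGA43.Cons.isBaseChange_iff_of_isPushout (R := A) (T := B) (R' := Γ(X, U))
    (T' := Γ(X', U')) μ).1 hμ
  have : ⇑(secBC φ g h F U) = hb.equiv := funext fun z => by
    induction z using TensorProduct.induction_on with
    | zero => rw [map_zero, map_zero]
    | add u v hu hv => rw [map_add, map_add, hu, hv]
    | tmul b x =>
      rw [IsBaseChange.equiv_tmul, secBC_tmul]
      refine congrArg (fun t : Γ(P, U') => b • t) ?_
      exact ((hμe x).trans ((pullMap_eq_resM_pullSec g hU (hU.preimage g) le_rfl F x).trans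
        (resM_refl _ _))).symm
  rw [this]
  exact hb.equiv.bijective

variable {ι : Type u} (W : ι → X.Opens)

omit h in
theorem cinter_pull {p : ℕ} (a : Fin (p + 1) → ι) :
    cinter (fun i => g ⁻¹ᵁ W i) a = g ⁻¹ᵁ cinter W a := by
  refine le_antisymm (fun x hx => ?_)
    (le_iInf fun k => g.preimage_mono (iInf_le (fun k => W (a k)) k))
  simp only [cinter, Scheme.Hom.mem_preimage] at hx ⊢
  have e : ∀ {Y : Scheme.{u}} (V : Fin (p + 1) → Y.Opens) (y : Y), y ∈ ⨅ k, V k ↔ ∀ k, y ∈ V k :=
    fun V y => by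
      rw [← Finset.inf_univ_eq_iInf, ← SetLike.mem_coe, TopologicalSpace.Opens.coe_finset_inf]
      simp
  rw [e] at hx ⊢
  exact hx

/-- `B ⊗_A Γ(F, U_a) → Γ(g^*F, U'_a)`. -/
noncomputable def secBCTo (F : X.Modules) {p : ℕ} (a : Fin (p + 1) → ι) :
    letI := φ.toAlgebra
    B ⊗[A] Γ(F, cinter W a) →ₗ[B]
      Γ((Scheme.Modules.pullback g).obj F, cinter (fun i => g ⁻¹ᵁ W i) a) :=
  letI := φ.toAlgebra
  { toFun := fun z => resM _ (cinter_pull g W a).le (secBC φ g h F (cinter W a) z)
    map_add' := fun z z' => by rw [map_add, map_add]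
    map_smul' := fun b z => by rw [map_smul, resM_smulA]; rfl }

theorem secBCTo_tmul (F : X.Modules) {p : ℕ} (a : Fin (p + 1) → ι) (b : B) (m : Γ(F, cinter W a)) :
    letI := φ.toAlgebra
    secBCTo φ g h W F a (b ⊗ₜ m) = b • resM _ (cinter_pull g W a).le (pullSec g m) :=
  resM_smulA _ _ b _

variable [Finite ι] (hW : ∀ (p : ℕ) (a : Fin (p + 1) → ι), IsAffineOpen (cinter W a))
  (F : X.Modules) [Coh.IsQCoh F]

/-- Cochains of the base change. -/
noncomputable def cochainBC (p : ℕ) :
    letI := φ.toAlgebra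
    B ⊗[A] (∀ a : Fin (p + 1) → ι, Γ(F, cinter W a)) →ₗ[B]
      (∀ a : Fin (p + 1) → ι,
        Γ((Scheme.Modules.pullback g).obj F, cinter (fun i => g ⁻¹ᵁ W i) a)) :=
  letI := φ.toAlgebra
  LinearMap.pi fun a => secBCTo φ g h W F a ∘ₗ LinearMap.baseChange B (LinearMap.proj a)

include hW in
theorem bijective_cochainBC (p : ℕ) : Function.Bijective (cochainBC φ g h W F p) := by
  classical
  let _ := φ.toAlgebra
  have := Fintype.ofFinite ι
  have hb : ∀ a : Fin (p + 1) → ι, Function.Bijective (secBCTo φ g h W F a) := fun a =>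
    (resM_bijective_of_eq _ (cinter_pull g W a).le (cinter_pull g W a).symm).comp
      (bijective_secBC φ g h F (hW p a))
  let e := (TensorProduct.piRight A B B (fun a : Fin (p + 1) → ι => Γ(F, cinter W a))).trans
    (LinearEquiv.piCongrRight fun a => LinearEquiv.ofBijective (secBCTo φ g h W F a) (hb a))
  have : cochainBC φ g h W F p = e.toLinearMap :=
    LinearMap.ext fun z => funext fun a => by
      induction z using TensorProduct.induction_on with
      | zero => simp
      | add u v hu hv => simp only [map_add, Pi.add_apply, hu, hv]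
      | tmul b x =>
        show secBCTo φ g h W F a (b ⊗ₜ x a) = _
        simp [e]
  rw [this]
  exact e.bijective

/-- The Čech complex of the base change. -/
noncomputable def cxBCIso :
    CohIII.bcCx φ (cxA A W F) ≅
      cxA B (fun i => g ⁻¹ᵁ W i) ((Scheme.Modules.pullback g).obj F) :=
  HomologicalComplex.Hom.isoOfComponents
    (fun p => LinearEquiv.toModuleIso (X₁ := (CohIII.bcCx φ (cxA A W F)).X p)
      (X₂ := cxX B (fun i => g ⁻¹ᵁ W i) ((Scheme.Modules.pullback g).obj F) p)
      (LinearEquiv.ofBijective (cochainBC φ g h W F p) (bijective_cochainBC φ g h W hW F p)))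
    fun i j hij => by
      let _ := φ.toAlgebra
      obtain rfl : i + 1 = j := hij
      rw [cxA_d]
      refine ModuleCat.hom_ext (LinearMap.ext fun z => ?_)
      show cxD B (fun i => g ⁻¹ᵁ W i) ((Scheme.Modules.pullback g).obj F) i
          (cochainBC φ g h W F i z) =
        cochainBC φ g h W F (i + 1) (LinearMap.baseChange B ((cxA A W F).d i (i + 1)).hom z)
      rw [show ((cxA A W F).d i (i + 1)).hom = cxD A W F i from congrArg ModuleCat.Hom.hom (cxA_d A W F i)]
      induction z using TensorProduct.induction_on with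
      | zero => simp
      | add u v hu hv => simp only [map_add, hu, hv]
      | tmul b x =>
        funext a
        show ∑ j : Fin (i + 2), (-1 : ℤ) ^ (j : ℕ) • resM _ (cinter_face (fun i => g ⁻¹ᵁ W i) a j)
            (secBCTo φ g h W F (a ∘ j.succAbove) (b ⊗ₜ x (a ∘ j.succAbove))) =
          secBCTo φ g h W F a (b ⊗ₜ (∑ j : Fin (i + 2), (-1 : ℤ) ^ (j : ℕ) •
            resM F (cinter_face W a j) (x (a ∘ j.succAbove))))
        rw [TensorProduct.tmul_sum, map_sum]
        refine Finset.sum_congr rfl fun j _ => ?_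
        rw [TensorProduct.tmul_smul, map_zsmul, secBCTo_tmul, secBCTo_tmul, resM_smulA, resM_resM,
          ← resM_pullSec, resM_resM]

namespace PerfData

variable {F} (D : PerfData A X F) [IsSeparated (X ↘ Spec (CommRingCat.of A))]
  (hfl : FlatMod.IsFlatOver (X ↘ Spec (CommRingCat.of A)) F)

omit [Finite ι] [Coh.IsQCoh F] [IsSeparated (X ↘ Spec (CommRingCat.of A))] in
include hfl in
theorem flat_bc_cxA (p : ℕ) :
    Module.Flat B ((cxA B (fun i => g ⁻¹ᵁ D.W i) ((Scheme.Modules.pullback g).obj F)).X p) := by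
  let _ := φ.toAlgebra
  have := D.finite
  have := D.isQCoh
  have : Module.Flat A (∀ a : Fin (p + 1) → D.ι, Γ(F, cinter D.W a)) := flat_cxA D.W F hfl D.hW p
  exact Module.Flat.of_linearEquiv
    (LinearEquiv.ofBijective (cochainBC φ g h D.W F p)
      (bijective_cochainBC φ g h D.W D.hW F p)).symm

/-- The finite free complex of a base change. -/
noncomputable def baseChange : PerfData B X' ((Scheme.Modules.pullback g).obj F) :=
  haveI := D.finite
  haveI := D.isQCoh
  haveI : IsAffineHom g := MorphismProperty.IsStableUnderBaseChange.of_isPullback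
    (P := @IsAffineHom) h.flip inferInstance
  haveI : IsSeparated (X' ↘ Spec (CommRingCat.of B)) :=
    MorphismProperty.IsStableUnderBaseChange.of_isPullback (P := @IsSeparated) h inferInstance
  haveI hq : Coh.IsQCoh ((Scheme.Modules.pullback g).obj F) := EGA43.InjFibre.isQCoh_pullback g F
  haveI hW' : ∀ (p : ℕ) (a : Fin (p + 1) → D.ι), IsAffineOpen (cinter (fun i => g ⁻¹ᵁ D.W i) a) :=
    fun p a => by rw [cinter_pull]; exact (D.hW p a).preimage g
  haveI hcov' : ⨆ i, g ⁻¹ᵁ D.W i = ⊤ := by
    rw [← Scheme.Hom.preimage_iSup, D.hcov, Scheme.Hom.preimage_top]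
  { ι := D.ι
    finite := D.finite
    W := fun i => g ⁻¹ᵁ D.W i
    hcov := hcov'
    hW := hW'
    isQCoh := hq
    R := D.R.baseChange φ (cxBCIso φ g h D.W D.hW F) (flat_bc_cxA φ g h D hfl) (Nat.card D.ι)
      fun n hn M => isZero_T_cxA (fun i => g ⁻¹ᵁ D.W i) _ hW' hcov' n hn M }

omit [Coh.IsQCoh F] in
theorem baseChange_L : (baseChange φ g h D hfl).L = bcL φ D.L := rfl

omit h [Coh.IsQCoh F] in
/-- The chain complex of the base change. -/
theorem baseChange_P (h : IsPullback g (X' ↘ Spec (CommRingCat.of B)) (X ↘ Spec (CommRingCat.of A))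
    (Spec.map (CommRingCat.ofHom φ))) : (baseChange φ g h D hfl).P = CohIII.bcCx φ D.P := rfl

end PerfData

end Geometry

end Groth.Agent.Coherent.CohBC
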