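import Groth.Agent.Coherent.CohBC.FlatReplace
import Groth.Agent.FlatCx12.Tensor

/-!
# Flat complexes with flat cohomology
-/

set_option autoImplicit false
set_option backward.isDefEq.respectTransparency false

universe u

open CategoryTheory CategoryTheory.Limits TensorProduct Function MonoidalCategory
open Groth.Agent.FlatCxLib Groth.Agent.FlatCx12

namespace Groth.Agent.Coherent.CohBC

variable {A : Type u} [CommRing A] (D : CochainComplex (ModuleCat.{u} A) ℤ)
  (hD : ∀ i, Module.Flat A (D.X i)) (b : ℤ) (hb : UnivVanishes D b)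
include hb

theorem isZero_homology_of_lt (i : ℤ) (hi : b < i) : IsZero (D.homology i) :=
  (hb i hi (ModuleCat.of A A)).of_iso (unitTIso D i).symm

variable (hH : ∀ i, Module.Flat A (D.homology i))
include hD hH

theorem flat_coker_toChain (k : ℤ) :
    Module.Flat A ((toChain D).X k ⧸ LinearMap.range ((toChain D).d (k + 1) k).hom) := by
  suffices h : ∀ (n : ℕ) (k : ℤ), k < -b - 1 + n →
      Module.Flat A ((toChain D).X k ⧸ LinearMap.range ((toChain D).d (k + 1) k).hom) from
    h ((k + b + 2).toNat) k (by omega)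
  intro n
  induction n with
  | zero =>
    intro k hk
    obtain ⟨i, rfl⟩ : ∃ i : ℤ, k = -i := ⟨-k, (neg_neg k).symm⟩
    show Module.Flat A (D.X (-(-i)) ⧸ LinearMap.range (D.d (-(-i + 1)) (-(-i))).hom)
    rw [show -(-i + 1) = i - 1 by ring, neg_neg]
    have h1 := flat_ker_of_univExact D (hD (i + 1)) (hb i (by omega))
      (isZero_homology_of_lt D b hb (i + 1) (by omega))
    have e : LinearMap.range (D.d i (i + 1)).hom = LinearMap.ker (D.d (i + 1) (i + 1 + 1)).hom :=
      (LinearMap.exact_iff.mp (exact_d_of_isZero D i (i + 1) (i + 1 + 1) rfl rfl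
        (isZero_homology_of_lt D b hb (i + 1) (by omega)))).symm
    rw [← e] at h1
    exact Module.Flat.of_linearEquiv
      ((Submodule.quotEquivOfEq _ _ (LinearMap.exact_iff.mp (exact_d_of_isZero D (i - 1) i (i + 1)
        (by omega) rfl (isZero_homology_of_lt D b hb i (by omega)))).symm).trans
        (D.d i (i + 1)).hom.quotKerEquivRange)
  | succ n ih =>
    intro k hk
    obtain ⟨l, rfl⟩ : ∃ l : ℤ, k = l + 1 := ⟨k - 1, by omega⟩
    have := ih l (by omega)
    have : Module.Flat A ((toChain D).X l) := hD _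
    refine (flat_coker_iff_flat_homology (f := ((toChain D).d (l + 1 + 1) (l + 1)).hom)
      (g := ((toChain D).d (l + 1) l).hom) (d_comp_d_hom _ _ _ _)).2 ?_
    have : Module.Flat A ((toChain D).homology (l + 1)) :=
      @Module.Flat.of_linearEquiv A (D.homology (-(l + 1))) _ _ _ _ _ _ (hH _)
        ((unitTIso (toChain D) (l + 1)).symm ≪≫ toChainTIso D _ (l + 1) _ rfl ≪≫
          unitTIso D _).toLinearEquiv
    exact Module.Flat.of_linearEquiv
      (homologyQuotEquiv (toChain D) (l + 1 + 1) (l + 1) l rfl (by omega))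

/-- `H^i(D) ⊗ M = H^i(D ⊗ M)` when all cohomology modules are flat. -/
theorem nonempty_homology_tensor (i : ℤ) (M : ModuleCat.{u} A) :
    Nonempty (D.homology i ⊗[A] M ≃ₗ[A] CohIII.T D i M) := by
  have := flat_coker_toChain D hD b hb hH (-i - 1)
  rw [show -i - 1 + 1 = -i by omega] at this
  let e : homologyQuot ((toChain D).d (-i + 1) (-i)).hom ((toChain D).d (-i) (-i - 1)).hom ≃ₗ[A]
      D.homology i :=
    (homologyQuotEquiv (toChain D) (-i + 1) (-i) (-i - 1) rfl (by omega)).trans
      ((unitTIso (toChain D) (-i)).symm ≪≫ toChainTIso D _ (-i) i (neg_neg i) ≪≫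
        unitTIso D i).toLinearEquiv
  exact ⟨(LinearEquiv.rTensor M e.symm).trans
    ((tensorEquiv (P := toChain D) (-i + 1) (-i) (-i - 1) (fun j => hD _) M rfl (by omega)).trans
      (toChainTIso D M (-i) i (neg_neg i)).toLinearEquiv)⟩

omit hD hH hb in
/-- The same for complexes in degrees `≥ 0`. -/
theorem nonempty_homology_tensor_nat (C : CochainComplex (ModuleCat.{u} A) ℕ)
    (hflat : ∀ n, Module.Flat A (C.X n)) (N : ℕ)
    (hvan : ∀ n, N ≤ n → ∀ M : ModuleCat.{u} A, IsZero (CohIII.T C n M))
    (hH : ∀ n, Module.Flat A (C.homology n)) (n : ℕ) (M : ModuleCat.{u} A) :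
    Nonempty (C.homology n ⊗[A] M ≃ₗ[A] CohIII.T C n M) := by
  let e : ∀ m : ℕ, (extZ C).homology (m : ℤ) ≅ C.homology m := fun m =>
    (unitTIso _ _).symm ≪≫ extTIso C _ m ≪≫ unitTIso C m
  obtain ⟨f⟩ := nonempty_homology_tensor (extZ C) (flat_extZ C hflat) (N : ℤ)
    (univVanishes_extZ C N hvan) (fun i => by
      rcases lt_or_ge i 0 with hi | hi
      · have := ModuleCat.subsingleton_of_isZero
          ((isZero_T_extZ_neg C _ i hi).of_iso (unitTIso (extZ C) i).symm)
        infer_instance
      · lift i to ℕ using hi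
        exact @Module.Flat.of_linearEquiv A (C.homology i) _ _ _ _ _ _ (hH i) (e i).toLinearEquiv)
    (n : ℤ) M
  exact ⟨(LinearEquiv.rTensor M (e n).toLinearEquiv.symm).trans
    (f.trans (extTIso C M n).toLinearEquiv)⟩

end Groth.Agent.Coherent.CohBC
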