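import Groth.Agent.Coherent.CohBC.Shapes
import Groth.Agent.FlatCx12.Cochain
import Groth.Agent.DRingLib.PCGen
import Groth.Agent.DRingLib.PCRes

/-!
# Finite free replacement of a flat complex with vanishing cohomology in high degree
-/

set_option autoImplicit false
set_option backward.isDefEq.respectTransparency false

universe u

open CategoryTheory CategoryTheory.Limits MonoidalCategory TensorProduct Function
open Groth.Agent.FlatCxLib Groth.Agent.FlatCx12

attribute [local instance] HasDerivedCategory.standard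

namespace Groth.Agent.Coherent.CohBC

variable {A : Type u} [CommRing A]

/-- `H^p(D ⊗ M) = 0` in all large degrees, for all `M`. -/
def UnivVanishes (D : CochainComplex (ModuleCat.{u} A) ℤ) (b : ℤ) : Prop :=
  ∀ p, b < p → ∀ M : ModuleCat.{u} A, IsZero (CohIII.T D p M)

/-- `H^p(C ⊗ A) = H^p(C)`. -/
noncomputable def unitTIso {ι : Type} {c : ComplexShape ι}
    (P : HomologicalComplex (ModuleCat.{u} A) c) (i : ι) :
    CohIII.T P i (ModuleCat.of A A) ≅ P.homology i :=
  HomologicalComplex.homologyMapIso
    (HomologicalComplex.Hom.isoOfComponents (fun k => (TensorProduct.rid A (P.X k)).toModuleIso)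
      fun k l _ => ModuleCat.hom_ext (TensorProduct.ext' fun x a => map_smul (P.d k l).hom a x)) i

theorem exact_of_T_zero {D : CochainComplex (ModuleCat.{u} A) ℤ} {i j k : ℤ} (hij : i + 1 = j)
    (hjk : j + 1 = k) {M : ModuleCat.{u} A} (h : IsZero (CohIII.T D j M)) :
    Exact ((D.d i j).hom.rTensor M) ((D.d j k).hom.rTensor M) :=
  exact_d_of_isZero (CohIII.tensorObj D M) i j k hij hjk h

theorem rTensor_comp_apply {P Q R : Type u} [AddCommGroup P] [AddCommGroup Q] [AddCommGroup R]
    [Module A P] [Module A Q] [Module A R] (g : Q →ₗ[A] R) (f : P →ₗ[A] Q)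
    (M : Type u) [AddCommGroup M] [Module A M] (x : P ⊗[A] M) :
    g.rTensor M (f.rTensor M x) = (g ∘ₗ f).rTensor M x :=
  (LinearMap.congr_fun (LinearMap.rTensor_comp M g f) x).symm

/-- Cocycles are flat in the range of universal exactness. -/
theorem flat_ker_of_univExact (D : CochainComplex (ModuleCat.{u} A) ℤ) {p : ℤ}
    (hD : Module.Flat A (D.X (p + 1))) (h : ∀ M : ModuleCat.{u} A, IsZero (CohIII.T D p M))
    (h' : IsZero (D.homology (p + 1))) :
    Module.Flat A (LinearMap.ker (D.d (p + 1) (p + 1 + 1)).hom) := by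
  let g : D.X p →ₗ[A] LinearMap.ker (D.d (p + 1) (p + 1 + 1)).hom :=
    (D.d p (p + 1)).hom.codRestrict _ fun x =>
      LinearMap.congr_fun (congrArg ModuleCat.Hom.hom (D.d_comp_d p (p + 1) (p + 1 + 1))) x
  have hg : Surjective g := fun ⟨y, hy⟩ => by
    obtain ⟨x, hx⟩ := (exact_d_of_isZero D p (p + 1) (p + 1 + 1) rfl rfl h' y).mp hy
    exact ⟨x, Subtype.ext hx⟩
  have hgd : g ∘ₗ (D.d (p - 1) p).hom = 0 := LinearMap.ext fun x => Subtype.ext
    (LinearMap.congr_fun (congrArg ModuleCat.Hom.hom (D.d_comp_d (p - 1) p (p + 1))) x)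
  have key : ∀ (M : Type u) [AddCommGroup M] [Module A M],
      Injective ((LinearMap.ker (D.d (p + 1) (p + 1 + 1)).hom).subtype.rTensor M) := by
    intro M _ _
    rw [injective_iff_map_eq_zero]
    intro z hz
    obtain ⟨w, rfl⟩ := LinearMap.rTensor_surjective M hg z
    rw [rTensor_comp_apply] at hz
    obtain ⟨v, rfl⟩ := (exact_of_T_zero (i := p - 1) (by omega) rfl (h (ModuleCat.of A M)) w).mp hz
    show g.rTensor M ((D.d (p - 1) p).hom.rTensor M v) = 0
    rw [rTensor_comp_apply, hgd, LinearMap.rTensor_zero, LinearMap.zero_apply]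
  rw [Module.Flat.iff_lTensor_preserves_injective_linearMap]
  intro M N _ _ _ _ f hf
  have hsq : (LinearMap.ker (D.d (p + 1) (p + 1 + 1)).hom).subtype.rTensor N ∘ₗ f.lTensor _ =
      f.lTensor (D.X (p + 1)) ∘ₗ (LinearMap.ker (D.d (p + 1) (p + 1 + 1)).hom).subtype.rTensor M :=
    TensorProduct.ext' fun x m => rfl
  refine Injective.of_comp (f := (LinearMap.ker (D.d (p + 1) (p + 1 + 1)).hom).subtype.rTensor N) ?_
  rw [← LinearMap.coe_comp, hsq, LinearMap.coe_comp]
  exact (Module.Flat.lTensor_preserves_injective_linearMap f hf).comp (key M)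

/-- All cocycles of an acyclic flat complex, universally exact in high degree, are flat. -/
theorem flat_ker_of_acyclic (D : CochainComplex (ModuleCat.{u} A) ℤ)
    (hD : ∀ i, Module.Flat A (D.X i)) (hac : ∀ p, IsZero (D.homology p)) (b : ℤ)
    (hb : UnivVanishes D b) (p : ℤ) : Module.Flat A (LinearMap.ker (D.d p (p + 1)).hom) := by
  suffices h : ∀ n : ℕ, ∀ p, b + 1 < p + n → Module.Flat A (LinearMap.ker (D.d p (p + 1)).hom) from
    h ((b + 2 - p).toNat) p (by omega)
  intro n
  induction n with
  | zero =>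
    intro p hp
    obtain ⟨q, rfl⟩ : ∃ q, q + 1 = p := ⟨p - 1, by omega⟩
    exact flat_ker_of_univExact D (hD _) (hb q (by omega)) (hac _)
  | succ n ih =>
    intro p hp
    have := ih (p + 1) (by omega)
    have := hD p
    let g : D.X p →ₗ[A] LinearMap.ker (D.d (p + 1) (p + 1 + 1)).hom :=
      (D.d p (p + 1)).hom.codRestrict _ fun x =>
        LinearMap.congr_fun (congrArg ModuleCat.Hom.hom (D.d_comp_d p (p + 1) (p + 1 + 1))) x
    refine flat_of_exact_left (LinearMap.ker (D.d p (p + 1)).hom).subtype g ?_ ?_ Subtype.val_injective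
    · rw [LinearMap.exact_iff, LinearMap.ker_codRestrict, Submodule.range_subtype]
    · rintro ⟨y, hy⟩
      obtain ⟨x, hx⟩ := (exact_d_of_isZero D p (p + 1) (p + 1 + 1) rfl rfl (hac _) y).mp hy
      exact ⟨x, Subtype.ext hx⟩

/-- An acyclic flat complex, universally exact in high degree, is universally exact. -/
theorem isZero_T_of_acyclic (D : CochainComplex (ModuleCat.{u} A) ℤ)
    (hD : ∀ i, Module.Flat A (D.X i)) (hac : ∀ p, IsZero (D.homology p)) (b : ℤ)
    (hb : UnivVanishes D b) (p : ℤ) (M : ModuleCat.{u} A) : IsZero (CohIII.T D p M) := by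
  refine isZero_of_exact_d (CohIII.tensorObj D M) (p - 1) p (p + 1) (by omega) rfl ?_
  show Exact ((D.d (p - 1) p).hom.rTensor M) ((D.d p (p + 1)).hom.rTensor M)
  have e := exact_d_of_isZero D (p - 1) p (p + 1) (by omega) rfl (hac p)
  have e' := exact_d_of_isZero D p (p + 1) (p + 1 + 1) rfl rfl (hac _)
  have := hD (p + 1)
  have : Module.Flat A (D.X (p + 1) ⧸ LinearMap.range (D.d p (p + 1)).hom) := by
    have h2 := flat_ker_of_acyclic D hD hac b hb (p + 1 + 1)
    have hr : LinearMap.range (D.d (p + 1) (p + 1 + 1)).hom =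
        LinearMap.ker (D.d (p + 1 + 1) (p + 1 + 1 + 1)).hom :=
      (LinearMap.exact_iff.mp
        (exact_d_of_isZero D (p + 1) (p + 1 + 1) (p + 1 + 1 + 1) rfl rfl (hac _))).symm
    rw [← hr] at h2
    exact Module.Flat.of_linearEquiv
      ((Submodule.quotEquivOfEq _ _ (LinearMap.exact_iff.mp e').symm).trans
        (D.d (p + 1) (p + 1 + 1)).hom.quotKerEquivRange)
  rw [LinearMap.exact_iff, ker_rTensor_eq, LinearMap.exact_iff.mp e]
  set g := (D.d (p - 1) p).hom
  conv_rhs => rw [show g = (LinearMap.range g).subtype ∘ₗ g.rangeRestrict from rfl,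
    LinearMap.rTensor_comp, LinearMap.range_comp,
    LinearMap.range_eq_top.mpr (LinearMap.rTensor_surjective M g.surjective_rangeRestrict),
    Submodule.map_top]

/-- Base change of quasi-isomorphisms of flat complexes with vanishing in high degree. -/
theorem quasiIso_tensor {L C : CochainComplex (ModuleCat.{u} A) ℤ}
    (hL : ∀ i, Module.Flat A (L.X i)) (hC : ∀ i, Module.Flat A (C.X i))
    (bL : ℤ) (hbL : ∀ i, bL < i → IsZero (L.X i)) (bC : ℤ) (hbC : UnivVanishes C bC)
    (φ : L ⟶ C) [QuasiIso φ] (M : ModuleCat.{u} A) :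
    QuasiIso (((tensorRight M).mapHomologicalComplex (ComplexShape.up ℤ)).map φ) := by
  let K := CochainComplex.mappingCone φ
  have hK : K.Acyclic := (quasiIso_iff_acyclic_cone φ).mp inferInstance
  let e : ∀ i, K.X i ≅ ModuleCat.of A (L.X (i + 1) × C.X i) := fun i =>
    HomologicalComplex.homotopyCofiber.XIsoBiprod φ i (i + 1) rfl ≪≫ ModuleCat.biprodIsoProd _ _
  have hflat : ∀ i, Module.Flat A (K.X i) := fun i => by
    have := hL (i + 1); have := hC i
    have : Module.Flat A (L.X (i + 1) × C.X i) :=
      flat_of_exact_mid (LinearMap.inl A (L.X (i + 1)) (C.X i))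
      (LinearMap.snd A _ _) (fun x => ⟨fun h => ⟨x.1, Prod.ext rfl h.symm⟩, by rintro ⟨y, rfl⟩; rfl⟩)
      LinearMap.snd_surjective LinearMap.inl_injective
    exact Module.Flat.of_linearEquiv (M := L.X (i + 1) × C.X i) (e i).toLinearEquiv
  have hiso : ∀ i, bL < i + 1 → IsIso ((CochainComplex.mappingCone.inr φ).f i) := fun i hi => by
    refine ⟨(CochainComplex.mappingCone.snd φ).v i i (add_zero i), by simp, ?_⟩
    refine (?_ : _ = _)
    apply CochainComplex.mappingCone.ext_from φ (i + 1) i rfl
    · exact (hbL (i + 1) hi).eq_of_src _ _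
    · simp
  have hb : UnivVanishes K (max bC bL + 1) := fun p hp N => by
    let ψ := (HomologicalComplex.shortComplexFunctor' (ModuleCat.{u} A) (ComplexShape.up ℤ)
      (p - 1) p (p + 1)).map
        (((tensorRight N).mapHomologicalComplex (ComplexShape.up ℤ)).map
          (CochainComplex.mappingCone.inr φ))
    have i1 : IsIso ψ.τ₁ :=
      have := hiso (p - 1) (by omega)
      inferInstanceAs (IsIso ((tensorRight N).map ((CochainComplex.mappingCone.inr φ).f (p - 1))))
    have i2 : IsIso ψ.τ₂ :=
      have := hiso p (by omega)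
      inferInstanceAs (IsIso ((tensorRight N).map ((CochainComplex.mappingCone.inr φ).f p)))
    have i3 : IsIso ψ.τ₃ :=
      have := hiso (p + 1) (by omega)
      inferInstanceAs (IsIso ((tensorRight N).map ((CochainComplex.mappingCone.inr φ).f (p + 1))))
    have hq : QuasiIsoAt (((tensorRight N).mapHomologicalComplex (ComplexShape.up ℤ)).map
        (CochainComplex.mappingCone.inr φ)) p := by
      rw [quasiIsoAt_iff' _ (p - 1) p (p + 1) (by simp) (by simp)]
      exact ShortComplex.quasiIso_of_epi_of_isIso_of_mono ψ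
    exact (hbC p (by omega) N).of_iso (asIso (HomologicalComplex.homologyMap
      (((tensorRight N).mapHomologicalComplex (ComplexShape.up ℤ)).map
        (CochainComplex.mappingCone.inr φ)) p)).symm
  rw [quasiIso_iff_acyclic_cone]
  intro p
  refine HomologicalComplex.ExactAt.of_iso ?_
    (CochainComplex.mappingCone.mapHomologicalComplexIso φ (tensorRight M))
  rw [HomologicalComplex.exactAt_iff_isZero_homology]
  exact isZero_T_of_acyclic K hflat (fun q => (K.exactAt_iff_isZero_homology q).mp (hK q)) _ hb p M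

theorem finite_homology_extZ [IsNoetherianRing A] (C : CochainComplex (ModuleCat.{u} A) ℕ)
    (hfin : ∀ n, Module.Finite A (C.homology n)) (p : ℤ) :
    Module.Finite A ((extZ C).homology p) := by
  rcases lt_or_ge p 0 with hp | hp
  · have := ModuleCat.subsingleton_of_isZero
      ((isZero_T_extZ_neg C (ModuleCat.of A A) p hp).of_iso (unitTIso (extZ C) p).symm)
    infer_instance
  · lift p to ℕ using hp
    exact DRingLib.finite_of_iso (C.extendHomologyIso _
      (show ComplexShape.embeddingUpNat.f p = (p : ℤ) from rfl)).symm (hfin p)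

/-- A finite free bounded above complex universally quasi-isomorphic to a given complex. -/
structure Replacement (C : CochainComplex (ModuleCat.{u} A) ℕ) where
  L : CochainComplex (ModuleCat.{u} A) ℤ
  bound : ℤ
  finFree : ∀ i, Module.Finite A (L.X i) ∧ Module.Free A (L.X i)
  isZero_X : ∀ i, bound < i → IsZero (L.X i)
  φ : L ⟶ extZ C
  quasiIso : ∀ M : ModuleCat.{u} A,
    QuasiIso (((tensorRight M).mapHomologicalComplex (ComplexShape.up ℤ)).map φ)

namespace Replacement

variable {C : CochainComplex (ModuleCat.{u} A) ℕ} (R : Replacement C)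

theorem flat_X (i : ℤ) : Module.Flat A (R.L.X i) :=
  @Module.Flat.of_free A (R.L.X i) _ _ _ (R.finFree i).2

/-- The comparison of homology. -/
noncomputable def compIso (p : ℤ) (M : ModuleCat.{u} A) :
    CohIII.T R.L p M ≅ CohIII.T (extZ C) p M :=
  @asIso _ _ _ _ (HomologicalComplex.homologyMap
    (((tensorRight M).mapHomologicalComplex (ComplexShape.up ℤ)).map R.φ) p)
    ((quasiIsoAt_iff_isIso_homologyMap _ p).1 ((R.quasiIso M).quasiIsoAt p))

/-- The comparison of homology functors. -/
noncomputable def compFunIso (p : ℤ) : CohIII.TFun R.L p ≅ CohIII.TFun (extZ C) p :=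
  NatIso.ofComponents (F := CohIII.TFun R.L p) (G := CohIII.TFun (extZ C) p)
    (fun M => R.compIso p M) fun {M M'} g => by
    show HomologicalComplex.homologyMap (CohIII.tensorMap R.L g) p ≫
        HomologicalComplex.homologyMap _ p =
      HomologicalComplex.homologyMap _ p ≫
        HomologicalComplex.homologyMap (CohIII.tensorMap (extZ C) g) p
    rw [← HomologicalComplex.homologyMap_comp, ← HomologicalComplex.homologyMap_comp]
    exact congrArg (HomologicalComplex.homologyMap · p)
      ((NatTrans.mapHomologicalComplex ((tensoringRight (ModuleCat.{u} A)).map g) _).naturality R.φ).symm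

/-- `H^n(L ⊗ M) = H^n(C ⊗ M)`, naturally. -/
noncomputable def isoNat (n : ℕ) : CohIII.TFun R.L (n : ℤ) ≅ CohIII.TFun C n :=
  R.compFunIso (n : ℤ) ≪≫ extTFunIso C n

theorem isZero_neg (p : ℤ) (M : ModuleCat.{u} A) (hp : p < 0) : IsZero (CohIII.T R.L p M) :=
  (isZero_T_extZ_neg C M p hp).of_iso (R.compIso p M)

end Replacement

theorem flat_extZ (C : CochainComplex (ModuleCat.{u} A) ℕ) (hflat : ∀ n, Module.Flat A (C.X n))
    (i : ℤ) : Module.Flat A ((extZ C).X i) := by
  rcases lt_or_ge i 0 with hi | hi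
  · have := ModuleCat.subsingleton_of_isZero (C.isZero_extend_X ComplexShape.embeddingUpNat i
      fun n hn => by
        have : (n : ℤ) = i := hn
        omega)
    infer_instance
  · lift i to ℕ using hi
    have := hflat i
    exact Module.Flat.of_linearEquiv (C.extendXIso ComplexShape.embeddingUpNat
      (show ComplexShape.embeddingUpNat.f i = (i : ℤ) from rfl)).toLinearEquiv

theorem univVanishes_extZ (C : CochainComplex (ModuleCat.{u} A) ℕ) (N : ℕ)
    (hvan : ∀ n, N ≤ n → ∀ M : ModuleCat.{u} A, IsZero (CohIII.T C n M)) :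
    UnivVanishes (extZ C) (N : ℤ) := fun p hp M => by
  lift p to ℕ using (by omega)
  exact (hvan p (by omega) M).of_iso (extTIso C M p)

/-- Finite free replacement of a flat complex with finite cohomology vanishing in high degree. -/
theorem nonempty_replacement [IsNoetherianRing A] (C : CochainComplex (ModuleCat.{u} A) ℕ)
    (hflat : ∀ n, Module.Flat A (C.X n)) (N : ℕ)
    (hvan : ∀ n, N ≤ n → ∀ M : ModuleCat.{u} A, IsZero (CohIII.T C n M))
    (hfin : ∀ n, Module.Finite A (C.homology n)) : Nonempty (Replacement C) := by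
  have hflatZ := flat_extZ C hflat
  have hvanZ := univVanishes_extZ C N hvan
  have hle : (DRing.toD (extZ C)).IsLE (N : ℤ) := by
    rw [DRingLib.isLE_iff_HD]
    intro i hi
    exact ModuleCat.subsingleton_of_isZero
      ((((hvanZ i hi (ModuleCat.of A A)).of_iso (unitTIso (extZ C) i).symm)).of_iso
        (DRingLib.HQ (extZ C) i))
  have hpc : DRing.IsPseudoCoherent' A (DRing.toD (extZ C)) := DRingLib.pc'_iff.2 fun m =>
    DRingLib.pc_of_finite_homology hle fun i _ =>
      DRingLib.finite_of_iso (DRingLib.HQ (extZ C) i).symm (finite_homology_extZ C hfin i)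
  obtain ⟨E, b, hb, hE, ⟨α⟩⟩ := hpc
  have : E.IsKProjective := DCat.isKProjective_of_vanishesAbove E b hb fun i =>
    have := (hE i).2; inferInstance
  obtain ⟨φ, hφ⟩ := DRingLib.exists_Q_map α.hom
  have : QuasiIso φ := by
    rw [← DerivedCategory.isIso_Q_map_iff_quasiIso, hφ]
    infer_instance
  exact ⟨⟨E, b, hE, hb, φ, fun M =>
    quasiIso_tensor (fun i => have := (hE i).2; inferInstance) hflatZ b hb (N : ℤ) hvanZ φ M⟩⟩

end Groth.Agent.Coherent.CohBC
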