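import Groth.Agent.Coherent.CechTensor
import Groth.Agent.Coherent.CohBC.FlatReplace
import Groth.Agent.Coherent.ProperFinite
import Groth.Agent.Props12.FlatOver
import Groth.Prelude.Def_FlatMod2

/-!
# The Čech complex of a flat sheaf on a separated scheme
-/

set_option autoImplicit false
set_option backward.isDefEq.respectTransparency false

universe u

open CategoryTheory CategoryTheory.Limits AlgebraicGeometry Opposite TopologicalSpace TensorProduct
open Groth.Agent.Coherent Groth.Agent.PicLib Groth.Agent.AmpleLib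

namespace Groth.Agent.Coherent.CohBC

variable {A : Type u} [CommRing A] {X : Scheme.{u}} [X.Over (Spec (CommRingCat.of A))]

theorem isAffineOpen_iInf_fin' [X.IsSeparated] :
    ∀ (p : ℕ) (V : Fin (p + 1) → X.Opens), (∀ k, IsAffineOpen (V k)) → IsAffineOpen (⨅ k, V k)
  | 0, V, h => by
      rw [show (⨅ k, V k) = V 0 from iInf_unique (f := fun k : Fin 1 => V k)]
      exact h _
  | p + 1, V, h => by
      have e : (⨅ k, V k) = V 0 ⊓ ⨅ k : Fin (p + 1), V k.succ := by
        refine le_antisymm (le_inf (iInf_le _ _) (le_iInf fun k => iInf_le _ _)) (le_iInf fun k => ?_)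
        induction k using Fin.cases with
        | zero => exact inf_le_left
        | succ j => exact inf_le_right.trans (iInf_le (fun k : Fin (p + 1) => V k.succ) j)
      rw [e]
      exact (h 0).inf (isAffineOpen_iInf_fin' p _ fun k => h k.succ)

variable (A X) in
theorem exists_affine_cover [QuasiCompact (X ↘ Spec (CommRingCat.of A))]
    [IsSeparated (X ↘ Spec (CommRingCat.of A))] :
    ∃ (ι : Type u) (_ : Finite ι) (W : ι → X.Opens), ⨆ i, W i = ⊤ ∧
      ∀ (p : ℕ) (a : Fin (p + 1) → ι), IsAffineOpen (cinter W a) := by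
  have : CompactSpace X :=
    QuasiCompact.compactSpace_of_compactSpace (X ↘ Spec (CommRingCat.of A))
  have : X.IsSeparated := ⟨by
    rw [show terminal.from X = (X ↘ Spec (CommRingCat.of A)) ≫ terminal.from _ from
      terminal.hom_ext _ _]
    infer_instance⟩
  let 𝒰 := X.affineCover.finiteSubcover
  refine ⟨𝒰.I₀, inferInstance, fun i => (𝒰.f i).opensRange, 𝒰.iSup_opensRange, fun p a => ?_⟩
  exact isAffineOpen_iInf_fin' p _ fun k => isAffineOpen_opensRange _

theorem subsingleton_HH_of_card {ι : Type u} [Finite ι] [IsSeparated (X ↘ Spec (CommRingCat.of A))]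
    (W : ι → X.Opens) (hcov : ⨆ i, W i = ⊤) (hW : ∀ i, IsAffineOpen (W i)) (M : X.Modules)
    [Coh.IsQCoh M] (n : ℕ) (hn : Nat.card ι ≤ n) : Subsingleton (Coh.HH X M n) := by
  have : X.IsSeparated := ⟨by
    rw [show terminal.from X = (X ↘ Spec (CommRingCat.of A)) ≫ terminal.from _ from
      terminal.hom_ext _ _]
    infer_instance⟩
  have h := subsingleton_H'_iSup_affine (X := X) (fun V V' hV hV' => hV.inf hV') M (Nat.card ι)
    (fun k => W ((Finite.equivFin ι).symm k)) (fun k => hW _) n hn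
  rw [(Finite.equivFin ι).symm.iSup_comp (g := W), hcov] at h
  exact (HHTopEquiv M n).toEquiv.subsingleton_congr.2 h

theorem flat_sectionsA (F : X.Modules) [Coh.IsQCoh F]
    (hfl : FlatMod.IsFlatOver (X ↘ Spec (CommRingCat.of A)) F) {U : X.Opens} (hU : IsAffineOpen U) :
    Module.Flat A Γ(F, U) := by
  let f := X ↘ Spec (CommRingCat.of A)
  have e : U ≤ f ⁻¹ᵁ ⊤ := le_top
  let _ := EGA43.QcohFlat.overModule f F ⊤ U e
  have h : Module.Flat Γ(Spec (CommRingCat.of A), ⊤) Γ(F, U) :=
    (Props12.flat_sections_iff f F (isAffineOpen_top _) hU e).2 fun x _ => hfl x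
  let _ : Algebra A Γ(Spec (CommRingCat.of A), ⊤) :=
    (Scheme.ΓSpecIso (CommRingCat.of A)).inv.hom.toAlgebra
  have : Module.Flat A Γ(Spec (CommRingCat.of A), ⊤) :=
    (RingHom.Flat.of_bijective (f := (Scheme.ΓSpecIso (CommRingCat.of A)).inv.hom)
      (ConcreteCategory.bijective_of_isIso _) : _)
  have : IsScalarTower A Γ(Spec (CommRingCat.of A), ⊤) Γ(F, U) :=
    IsScalarTower.of_algebraMap_smul fun a x => by
      refine congrArg (fun r : Γ(X, U) => r • x) ?_
      rfl
  exact Module.Flat.trans A Γ(Spec (CommRingCat.of A), ⊤) _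

variable {ι : Type u} [Finite ι] (W : ι → X.Opens)

theorem flat_cxA (F : X.Modules) [Coh.IsQCoh F]
    (hfl : FlatMod.IsFlatOver (X ↘ Spec (CommRingCat.of A)) F)
    (hW : ∀ (p : ℕ) (a : Fin (p + 1) → ι), IsAffineOpen (cinter W a)) (p : ℕ) :
    Module.Flat A ((cxA A W F).X p) := by
  classical
  have := Fintype.ofFinite ι
  have := fun a => flat_sectionsA F hfl (hW p a)
  exact Module.Flat.of_linearEquiv
    (M := DirectSum (Fin (p + 1) → ι) fun a => Γ(F, cinter W a))
    (DirectSum.linearEquivFunOnFintype A (Fin (p + 1) → ι) fun a => Γ(F, cinter W a)).symm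

omit [Finite ι] in
theorem isAffineOpen_of_cinter (hW : ∀ (p : ℕ) (a : Fin (p + 1) → ι), IsAffineOpen (cinter W a))
    (i : ι) : IsAffineOpen (W i) := by
  have h := hW 0 fun _ => i
  rwa [show cinter W (fun _ : Fin 1 => i) = W i from iInf_const] at h

theorem isZero_T_cxA [IsSeparated (X ↘ Spec (CommRingCat.of A))] (F : X.Modules) [Coh.IsQCoh F]
    (hW : ∀ (p : ℕ) (a : Fin (p + 1) → ι), IsAffineOpen (cinter W a)) (hcov : ⨆ i, W i = ⊤)
    (n : ℕ) (hn : Nat.card ι ≤ n) (M : ModuleCat.{u} A) : IsZero (CohIII.T (cxA A W F) n M) := by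
  have := subsingleton_HH_of_card (A := A) W hcov (isAffineOpen_of_cinter W hW)
    (CohB1.tensorMod F (pullTilde A M)) n hn
  rw [ModuleCat.isZero_iff_subsingleton]
  exact (hhTensorEquiv W F hW hcov M n).symm.toEquiv.subsingleton

omit [Finite ι] in
theorem finite_homology_cxA [IsNoetherianRing A] [IsProper (X ↘ Spec (CommRingCat.of A))]
    (F : X.Modules) [Coh.IsQCoh F] (hF : Coh.IsCoh F)
    (hW : ∀ (p : ℕ) (a : Fin (p + 1) → ι), IsAffineOpen (cinter W a)) (hcov : ⨆ i, W i = ⊤)
    (n : ℕ) : Module.Finite A ((cxA A W F).homology n) := by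
  have : Module.Finite A (Coh.HH X F n) :=
    (finite_HH_iff A F n).2 (finCoh_of_isProper (X ↘ Spec (CommRingCat.of A)) F hF n)
  exact Module.Finite.equiv (hhCech A W hcov hW F n)

end Groth.Agent.Coherent.CohBC
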