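import Groth.Agent.Coherent.CohBC.AcyclicSections
import Groth.Agent.H8Lim.ModSections
import Groth.Agent.Coherent.Affineness

/-!
# Calculus of the base change map on global sections

Naturality, compatibility with composition, and the passage to a quotient, for
`B ⊗_A Γ(X, F) → Γ(X_B, F_B)`.
-/

set_option autoImplicit false
set_option backward.isDefEq.respectTransparency false
set_option linter.style.haveILetI false

universe u

open CategoryTheory CategoryTheory.Limits AlgebraicGeometry Opposite TopologicalSpace TensorProduct Function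
open Groth.Agent.Coherent Groth.Agent.PicLib

namespace Groth.Agent.Coherent.CohBC

variable {A B : Type u} [CommRing A] [CommRing B] (φ : A →+* B)
  {X X' : Scheme.{u}} [X.Over (Spec (CommRingCat.of A))] [X'.Over (Spec (CommRingCat.of B))] (g : X' ⟶ X)
  (h : IsPullback g (X' ↘ Spec (CommRingCat.of B)) (X ↘ Spec (CommRingCat.of A))
    (Spec.map (CommRingCat.ofHom φ)))

theorem pullback_map_secBC {F F' : X.Modules} (e : F ⟶ F') :
    letI := φ.toAlgebra
    ∀ z : B ⊗[A] Γ(F, ⊤),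
      ((Scheme.Modules.pullback g).map e).app (g ⁻¹ᵁ ⊤) (secBC φ g h F ⊤ z) =
        secBC φ g h F' ⊤ (LinearMap.lTensor B (⟨⟨fun m => e.app ⊤ m, map_add _⟩,
          fun a m => app_smulA e ⊤ a m⟩ : Γ(F, ⊤) →ₗ[A] Γ(F', ⊤)) z) := by
  intro z
  induction z using TensorProduct.induction_on with
  | zero => simp only [map_zero]
  | add u v hu hv => simp only [map_add, hu, hv]
  | tmul b m =>
    refine (congrArg (((Scheme.Modules.pullback g).map e).app (g ⁻¹ᵁ ⊤)) (secBC_tmul φ g h F ⊤ b m)).trans ?_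
    refine (app_smulA ((Scheme.Modules.pullback g).map e) _ b (pullSec g m)).trans ?_
    exact congrArg (b • ·) (H8Lim.map_app_pullSec g e m)

/-- The sections of an isomorphism. -/
noncomputable def topEquiv {F F' : X.Modules} (e : F ≅ F') : Γ(F, ⊤) ≃ₗ[A] Γ(F', ⊤) where
  toFun m := e.hom.app ⊤ m
  invFun m := e.inv.app ⊤ m
  map_add' := map_add _
  map_smul' a m := app_smulA e.hom ⊤ a m
  left_inv m := congr(($(e.hom_inv_id)).app ⊤ m)
  right_inv m := congr(($(e.inv_hom_id)).app ⊤ m)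

theorem bijective_secBC_of_iso {F F' : X.Modules} (e : F ≅ F') (hb : Bijective (secBC φ g h F ⊤)) :
    Bijective (secBC φ g h F' ⊤) := by
  letI := φ.toAlgebra
  let eP := topEquiv (A := B) ((Scheme.Modules.pullback g).mapIso e)
  let eT := LinearEquiv.lTensor B (topEquiv (A := A) e)
  have : ⇑(secBC φ g h F' ⊤) = fun z => eP (secBC φ g h F ⊤ (eT.symm z)) := funext fun z => by
    obtain ⟨w, rfl⟩ := eT.surjective z
    rw [eT.symm_apply_apply]
    exact (pullback_map_secBC φ g h e.hom w).symm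
  rw [this]
  exact eP.bijective.comp (hb.comp eT.symm.bijective)

theorem surjective_secBC_of_iso {F F' : X.Modules} (e : F ≅ F') (hb : Surjective (secBC φ g h F ⊤)) :
    Surjective (secBC φ g h F' ⊤) := by
  letI := φ.toAlgebra
  intro y
  obtain ⟨x, rfl⟩ := (topEquiv (A := B) ((Scheme.Modules.pullback g).mapIso e)).surjective y
  obtain ⟨z, rfl⟩ := hb x
  exact ⟨_, (pullback_map_secBC φ g h e.hom z).symm⟩

theorem pullback_exact_of_shortExact (S : ShortComplex X.Modules) (hS : S.ShortExact) :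
    (S.map (Scheme.Modules.pullback g)).Exact ∧ Epi (S.map (Scheme.Modules.pullback g)).g := by
  haveI := hS.epi_g
  haveI : (Scheme.Modules.pullback g).IsLeftAdjoint :=
    (Scheme.Modules.pullbackPushforwardAdjunction g).isLeftAdjoint
  refine ⟨ShortComplex.exact_of_g_is_cokernel _ ?_, inferInstanceAs (Epi ((Scheme.Modules.pullback g).map S.g))⟩
  exact CokernelCofork.mapIsColimit _ hS.gIsCokernel (Scheme.Modules.pullback g)

/-- Surjectivity passes to quotients. -/
theorem surjective_secBC_of_epi {S : ShortComplex X.Modules}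
    (hL : Surjective (secBC φ g h S.X₂ ⊤))
    (hsurj : Surjective (((Scheme.Modules.pullback g).map S.g).app (g ⁻¹ᵁ ⊤))) :
    Surjective (secBC φ g h S.X₃ ⊤) := by
  letI := φ.toAlgebra
  intro y
  obtain ⟨x, rfl⟩ := hsurj y
  obtain ⟨z, rfl⟩ := hL x
  exact ⟨_, (pullback_map_secBC φ g h S.g z).symm⟩

/-- Bijectivity passes to quotients when the kernel is generated by sections. -/
theorem bijective_secBC_of_presentation {S : ShortComplex X.Modules}
    (hK : Surjective (secBC φ g h S.X₁ ⊤)) (hL : Bijective (secBC φ g h S.X₂ ⊤))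
    (hg : Surjective (S.g.app ⊤))
    (hsurj : Surjective (((Scheme.Modules.pullback g).map S.g).app (g ⁻¹ᵁ ⊤)))
    (hker : ∀ s, ((Scheme.Modules.pullback g).map S.g).app (g ⁻¹ᵁ ⊤) s = 0 →
      ∃ t, ((Scheme.Modules.pullback g).map S.f).app (g ⁻¹ᵁ ⊤) t = s) :
    Bijective (secBC φ g h S.X₃ ⊤) := by
  letI := φ.toAlgebra
  refine ⟨?_, surjective_secBC_of_epi φ g h hL.2 hsurj⟩
  let gA : Γ(S.X₂, ⊤) →ₗ[A] Γ(S.X₃, ⊤) :=
    ⟨⟨fun m => S.g.app ⊤ m, map_add _⟩, fun a m => app_smulA S.g ⊤ a m⟩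
  let fA : Γ(S.X₁, ⊤) →ₗ[A] Γ(S.X₂, ⊤) :=
    ⟨⟨fun m => S.f.app ⊤ m, map_add _⟩, fun a m => app_smulA S.f ⊤ a m⟩
  have hgf : gA ∘ₗ fA = 0 := LinearMap.ext fun m => congr(($(S.zero)).app ⊤ m)
  rw [injective_iff_map_eq_zero]
  intro x hx
  obtain ⟨y, rfl⟩ := LinearMap.lTensor_surjective B (g := gA) hg x
  obtain ⟨t, ht⟩ := hker (secBC φ g h S.X₂ ⊤ y) ((pullback_map_secBC φ g h S.g y).trans hx)
  obtain ⟨w, rfl⟩ := hK t
  have hy : fA.lTensor B w = y := hL.1 ((pullback_map_secBC φ g h S.f w).symm.trans ht)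
  rw [← hy, ← LinearMap.comp_apply, ← LinearMap.lTensor_comp, hgf, LinearMap.lTensor_zero, LinearMap.zero_apply]

section Comp

variable {C : Type u} [CommRing C] (ψ : B →+* C) {X'' : Scheme.{u}} [X''.Over (Spec (CommRingCat.of C))]
  (g' : X'' ⟶ X')
  (h' : IsPullback g' (X'' ↘ Spec (CommRingCat.of C)) (X' ↘ Spec (CommRingCat.of B))
    (Spec.map (CommRingCat.ofHom ψ)))

include h h' in
theorem isPullback_comp :
    IsPullback (g' ≫ g) (X'' ↘ Spec (CommRingCat.of C)) (X ↘ Spec (CommRingCat.of A))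
      (Spec.map (CommRingCat.ofHom (ψ.comp φ))) := by
  have := h'.paste_horiz h
  rwa [← Spec.map_comp] at this

/-- The comparison for a composite base change. -/
theorem secBC_comp (F : X.Modules) :
    letI := φ.toAlgebra
    letI := ψ.toAlgebra
    letI := (ψ.comp φ).toAlgebra
    haveI : IsScalarTower A B C := .of_algebraMap_eq fun _ => rfl
    ∃ (e : C ⊗[A] Γ(F, ⊤) ≃ C ⊗[B] (B ⊗[A] Γ(F, ⊤)))
      (σ : Γ((Scheme.Modules.pullback g').obj ((Scheme.Modules.pullback g).obj F), g' ⁻¹ᵁ (g ⁻¹ᵁ ⊤)) ≃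
        Γ((Scheme.Modules.pullback (g' ≫ g)).obj F, (g' ≫ g) ⁻¹ᵁ ⊤)),
      ∀ z, secBC (ψ.comp φ) (g' ≫ g) (isPullback_comp φ g h ψ g' h') F ⊤ z =
        σ (secBC ψ g' h' ((Scheme.Modules.pullback g).obj F) (g ⁻¹ᵁ ⊤)
          (LinearMap.lTensor C (secBC φ g h F ⊤) (e z))) := by
  letI := φ.toAlgebra
  letI := ψ.toAlgebra
  letI := (ψ.comp φ).toAlgebra
  haveI : IsScalarTower A B C := .of_algebraMap_eq fun _ => rfl
  let e := (TensorProduct.AlgebraTensorModule.cancelBaseChange A B B C Γ(F, ⊤)).symm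
  let σ := topEquiv (A := C) ((Scheme.Modules.pullbackComp g' g).app F)
  refine ⟨e.toEquiv, σ.toEquiv, fun z => ?_⟩
  show _ = σ (secBC ψ g' h' _ _ (LinearMap.lTensor C (secBC φ g h F ⊤) (e z)))
  induction z using TensorProduct.induction_on with
  | zero => simp only [map_zero]
  | add u v hu hv => simp only [map_add, hu, hv]
  | tmul c m =>
    have he : e (c ⊗ₜ[A] m) = c ⊗ₜ[B] ((1 : B) ⊗ₜ[A] m) := by simp [e]
    rw [he, LinearMap.lTensor_tmul, secBC_tmul φ g h F ⊤ 1 m, one_smul]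
    refine (secBC_tmul (ψ.comp φ) (g' ≫ g) _ F ⊤ c m).trans ?_
    refine Eq.trans ?_ (congrArg σ (secBC_tmul ψ g' h' _ _ c (pullSec g m))).symm
    refine Eq.trans ?_ (map_smul σ c (pullSec g' (pullSec g m))).symm
    exact congrArg (c • ·) (H8Lim.pullbackComp_hom_app_pullSec g' g F m).symm

theorem bijective_secBC_comp (F : X.Modules) (h1 : Bijective (secBC φ g h F ⊤))
    (h2 : Bijective (secBC ψ g' h' ((Scheme.Modules.pullback g).obj F) ⊤)) :
    Bijective (secBC (ψ.comp φ) (g' ≫ g) (isPullback_comp φ g h ψ g' h') F ⊤) := by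
  letI := φ.toAlgebra
  letI := ψ.toAlgebra
  obtain ⟨e, σ, hσ⟩ := secBC_comp φ g h ψ g' h' F
  rw [funext hσ]
  exact σ.bijective.comp (h2.comp ((LinearEquiv.lTensor C (LinearEquiv.ofBijective _ h1)).bijective.comp
    e.bijective))

theorem bijective_lTensor_secBC (F : X.Modules)
    (h12 : Bijective (secBC (ψ.comp φ) (g' ≫ g) (isPullback_comp φ g h ψ g' h') F ⊤))
    (h2 : Bijective (secBC ψ g' h' ((Scheme.Modules.pullback g).obj F) ⊤)) :
    letI := φ.toAlgebra
    letI := ψ.toAlgebra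
    Bijective (LinearMap.lTensor C (secBC φ g h F ⊤)) := by
  letI := φ.toAlgebra
  letI := ψ.toAlgebra
  obtain ⟨e, σ, hσ⟩ := secBC_comp φ g h ψ g' h' F
  rw [funext hσ] at h12
  exact (Bijective.of_comp_iff _ e.bijective).1
    ((Bijective.of_comp_iff' h2 _).1 ((Bijective.of_comp_iff' σ.bijective _).1 h12))

end Comp

end Groth.Agent.Coherent.CohBC
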