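import Groth.Agent.Coherent.CohBC.HomSheaf
import Groth.Agent.FinCovLib29.Basis
import Groth.Agent.PicLib.FiniteSetTriv

/-!
# `Hom(L, L) = O` for invertible `L`; isomorphisms in the source of the internal Hom
-/

set_option autoImplicit false
set_option backward.isDefEq.respectTransparency false

universe u

open CategoryTheory CategoryTheory.Limits AlgebraicGeometry Opposite TopologicalSpace Function
open Groth.Agent.Coherent Groth.Agent.PicLib Groth.Agent.AmpleLib

namespace Groth.Agent.Coherent.CohBC

variable {X : Scheme.{u}} {F G : X.Modules}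

/-- Isomorphic sources give isomorphic internal Homs. -/
noncomputable def internalHomSourceIso (e : F ≅ G) (N : X.Modules) :
    internalHom G N ≅ internalHom F N :=
  (((tensorHomAdj G).ofNatIsoLeft ((DCoh.tensorBi (X := X)).mapIso e.symm)).rightAdjointUniq
    (tensorHomAdj F)).app N

/-- Scalars as endomorphisms. -/
noncomputable def scalarBilin (F : X.Modules) : Bilin F (Coh.structureModule X) F where
  app U x r := (show Γ(X, U) from r) • x
  add_left U x x' r := smul_add _ _ _
  add_right U x r r' := add_smul _ _ _
  smul_left U s x r := smul_comm _ _ _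
  smul_right U s x r := mul_smul _ _ _
  res U V h x r := resM_smul F h _ x

theorem isIso_scalar {L : X.Modules} (hL : PicF.IsInvertible L) :
    IsIso (curry (scalarBilin L)) := by
  classical
  refine TwistLib.G.isIso_of_bijective_on_basis _
    (fun B => ∃ (e : ULift.{u} (Fin 1) → Γ(L, B)), IsBasisOn L B e) (fun V y hy => ?_)
    fun B ⟨e, he⟩ => ?_
  · obtain ⟨U, e, hyU, he⟩ := FinCovLib29.exists_isBasisOn_of_rank (isFinLocFreeOfRank_one hL) y
    exact ⟨V ⊓ U, ⟨_, CAlgH3.LocFreeFactor.IsBasisOn.mono he inf_le_right⟩, ⟨hy, hyU⟩, inf_le_left⟩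
  · have hev : ∀ r : Γ(Coh.structureModule X, B), ev (secHom ((curry (scalarBilin L)).app B r)) B le_rfl
        (e default) = (show Γ(X, B) from r) • e default := fun r => by
      rw [ev_curry, PicLib.resM_self]
      rfl
    refine ⟨fun r r' h => ?_, fun φ => ?_⟩
    · have h' := (hev r).symm.trans
        ((congrArg (fun φ => ev (secHom φ) B le_rfl (e default)) h).trans (hev r'))
      have := (he le_rfl).1 (a₁ := fun _ => (show Γ(X, B) from r)) (a₂ := fun _ => (show Γ(X, B) from r')) (by
        simpa [Fintype.sum_unique, PicLib.resM_self] using h')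
      exact congrFun this default
    · refine ⟨(show Γ(Coh.structureModule X, B) from he.coef le_rfl (ev (secHom φ) B le_rfl (e default)) default),
        locHom_ext_basis he le_rfl (secHom _) (secHom φ) fun m => ?_⟩
      obtain rfl : m = default := Unique.eq_default m
      rw [PicLib.resM_self, hev]
      have := he.coef_spec le_rfl (ev (secHom φ) B le_rfl (e default))
      simpa [Fintype.sum_unique, PicLib.resM_self] using this

end Groth.Agent.Coherent.CohBC
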