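import Groth.Agent.Coherent.CohBC.Perf
import Groth.Agent.FlatCxLib.Exact
import Mathlib.CategoryTheory.Functor.EpiMono
import Mathlib.Algebra.Category.Grp.EpiMono
import Mathlib.Algebra.Category.ModuleCat.EpiMono

/-!
# Exchange properties read off from the finite free complex
-/

set_option autoImplicit false
set_option backward.isDefEq.respectTransparency false

universe u

open CategoryTheory CategoryTheory.Limits AlgebraicGeometry

namespace Groth.Agent.Coherent.CohBC

variable {A : Type u} [CommRing A]

theorem preservesEpi_comp_forget_iff (T : ModuleCat.{u} A ⥤ ModuleCat.{u} A) :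
    (T ⋙ forget₂ (ModuleCat.{u} A) AddCommGrpCat.{u}).PreservesEpimorphisms ↔
      T.PreservesEpimorphisms := by
  constructor <;> intro h <;> refine ⟨fun {M N} f _ => ?_⟩
  · have := (AddCommGrpCat.epi_iff_surjective _).1
      (Functor.map_epi (T ⋙ forget₂ (ModuleCat.{u} A) AddCommGrpCat.{u}) f)
    exact (ModuleCat.epi_iff_surjective _).2 this
  · exact (AddCommGrpCat.epi_iff_surjective _).2 ((ModuleCat.epi_iff_surjective _).1 (Functor.map_epi T f))

theorem preservesMono_comp_forget_iff (T : ModuleCat.{u} A ⥤ ModuleCat.{u} A) :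
    (T ⋙ forget₂ (ModuleCat.{u} A) AddCommGrpCat.{u}).PreservesMonomorphisms ↔
      T.PreservesMonomorphisms := by
  constructor <;> intro h <;> refine ⟨fun {M N} f _ => ?_⟩
  · have := (AddCommGrpCat.mono_iff_injective _).1
      (Functor.map_mono (T ⋙ forget₂ (ModuleCat.{u} A) AddCommGrpCat.{u}) f)
    exact (ModuleCat.mono_iff_injective _).2 this
  · exact (AddCommGrpCat.mono_iff_injective _).2 ((ModuleCat.mono_iff_injective _).1 (Functor.map_mono T f))

namespace PerfData

variable {X : Scheme.{u}} [X.Over (Spec (CommRingCat.of A))] {F : X.Modules} (D : PerfData A X F)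
  (p : ℕ)

/-- The linear functor computing `M ↦ H^p(X, F ⊗_A M)`. -/
noncomputable abbrev T : ModuleCat.{u} A ⥤ ModuleCat.{u} A := CohIII.TFun D.P (-(p : ℤ))

theorem preservesEpi_iff :
    (CohIII.tensorAFunctor A F ⋙ CohIII.HAb X p).PreservesEpimorphisms ↔
      (D.T p).PreservesEpimorphisms :=
  (Functor.PreservesEpimorphisms.iso_iff (D.isoTFun p)).trans (preservesEpi_comp_forget_iff _)

theorem preservesMono_iff :
    (CohIII.tensorAFunctor A F ⋙ CohIII.HAb X p).PreservesMonomorphisms ↔
      (D.T p).PreservesMonomorphisms :=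
  (Functor.PreservesMonomorphisms.iso_iff (D.isoTFun p)).trans (preservesMono_comp_forget_iff _)

theorem surjective_map_iff {M N : ModuleCat.{u} A} (g : M ⟶ N) :
    Function.Surjective ((CohIII.tensorAFunctor A F ⋙ CohIII.HAb X p).map g).hom ↔
      Function.Surjective ((D.T p).map g).hom := by
  refine (AddCommGrpCat.epi_iff_surjective _).symm.trans (Iff.trans ?_
    (AddCommGrpCat.epi_iff_surjective ((forget₂ (ModuleCat.{u} A) AddCommGrpCat.{u}).map ((D.T p).map g))))
  exact (MorphismProperty.epimorphisms AddCommGrpCat.{u}).arrow_mk_iso_iff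
    (Arrow.isoMk ((D.isoTFun p).app M) ((D.isoTFun p).app N) ((D.isoTFun p).hom.naturality g).symm)

theorem injective_map_iff {M N : ModuleCat.{u} A} (g : M ⟶ N) :
    Function.Injective ((CohIII.tensorAFunctor A F ⋙ CohIII.HAb X p).map g).hom ↔
      Function.Injective ((D.T p).map g).hom := by
  refine (AddCommGrpCat.mono_iff_injective _).symm.trans (Iff.trans ?_
    (AddCommGrpCat.mono_iff_injective ((forget₂ (ModuleCat.{u} A) AddCommGrpCat.{u}).map ((D.T p).map g))))
  exact (MorphismProperty.monomorphisms AddCommGrpCat.{u}).arrow_mk_iso_iff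
    (Arrow.isoMk ((D.isoTFun p).app M) ((D.isoTFun p).app N) ((D.isoTFun p).hom.naturality g).symm)

theorem length_eq (M : ModuleCat.{u} A) :
    Module.length A (Coh.HH X ((CohIII.tensorAFunctor A F).obj M) p) =
      Module.length A (CohIII.T D.P (-(p : ℤ)) M) :=
  (D.objEquiv M p).length_eq

include D in
theorem preservesEpi_iff_preservesMono_succ :
    (CohIII.tensorAFunctor A F ⋙ CohIII.HAb X p).PreservesEpimorphisms ↔
      (CohIII.tensorAFunctor A F ⋙ CohIII.HAb X (p + 1)).PreservesMonomorphisms := by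
  rw [D.preservesEpi_iff, D.preservesMono_iff, FlatCxLib.preservesEpi_iff_flat (-(p : ℤ))
    (-((p + 1 : ℕ) : ℤ)) D.flat_P (by omega), FlatCxLib.preservesMono_iff_flat (-(p : ℤ))
    (-((p + 1 : ℕ) : ℤ)) D.flat_P (by omega)]

end PerfData

end Groth.Agent.Coherent.CohBC
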