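import Groth.Agent.Coherent.CohBC.Fibre
import Groth.Agent.Coherent.CohBC.Criteria
import Mathlib.Algebra.Homology.ConcreteCategory

/-!
# Degree zero: sections and the Čech complex
-/

set_option autoImplicit false
set_option backward.isDefEq.respectTransparency false

universe u

open CategoryTheory CategoryTheory.Limits AlgebraicGeometry Opposite TopologicalSpace TensorProduct
open MonoidalCategory HomologicalComplex Function
open Groth.Agent.Coherent Groth.Agent.PicLib

namespace Groth.Agent.Coherent.CohBC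

variable {A : Type u} [CommRing A]

section Algebra

variable (C : CochainComplex (ModuleCat.{u} A) ℕ) {M N : ModuleCat.{u} A} (g : M ⟶ N)

/-- Surjectivity in degree zero, on cocycles. -/
theorem surjective_TFun_zero_iff :
    Surjective ((CohIII.TFun C 0).map g).hom ↔
      ∀ y : C.X 0 ⊗[A] N, ((C.d 0 1).hom.rTensor N) y = 0 →
        ∃ x : C.X 0 ⊗[A] M, ((C.d 0 1).hom.rTensor M) x = 0 ∧ g.hom.lTensor (C.X 0) x = y := by
  let f := CohIII.tensorMap C g
  have hnext : (ComplexShape.up ℕ).next 0 = 1 := CochainComplex.next ℕ 0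
  have hd : ∀ (P : ModuleCat.{u} A) (z : (CohIII.tensorObj C P).cycles 0),
      ((C.d 0 1).hom.rTensor P) ((CohIII.tensorObj C P).iCycles 0 z) = 0 := fun P z =>
    ConcreteCategory.congr_hom ((CohIII.tensorObj C P).iCycles_d 0 1) z
  have hmk : ∀ (P : ModuleCat.{u} A) (y : C.X 0 ⊗[A] P), ((C.d 0 1).hom.rTensor P) y = 0 →
      ∃ z : (CohIII.tensorObj C P).cycles 0, (CohIII.tensorObj C P).iCycles 0 z = y := fun P y hy =>
    ⟨(CohIII.tensorObj C P).cyclesMk y 1 hnext hy, (CohIII.tensorObj C P).i_cyclesMk y 1 hnext hy⟩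
  have hinj : Injective ((CohIII.tensorObj C N).iCycles 0).hom :=
    (ModuleCat.mono_iff_injective _).1 inferInstance
  have hi : ∀ z, (CohIII.tensorObj C N).iCycles 0 (cyclesMap f 0 z) =
      g.hom.lTensor (C.X 0) ((CohIII.tensorObj C M).iCycles 0 z) := fun z =>
    ConcreteCategory.congr_hom (cyclesMap_i f 0) z
  have hiso : Surjective ((CohIII.TFun C 0).map g).hom ↔ Surjective (cyclesMap f 0).hom := by
    have : ∀ P, IsIso ((CohIII.tensorObj C P).homologyπ 0) := fun P =>
      (CohIII.tensorObj C P).isIso_homologyπ 0 0 (by simp) (by simp)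
    refine (ModuleCat.epi_iff_surjective _).symm.trans (Iff.trans ?_ (ModuleCat.epi_iff_surjective _))
    exact ((MorphismProperty.epimorphisms (ModuleCat.{u} A)).arrow_mk_iso_iff
      (Arrow.isoMk (asIso ((CohIII.tensorObj C M).homologyπ 0))
        (asIso ((CohIII.tensorObj C N).homologyπ 0)) (homologyπ_naturality f 0))).symm
  rw [hiso]
  refine ⟨fun h y hy => ?_, fun h w => ?_⟩
  · obtain ⟨w, hw⟩ := hmk N y hy
    obtain ⟨z, rfl⟩ := h w
    exact ⟨_, hd M z, (hi z).symm.trans hw⟩
  · obtain ⟨x, hx, hx'⟩ := h _ (hd N w)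
    obtain ⟨z, rfl⟩ := hmk M x hx
    exact ⟨z, hinj ((hi z).trans hx')⟩

end Algebra

section Geometry

variable {X : Scheme.{u}} [X.Over (Spec (CommRingCat.of A))] {ι : Type u} (W : ι → X.Opens)
  (F : X.Modules)

theorem cxD_restrict (b : Γ(F, ⊤)) :
    cxD A W F 0 (fun a => resM F le_top b) = 0 := funext fun a => by
  show ∑ j : Fin 2, (-1 : ℤ) ^ (j : ℕ) • resM F (cinter_face W a j) (resM F le_top b) = 0
  simp [Fin.sum_univ_two, resM_resM]

theorem le_cinter_pair (i j : ι) : W i ⊓ W j ≤ cinter W ![i, j] :=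
  le_iInf fun k => by
    fin_cases k
    · exact inf_le_left
    · exact inf_le_right

variable (hcov : ⨆ i, W i = ⊤)
include hcov

/-- Cocycles of degree zero are global sections. -/
theorem exists_glue_cocycle (s : ∀ a : Fin 1 → ι, Γ(F, cinter W a)) (hs : cxD A W F 0 s = 0) :
    ∃ b : Γ(F, ⊤), ∀ a, resM F le_top b = s a := by
  let t : ∀ i, Γ(F, W i) := fun i => resM F (le_iInf fun _ => le_rfl) (s fun _ => i)
  have key : ∀ i j (h₁ : W i ⊓ W j ≤ cinter W (fun _ : Fin 1 => i))
      (h₂ : W i ⊓ W j ≤ cinter W (fun _ : Fin 1 => j)), resM F h₁ (s fun _ => i) = resM F h₂ (s fun _ => j) := by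
    intro i j h₁ h₂
    have h := congrArg (resM F (le_cinter_pair W i j)) (congrFun hs ![i, j])
    have e : ∀ (a a' : Fin 1 → ι) (ha : a = a') (p : W i ⊓ W j ≤ cinter W a)
        (p' : W i ⊓ W j ≤ cinter W a'), resM F p (s a) = resM F p' (s a') := by
      rintro a _ rfl p p'; rfl
    change resM F (le_cinter_pair W i j) (∑ k : Fin 2, (-1 : ℤ) ^ (k : ℕ) •
      resM F (cinter_face W ![i, j] k) (s (![i, j] ∘ k.succAbove))) = resM F _ 0 at h
    simp only [Fin.sum_univ_two, Fin.val_zero, Fin.val_one, pow_zero, pow_one, one_smul, neg_smul,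
      map_add, map_neg, resM_resM, map_zero] at h
    rw [e (![i, j] ∘ Fin.succAbove 0) (fun _ => j) (funext fun k => by fin_cases k; rfl) _ h₂,
      e (![i, j] ∘ Fin.succAbove 1) (fun _ => i) (funext fun k => by fin_cases k; rfl) _ h₁] at h
    exact (add_neg_eq_zero.1 h).symm
  obtain ⟨b, hb, -⟩ := TopCat.Sheaf.existsUnique_gluing' (X := X.toTopCat) (Coh.toAb F) W ⊤
    (fun i => homOfLE le_top) hcov.ge t (fun i j => by
      refine Eq.trans (resM_resM F _ _ _) (Eq.trans ?_ (resM_resM F _ _ _).symm)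
      exact key i j _ _)
  refine ⟨b, fun a => ?_⟩
  obtain ⟨i, rfl⟩ : ∃ i, a = fun _ => i := ⟨a 0, funext fun k => congrArg a (Subsingleton.elim k 0)⟩
  rw [show s (fun _ => i) = resM F (iInf_le (fun _ : Fin 1 => W i) 0) (t i) from
    (resM_refl F _).symm.trans (resM_resM F _ _ _).symm]
  rw [show t i = resM F le_top b from (hb i).symm, resM_resM]

theorem eq_of_restrict (b b' : Γ(F, ⊤))
    (h : ∀ a : Fin 1 → ι, resM F (le_top (a := cinter W a)) b = resM F le_top b') : b = b' := by
  refine TopCat.Sheaf.eq_of_locally_eq' (X := X.toTopCat) (Coh.toAb F) W ⊤ (fun i => homOfLE le_top)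
    hcov.ge b b' fun i => ?_
  have := congrArg (resM F (show W i ≤ cinter W (fun _ : Fin 1 => i) from le_iInf fun _ => le_rfl))
    (h fun _ => i)
  rw [resM_resM, resM_resM] at this
  exact this

variable [Finite ι] (hW : ∀ (p : ℕ) (a : Fin (p + 1) → ι), IsAffineOpen (cinter W a)) [Coh.IsQCoh F]
  {B : Type u} [CommRing B] {X' : Scheme.{u}} [X'.Over (Spec (CommRingCat.of B))]
  (g : X' ⟶ X)
include hW

/-- In degree zero, `H^0(X, F) ⊗ A → H^0(X, F ⊗ B)` is surjective iff sections restrict onto. -/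
theorem surjective_TFun_zero_iff_pullSec' (φ : A →+* B)
    (h : IsPullback g (X' ↘ Spec (CommRingCat.of B)) (X ↘ Spec (CommRingCat.of A))
      (Spec.map (CommRingCat.ofHom φ))) :
    letI := φ.toAlgebra
    Surjective ((CohIII.TFun (cxA A W F) 0).map
        (ModuleCat.ofHom (Algebra.linearMap A B) : ModuleCat.of A A ⟶ ModuleCat.of A B)).hom ↔
      Surjective (pullSec g (L := F) (U := ⊤)) := by
  classical
  let _ : Algebra A B := φ.toAlgebra
  let F' := (Scheme.Modules.pullback g).obj F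
  let W' := fun i => g ⁻¹ᵁ W i
  let Φ := cochainBC φ g h W F 0
  have hΦ : Bijective Φ := bijective_cochainBC φ g h W hW F 0
  have hΦ1 := (bijective_cochainBC φ g h W hW F 1).1
  let c0 := TensorProduct.comm A (∀ a : Fin 1 → ι, Γ(F, cinter W a)) B
  have hcov' : ⨆ i, W' i = ⊤ := by
    rw [← Scheme.Hom.preimage_iSup, hcov, Scheme.Hom.preimage_top]
  -- the differentials match
  have hcomm : ∀ y : (∀ a : Fin 1 → ι, Γ(F, cinter W a)) ⊗[A] B,
      cxD B W' F' 0 (Φ (c0 y)) = cochainBC φ g h W F 1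
        (TensorProduct.comm A _ B (((cxA A W F).d 0 1).hom.rTensor B y)) := fun y => by
    have e := ConcreteCategory.congr_hom ((cxBCIso φ g h W hW F).hom.comm 0 1) (c0 y)
    rw [show ((cxA B W' F').d 0 1) = ModuleCat.ofHom (cxD B W' F' 0) from cxA_d B W' F' 0] at e
    refine e.trans (congrArg (cochainBC φ g h W F 1) ?_)
    clear e
    show LinearMap.baseChange B ((cxA A W F).d 0 1).hom (c0 y) = _
    induction y using TensorProduct.induction_on with
    | zero => simp
    | add u v hu hv => simp only [map_add, hu, hv]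
    | tmul x b => rfl
  -- cochains of global sections
  have hglob : ∀ b : Γ(F, ⊤), ∀ a, Φ ((1 : B) ⊗ₜ[A] (fun a => resM F le_top b)) a =
      resM F' (le_top (a := cinter W' a)) (pullSec g b) := fun b a => by
    refine Eq.trans (secBCTo_tmul φ g h W F a 1 (resM F le_top b)) ?_
    rw [one_smul, ← resM_pullSec g (le_top (a := cinter W a)) b, resM_resM]
    rfl
  have hd0 : ∀ x : ∀ a : Fin 1 → ι, Γ(F, cinter W a), (((cxA A W F).d 0 1).hom) x = cxD A W F 0 x :=
    fun x => LinearMap.congr_fun (congrArg ModuleCat.Hom.hom (cxA_d A W F 0)) x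
  rw [surjective_TFun_zero_iff]
  constructor
  · intro hsurj s'
    obtain ⟨y', hy'⟩ := hΦ.2 fun a => resM F' le_top s'
    have hy0 : ((cxA A W F).d 0 1).hom.rTensor B (c0.symm y') = 0 := by
      refine (TensorProduct.comm A _ B).injective (hΦ1 ?_)
      refine (hcomm _).symm.trans ?_
      rw [LinearEquiv.apply_symm_apply, hy', map_zero, map_zero]
      exact cxD_restrict W' F' s'
    obtain ⟨x, hx, hxy⟩ := hsurj (c0.symm y') hy0
    obtain ⟨x₀, rfl⟩ := (TensorProduct.rid A _).symm.surjective x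
    rw [TensorProduct.rid_symm_apply, LinearMap.rTensor_tmul] at hx
    have hx0 : cxD A W F 0 x₀ = 0 := by
      rw [← hd0]
      simpa using congrArg (TensorProduct.rid A _) hx
    obtain ⟨b, hb⟩ := exists_glue_cocycle W F hcov x₀ hx0
    refine ⟨b, eq_of_restrict W' F' hcov' _ _ fun a => ?_⟩
    rw [← hglob, ← congrFun hy' a]
    refine congrArg (fun t => Φ t a) ?_
    rw [funext hb, ← c0.apply_symm_apply y', ← hxy, TensorProduct.rid_symm_apply]
    show _ = (algebraMap A B 1) ⊗ₜ[A] x₀
    rw [map_one]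
  · intro hsurj (y : (∀ a : Fin 1 → ι, Γ(F, cinter W a)) ⊗[A] B) hy
    have hs : cxD B W' F' 0 (Φ (c0 y)) = 0 := by rw [hcomm]; erw [hy]; rw [map_zero, map_zero]
    obtain ⟨s', hs'⟩ := exists_glue_cocycle W' F' hcov' _ hs
    obtain ⟨b, rfl⟩ := hsurj s'
    refine ⟨(fun a => resM F le_top b) ⊗ₜ[A] (1 : A), ?_, ?_⟩
    · refine (LinearMap.rTensor_tmul _ _ _ _).trans ?_
      erw [hd0, cxD_restrict, TensorProduct.zero_tmul]
    · refine c0.injective (hΦ.1 (funext fun a => ?_))
      refine Eq.trans ?_ ((hglob b a).trans (hs' a))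
      refine congrArg (fun t => Φ t a) ?_
      show (algebraMap A B 1) ⊗ₜ[A] _ = _
      rw [map_one]
      rfl

omit [Finite ι] in
/-- The same for an algebra. -/
theorem surjective_TFun_zero_iff_pullSec [Finite ι] [i : Algebra A B]
    (h : IsPullback g (X' ↘ Spec (CommRingCat.of B)) (X ↘ Spec (CommRingCat.of A))
      (Spec.map (CommRingCat.ofHom (algebraMap A B)))) :
    Surjective ((CohIII.TFun (cxA A W F) 0).map
        (ModuleCat.ofHom (Algebra.linearMap A B) : ModuleCat.of A A ⟶ ModuleCat.of A B)).hom ↔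
      Surjective (pullSec g (L := F) (U := ⊤)) := by
  generalize hφ : algebraMap A B = φ at h
  obtain rfl : i = φ.toAlgebra := Algebra.algebra_ext _ _ fun r => RingHom.congr_fun hφ r
  exact surjective_TFun_zero_iff_pullSec' W F hcov hW g φ h

end Geometry

end Groth.Agent.Coherent.CohBC
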