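import Groth.Agent.Coherent.CohBC.Geom
import Mathlib.CategoryTheory.Monoidal.Braided.Basic

/-!
# A finite free complex computing `M ↦ H^n(X, F ⊗_A M)`
-/

set_option autoImplicit false
set_option backward.isDefEq.respectTransparency false

universe u

open CategoryTheory CategoryTheory.Limits AlgebraicGeometry Opposite TopologicalSpace TensorProduct
open MonoidalCategory
open Groth.Agent.Coherent Groth.Agent.PicLib Groth.Agent.AmpleLib

namespace Groth.Agent.Coherent.CohBC

/-- `G ⊗ F ≅ F ⊗ G`, natural in `G`. -/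
noncomputable def tensorRightBiIso {X : Scheme.{u}} (F : X.Modules) :
    DCoh.tensorRightMod F ≅ (DCoh.tensorBi (X := X)).obj F :=
  Functor.isoWhiskerLeft DCoh.toP (Functor.isoWhiskerRight
    (BraidedCategory.tensorLeftIsoTensorRight (CohB1.toPMod F)).symm DCoh.shP)

variable {A : Type u} [CommRing A] {X : Scheme.{u}} [X.Over (Spec (CommRingCat.of A))]

/-- `f^*M~ ⊗ F ≅ F ⊗_A M`. -/
noncomputable def tensorASwap (F : X.Modules) (M : ModuleCat.{u} A) :
    (CohIII.tensorAFunctor A F).obj M ≅ CohB1.tensorMod F (pullTilde A M) :=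
  (tensorRightBiIso F).app _

theorem tensorASwap_naturality (F : X.Modules) {M N : ModuleCat.{u} A} (g : M ⟶ N) :
    (CohIII.tensorAFunctor A F).map g ≫ (tensorASwap F N).hom =
      (tensorASwap F M).hom ≫ tensorAMap A F g :=
  (tensorRightBiIso F).hom.naturality
    ((Scheme.Modules.pullback (X ↘ Spec (CommRingCat.of A))).map
      (tilde.map (R := CommRingCat.of A) g))

instance isQCoh_tensorAFunctor (F : X.Modules) [Coh.IsQCoh F] (M : ModuleCat.{u} A) :
    Coh.IsQCoh ((CohIII.tensorAFunctor A F).obj M) :=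
  isQCoh_of_iso (tensorASwap F M).symm

theorem cxMapA_comp {ι : Type u} (W : ι → X.Opens) {P Q R : X.Modules} (φ : P ⟶ Q) (ψ : Q ⟶ R) :
    cxMapA A W (φ ≫ ψ) = cxMapA A W φ ≫ cxMapA A W ψ :=
  rfl

theorem cxMapA_id {ι : Type u} (W : ι → X.Opens) (P : X.Modules) :
    cxMapA A W (𝟙 P) = 𝟙 (cxA A W P) :=
  rfl

/-- The Čech complexes of isomorphic modules are isomorphic. -/
noncomputable def cxIsoA {ι : Type u} (W : ι → X.Opens) {P Q : X.Modules} (e : P ≅ Q) :
    cxA A W P ≅ cxA A W Q where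
  hom := cxMapA A W e.hom
  inv := cxMapA A W e.inv
  hom_inv_id := by rw [← cxMapA_comp, e.hom_inv_id, cxMapA_id]
  inv_hom_id := by rw [← cxMapA_comp, e.inv_hom_id, cxMapA_id]

/-- An affine cover and a finite free complex replacing its Čech complex. -/
structure PerfData (A : Type u) [CommRing A] (X : Scheme.{u}) [X.Over (Spec (CommRingCat.of A))]
    (F : X.Modules) where
  ι : Type u
  finite : Finite ι
  W : ι → X.Opens
  hcov : ⨆ i, W i = ⊤
  hW : ∀ (p : ℕ) (a : Fin (p + 1) → ι), IsAffineOpen (cinter W a)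
  isQCoh : Coh.IsQCoh F
  R : Replacement (cxA A W F)

/-- Cohomology of a flat coherent sheaf on a proper scheme is computed by a finite free complex. -/
theorem nonempty_perfData [IsNoetherianRing A] [IsProper (X ↘ Spec (CommRingCat.of A))]
    (F : X.Modules) (hF : Coh.IsCoh F)
    (hfl : FlatMod.IsFlatOver (X ↘ Spec (CommRingCat.of A)) F) :
    Nonempty (PerfData A X F) := by
  have : Coh.IsQCoh F := hF.1
  obtain ⟨ι, hι, W, hcov, hW⟩ := exists_affine_cover A X
  obtain ⟨R⟩ := nonempty_replacement (cxA A W F) (flat_cxA W F hfl hW) (Nat.card ι)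
    (fun n hn M => isZero_T_cxA W F hW hcov n hn M) (finite_homology_cxA W F hF hW hcov)
  exact ⟨⟨ι, hι, W, hcov, hW, hF.1, R⟩⟩

namespace PerfData

variable {F : X.Modules} (D : PerfData A X F)

/-- The cochain complex. -/
abbrev L : CochainComplex (ModuleCat.{u} A) ℤ := D.R.L

/-- The chain complex form. -/
noncomputable abbrev P : ChainComplex (ModuleCat.{u} A) ℤ := toChain D.R.L

theorem finite_free_P (i : ℤ) : Module.Finite A (D.P.X i) ∧ Module.Free A (D.P.X i) :=
  D.R.finFree (-i)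

theorem finite_flat_P (i : ℤ) : Module.Finite A (D.P.X i) ∧ Module.Flat A (D.P.X i) :=
  ⟨(D.R.finFree (-i)).1, @Module.Flat.of_free A (D.R.L.X (-i)) _ _ _ (D.R.finFree (-i)).2⟩

theorem flat_P (i : ℤ) : Module.Flat A (D.P.X i) := (D.finite_flat_P i).2

theorem isZero_P (i : ℤ) (hi : i < -D.R.bound) : IsZero (D.P.X i) :=
  D.R.isZero_X (-i) (by omega)

theorem isZero_T_pos (i : ℤ) (hi : 0 < i) (M : ModuleCat.{u} A) : IsZero (CohIII.T D.P i M) :=
  (D.R.isZero_neg (-i) M (by omega)).of_iso (toChainTIso D.R.L M i (-i) rfl)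

/-- The homology functors of the chain complex and of the Čech complex. -/
noncomputable def tIso (n : ℕ) : CohIII.TFun (cxA A D.W F) n ≅ CohIII.TFun D.P (-(n : ℤ)) :=
  (D.R.isoNat n).symm ≪≫ (toChainTFunIso D.R.L (-(n : ℤ)) n (neg_neg _)).symm

/-- The Čech complex of `f^*M~ ⊗ F`. -/
noncomputable def cxObjIso (M : ModuleCat.{u} A) :
    cxA A D.W ((CohIII.tensorAFunctor A F).obj M) ≅ CohIII.tensorObj (cxA A D.W F) M :=
  haveI := D.finite
  haveI := D.isQCoh
  cxIsoA D.W (tensorASwap F M) ≪≫ (cxTensorIso D.W F D.hW M).symm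

theorem cxObjIso_naturality {M N : ModuleCat.{u} A} (g : M ⟶ N) :
    cxMapA A D.W ((CohIII.tensorAFunctor A F).map g) ≫ (D.cxObjIso N).hom =
      (D.cxObjIso M).hom ≫ CohIII.tensorMap (cxA A D.W F) g := by
  have := D.finite
  have := D.isQCoh
  show cxMapA A D.W _ ≫ cxMapA A D.W (tensorASwap F N).hom ≫ (cxTensorIso D.W F D.hW N).inv =
    (cxMapA A D.W (tensorASwap F M).hom ≫ (cxTensorIso D.W F D.hW M).inv) ≫ _
  rw [← Category.assoc, ← cxMapA_comp, tensorASwap_naturality, cxMapA_comp, Category.assoc,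
    Category.assoc]
  refine congrArg (_ ≫ ·) ?_
  rw [Iso.comp_inv_eq, Category.assoc, cxTensorIso_naturality, Iso.inv_hom_id_assoc]

/-- `H^n(X, f^*M~ ⊗ F) = H_{-n}(P ⊗ M)`. -/
noncomputable def objEquiv (M : ModuleCat.{u} A) (n : ℕ) :
    Coh.HH X ((CohIII.tensorAFunctor A F).obj M) n ≃ₗ[A] CohIII.T D.P (-(n : ℤ)) M :=
  haveI := D.isQCoh
  (hhCech A D.W D.hcov D.hW _ n).trans
    (HomologicalComplex.homologyMapIso (D.cxObjIso M) n ≪≫ (D.tIso n).app M).toLinearEquiv

theorem objEquiv_naturality {M N : ModuleCat.{u} A} (g : M ⟶ N) (n : ℕ)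
    (x : Coh.HH X ((CohIII.tensorAFunctor A F).obj M) n) :
    D.objEquiv N n (Sheaf.H.map ((toAbFunctor X).map ((CohIII.tensorAFunctor A F).map g)) n x) =
      (CohIII.TFun D.P (-(n : ℤ))).map g (D.objEquiv M n x) := by
  have := D.isQCoh
  have h : HomologicalComplex.homologyMap (cxMapA A D.W ((CohIII.tensorAFunctor A F).map g)) n ≫
      (HomologicalComplex.homologyMapIso (D.cxObjIso N) n ≪≫ (D.tIso n).app N).hom =
    (HomologicalComplex.homologyMapIso (D.cxObjIso M) n ≪≫ (D.tIso n).app M).hom ≫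
      (CohIII.TFun D.P (-(n : ℤ))).map g := by
    show _ ≫ HomologicalComplex.homologyMap (D.cxObjIso N).hom n ≫ (D.tIso n).hom.app N =
      (HomologicalComplex.homologyMap (D.cxObjIso M).hom n ≫ (D.tIso n).hom.app M) ≫ _
    rw [← Category.assoc, ← HomologicalComplex.homologyMap_comp, D.cxObjIso_naturality,
      HomologicalComplex.homologyMap_comp, Category.assoc, Category.assoc]
    exact congrArg (_ ≫ ·) ((D.tIso n).hom.naturality g)
  refine (congrArg (HomologicalComplex.homologyMapIso (D.cxObjIso N) n ≪≫ (D.tIso n).app N).hom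
    (hhCech_naturality A D.W D.hcov D.hW ((CohIII.tensorAFunctor A F).map g) n x)).trans ?_
  exact ConcreteCategory.congr_hom h _

/-- The cohomology functor of `F ⊗_A -` as the homology functor of a finite free complex. -/
noncomputable def isoTFun (n : ℕ) :
    CohIII.tensorAFunctor A F ⋙ CohIII.HAb X n ≅
      CohIII.TFun D.P (-(n : ℤ)) ⋙ forget₂ (ModuleCat.{u} A) AddCommGrpCat.{u} :=
  NatIso.ofComponents (fun M => (D.objEquiv M n).toAddEquiv.toAddCommGrpIso) fun {M N} g => by
    ext x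
    exact D.objEquiv_naturality g n x

/-- `H^n(X, F ⊗_A M) = H_{-n}(P ⊗ M)`. -/
noncomputable def hhP (M : ModuleCat.{u} A) (n : ℕ) :
    Coh.HH X (CohB1.tensorMod F (pullTilde A M)) n ≃ₗ[A] CohIII.T D.P (-(n : ℤ)) M :=
  haveI := D.finite
  haveI := D.isQCoh
  (hhTensorEquiv D.W F D.hW D.hcov M n).trans ((D.tIso n).app M).toLinearEquiv

end PerfData

end Groth.Agent.Coherent.CohBC
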