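import Groth.Agent.Coherent.CohBC.FlatReplace
import Groth.Agent.FlatCx12.Tensor
import Groth.Agent.FlatCx12.Cochain
import Groth.Agent.CSA.Fibre
import Groth.Agent.S14611
import Mathlib.Algebra.Homology.Embedding.CochainComplex

/-!
# Universal exactness from closed fibres, and perfect amplitude
-/

set_option autoImplicit false
set_option backward.isDefEq.respectTransparency false

universe u

open CategoryTheory CategoryTheory.Limits TensorProduct Function MonoidalCategory
open Groth.Agent.FlatCxLib Groth.Agent.FlatCx12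
open scoped ZeroObject

namespace Groth.Agent.Coherent.CohBC

variable {A : Type u} [CommRing A] [IsNoetherianRing A]

/-- Vanishing at all closed points gives flatness of the cokernel and universal vanishing. -/
theorem flat_and_isZero_of_fibres (P : ChainComplex (ModuleCat.{u} A) ℤ)
    (hP : ∀ i, Module.Finite A (P.X i) ∧ Module.Flat A (P.X i)) (p r : ℤ) (hpr : r + 1 = p)
    (h : ∀ (m : Ideal A) [m.IsMaximal], IsZero (CohIII.T P p (ModuleCat.of A (A ⧸ m)))) :
    Module.Flat A (P.X r ⧸ LinearMap.range (P.d p r).hom) ∧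
      ∀ M : ModuleCat.{u} A, IsZero (CohIII.T P p M) := by
  have := (hP r).1
  have := (hP r).2
  have := (hP p).1
  have hflat : Module.Flat A (P.X r ⧸ LinearMap.range (P.d p r).hom) :=
    flat_coker_of_residue (P.d (p + 1) p).hom (P.d p r).hom (d_comp_d_hom P (p + 1) p r) fun m _ x =>
      ⟨fun hx => (isZero_T_iff (p + 1) p r rfl hpr _).mp (h m) hx, by
        rintro ⟨y, rfl⟩
        rw [rTensor_comp_apply, d_comp_d_hom, LinearMap.rTensor_zero, LinearMap.zero_apply]⟩
  let H := homologyQuot (P.d (p + 1) p).hom (P.d p r).hom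
  have hH : Subsingleton H := CSA.subsingleton_of_fibres fun m hm => by
    refine ⟨A ⧸ m, inferInstance, inferInstance, ?_, ?_⟩
    · rw [Ideal.Quotient.algebraMap_eq, Ideal.map_quotient_self]
      have := Ideal.Quotient.nontrivial_iff.2 hm.ne_top
      exact bot_ne_top
    · have : Subsingleton ((CohIII.TFun P p).obj (ModuleCat.of A (A ⧸ m))) :=
        ModuleCat.subsingleton_of_isZero (h m)
      exact ((TensorProduct.comm A (A ⧸ m) H).trans (tensorEquiv (p + 1) p r (fun i => (hP i).2)
        (ModuleCat.of A (A ⧸ m)) rfl hpr)).toEquiv.subsingleton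
  refine ⟨hflat, fun M => ?_⟩
  rw [ModuleCat.isZero_iff_subsingleton]
  have : Subsingleton (H ⊗[A] M) := by
    refine subsingleton_of_forall_eq 0 fun z => ?_
    induction z with
    | zero => rfl
    | add a b ha hb => rw [ha, hb, add_zero]
    | tmul x y => rw [Subsingleton.elim x 0, zero_tmul]
  exact (tensorEquiv (p + 1) p r (fun i => (hP i).2) M rfl hpr).symm.toEquiv.subsingleton

variable (L : CochainComplex (ModuleCat.{u} A) ℤ)
  (hL : ∀ i, Module.Finite A (L.X i) ∧ Module.Flat A (L.X i))
include hL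

theorem isZero_T_of_fibres_cochain (p : ℤ)
    (h : ∀ (m : Ideal A) [m.IsMaximal], IsZero (CohIII.T L p (ModuleCat.of A (A ⧸ m))))
    (M : ModuleCat.{u} A) : IsZero (CohIII.T L p M) :=
  ((flat_and_isZero_of_fibres (toChain L) (fun i => hL (-i)) (-p) (-p - 1) (by omega) fun m _ =>
    (h m).of_iso (toChainTIso L _ (-p) p (neg_neg p))).2 M).of_iso
      (toChainTIso L M (-p) p (neg_neg p)).symm

omit hL [IsNoetherianRing A] in
theorem quasiIsoAt_tensor {L L' : CochainComplex (ModuleCat.{u} A) ℤ} (φ : L ⟶ L')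
    (hf : ∀ i, Module.Flat A (L.X i)) (hf' : ∀ i, Module.Flat A (L'.X i))
    (b : ∃ b : ℤ, ∀ i, b < i → IsZero (L.X i)) (b' : ∃ b : ℤ, ∀ i, b < i → IsZero (L'.X i))
    [QuasiIso φ] (M : ModuleCat.{u} A) (p : ℤ) :
    Nonempty (CohIII.T L p M ≅ CohIII.T L' p M) :=
  ⟨@asIso _ _ _ _ (HomologicalComplex.homologyMap
    (((tensorRight M).mapHomologicalComplex (ComplexShape.up ℤ)).map φ) p)
    ((quasiIsoAt_iff_isIso_homologyMap _ p).1
      ((FlatCx12.quasiIso_tensorRight L L' hf hf' b b' φ M).quasiIsoAt p))⟩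

/-- A complex with universal amplitude `[a, d]` can be replaced by one supported there. -/
theorem exists_amplitude (hb : ∃ b : ℤ, ∀ i, b < i → IsZero (L.X i)) (a d : ℤ)
    (hfib : ∀ (m : Ideal A) [m.IsMaximal], ∀ p < a, IsZero (CohIII.T L p (ModuleCat.of A (A ⧸ m))))
    (htop : ∀ p, d < p → IsZero (L.homology p)) :
    ∃ L' : CochainComplex (ModuleCat.{u} A) ℤ,
      (∀ i, Module.Finite A (L'.X i) ∧ Module.Projective A (L'.X i)) ∧
      (∀ i : ℤ, i < a ∨ d < i → IsZero (L'.X i)) ∧
      ((∀ p, IsZero (L.homology p)) → ∀ i, IsZero (L'.X i)) ∧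
      ∀ (p : ℤ) (M : ModuleCat.{u} A), Nonempty (CohIII.T L' p M ≅ CohIII.T L p M) := by
  have hlow : ∀ p < a, ∀ M, IsZero (CohIII.T L p M) := fun p hp =>
    isZero_T_of_fibres_cochain L hL p fun m _ => hfib m p hp
  by_cases hall : ∀ p, IsZero (L.homology p)
  · refine ⟨0, fun i => ?_, fun i _ => ?_, fun _ i => ?_, fun p M => ⟨IsZero.iso ?_ ?_⟩⟩
    · have hz : IsZero ((0 : CochainComplex (ModuleCat.{u} A) ℤ).X i) :=
        Functor.map_isZero (HomologicalComplex.eval (ModuleCat.{u} A) (ComplexShape.up ℤ) i) (isZero_zero _)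
      have := ModuleCat.subsingleton_of_isZero hz
      exact ⟨inferInstance, inferInstance⟩
    · exact Functor.map_isZero (HomologicalComplex.eval (ModuleCat.{u} A) (ComplexShape.up ℤ) i) (isZero_zero _)
    · exact Functor.map_isZero (HomologicalComplex.eval (ModuleCat.{u} A) (ComplexShape.up ℤ) i) (isZero_zero _)
    · exact Functor.map_isZero (HomologicalComplex.homologyFunctor _ _ p)
        (Functor.map_isZero ((tensorRight M).mapHomologicalComplex (ComplexShape.up ℤ)) (isZero_zero _))
    · exact isZero_of_exact_d (CohIII.tensorObj L M) (p - 1) p (p + 1) (by omega) rfl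
        (exact_rTensor_of_acyclic L (fun i => (hL i).2) hb hall M p)
  obtain ⟨p₀, hp₀⟩ := not_forall.1 hall
  have had : a ≤ d := by
    by_contra hlt
    refine hp₀ ?_
    rcases lt_or_ge p₀ a with hp | hp
    · exact (hlow p₀ hp _).of_iso (unitTIso L p₀).symm
    · exact htop p₀ (by omega)
  have : L.IsLE d := (CochainComplex.isLE_iff L d).2 fun i hi =>
    (HomologicalComplex.exactAt_iff_isZero_homology L i).2 (htop i hi)
  let L1 := L.truncLE d
  have hL1 : ∀ i, Module.Finite A (L1.X i) ∧ Module.Flat A (L1.X i) := fun i => by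
    rcases lt_trichotomy i d with hi | rfl | hi
    · have e := (L.truncLEXIso d i hi).toLinearEquiv
      have := (hL i).1
      have := (hL i).2
      exact ⟨Module.Finite.equiv e.symm, Module.Flat.of_linearEquiv e⟩
    · have e := (L.truncLEXIsoCycles i).toLinearEquiv
      have := flat_ker_d L (fun j => (hL j).2) hb i htop i le_rfl
      have := flat_cycles L i
      have := (hL i).1
      have : Module.Finite A (L.cycles i) := Module.Finite.of_injective (L.iCycles i).hom
        ((ModuleCat.mono_iff_injective _).mp inferInstance)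
      exact ⟨Module.Finite.equiv e.symm, Module.Flat.of_linearEquiv e⟩
    · have := ModuleCat.subsingleton_of_isZero (CochainComplex.isZero_of_isStrictlyLE L1 d i hi)
      exact ⟨inferInstance, inferInstance⟩
  have hb1 : ∃ b : ℤ, ∀ i, b < i → IsZero (L1.X i) :=
    ⟨d, fun i hi => CochainComplex.isZero_of_isStrictlyLE L1 d i hi⟩
  have e1 : ∀ (p : ℤ) (M : ModuleCat.{u} A), Nonempty (CohIII.T L1 p M ≅ CohIII.T L p M) :=
    fun p M => quasiIsoAt_tensor (L.ιTruncLE d) (fun i => (hL1 i).2) (fun i => (hL i).2) hb1 hb M p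
  have h1 : ∀ p < a, IsZero (L1.homology p) := fun p hp =>
    ((hlow p hp _).of_iso (e1 p (ModuleCat.of A A)).some).of_iso (unitTIso L1 p).symm
  have : L1.IsGE a := (CochainComplex.isGE_iff L1 a).2 fun i hi =>
    (HomologicalComplex.exactAt_iff_isZero_homology L1 i).2 (h1 i hi)
  have hproj : ∀ i, Module.Finite A (L1.X i) ∧ Module.Projective A (L1.X i) := fun i => by
    have := (hL1 i).1
    have := (hL1 i).2
    have : Module.FinitePresentation A (L1.X i) := Module.finitePresentation_of_finite A _
    exact ⟨inferInstance, Module.Flat.projective_of_finitePresentation⟩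
  let L2 := L1.truncGE a
  have hL2 : ∀ i, Module.Finite A (L2.X i) ∧ Module.Projective A (L2.X i) := fun i => by
    rcases lt_trichotomy a i with hi | rfl | hi
    · have e := (L1.truncGEXIso a i hi).toLinearEquiv
      have := (hproj i).1
      have := (hproj i).2
      exact ⟨Module.Finite.equiv e.symm, Module.Projective.of_equiv e.symm⟩
    · have e := (L1.truncGEXIsoOpcycles a).toLinearEquiv
      have := S14611.result A L1 hproj a h1 fun m _ p hp =>
        (hlow p hp _).of_iso (e1 p (ModuleCat.of A (A ⧸ m))).some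
      have := (hproj a).1
      have : Module.Finite A (L1.opcycles a) := Module.Finite.of_surjective (L1.pOpcycles a).hom
        ((ModuleCat.epi_iff_surjective _).mp inferInstance)
      exact ⟨Module.Finite.equiv e.symm, Module.Projective.of_equiv e.symm⟩
    · have := ModuleCat.subsingleton_of_isZero (CochainComplex.isZero_of_isStrictlyGE L2 a i hi)
      exact ⟨inferInstance, inferInstance⟩
  have hz2 : ∀ i : ℤ, i < a ∨ d < i → IsZero (L2.X i) := by
    rintro i (hi | hi)
    · exact CochainComplex.isZero_of_isStrictlyGE L2 a i hi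
    · exact (CochainComplex.isZero_of_isStrictlyLE L1 d i hi).of_iso (L1.truncGEXIso a i (by omega))
  refine ⟨L2, hL2, hz2, fun h => absurd h hall, fun p M => ?_⟩
  obtain ⟨f1⟩ := e1 p M
  obtain ⟨f2⟩ := quasiIsoAt_tensor (L1.πTruncGE a) (fun i => (hL1 i).2)
    (fun i => have := (hL2 i).2; inferInstance) hb1 ⟨d, fun i hi => hz2 i (Or.inr hi)⟩ M p
  exact ⟨f2.symm ≪≫ f1⟩

end Groth.Agent.Coherent.CohBC
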