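import Groth.Agent.Coherent.CohBC.SectionSpread
import Groth.Agent.Coherent.CohBC.LocalModules
import Groth.Agent.Coherent.Serre.Kill
import Groth.Agent.Coherent.FinitePres
import Groth.Agent.EGA43.InjFibre.PullSections
import Groth.Agent.Props12.FinLocFree

/-!
# Sections of a direct image and of its pullbacks

Over an affine open `V` of the base, `Γ(V, f_* G) = Γ(f⁻¹V, G)`; over an affine open `W` of `T` mapping into `V`,
the sections of `φ^* f_* G` are the extension of scalars of these.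
-/

set_option autoImplicit false
set_option backward.isDefEq.respectTransparency false
set_option linter.style.haveILetI false

universe u

open CategoryTheory CategoryTheory.Limits AlgebraicGeometry Opposite TopologicalSpace TensorProduct Function
open Groth.Agent.Coherent Groth.Agent.PicLib

namespace Groth.Agent.Coherent.CohBC

variable {X S : Scheme.{u}} (f : X ⟶ S)

/-- `Γ(V, f_* G)` is the global sections of `G` on `f⁻¹V`. -/
theorem nonempty_pushEquiv {V : S.Opens} (hV : IsAffineOpen V) (G : X.Modules) :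
    letI : (f ⁻¹ᵁ V).toScheme.Over (Spec (CommRingCat.of Γ(S, V))) := ⟨toSpecSections f hV⟩
    Nonempty (Γ((Coh.push f).obj G, V) ≃ₗ[Γ(S, V)]
      Γ((Scheme.Modules.pullback (f ⁻¹ᵁ V).ι).obj G, ⊤)) := by
  letI : (f ⁻¹ᵁ V).toScheme.Over (Spec (CommRingCat.of Γ(S, V))) := ⟨toSpecSections f hV⟩
  let ι := (f ⁻¹ᵁ V).ι
  let G' := (Scheme.Modules.pullback ι).obj G
  have hle : (⊤ : (f ⁻¹ᵁ V).toScheme.Opens) ≤ ι ⁻¹ᵁ (f ⁻¹ᵁ V) := fun z _ => z.2
  have hle' : f ⁻¹ᵁ V ≤ ι ''ᵁ (ι ⁻¹ᵁ (f ⁻¹ᵁ V)) := by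
    rw [ι.image_preimage_eq_opensRange_inf, Scheme.Opens.opensRange_ι, inf_idem]
  let L : Γ((Coh.push f).obj G, V) →ₗ[Γ(S, V)] Γ(G', ⊤) :=
    { toFun := fun m => resM G' hle (pullSec ι (show Γ(G, f ⁻¹ᵁ V) from m))
      map_add' := fun a b => (congrArg (resM G' hle) ((((Scheme.Modules.pullbackPushforwardAdjunction ι).unit.app G).app (f ⁻¹ᵁ V)).hom.map_add (show Γ(G, f ⁻¹ᵁ V) from a) (show Γ(G, f ⁻¹ᵁ V) from b))).trans (map_add (resM G' hle) _ _)
      map_smul' := fun r m => by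
        rw [RingHom.id_apply]
        refine (congrArg (resM G' hle) (pullSec_smul ι (f.app V r) (show Γ(G, f ⁻¹ᵁ V) from m))).trans ?_
        refine (resM_smul G' hle _ _).trans ?_
        refine congrArg (fun t : Γ((f ⁻¹ᵁ V).toScheme, ⊤) => t • resM G' hle (pullSec ι (show Γ(G, f ⁻¹ᵁ V) from m))) ?_
        refine Eq.trans ?_ (toGlobal_map_evaluation hV (K := Γ(S, V)) (toSpecSections f hV) (𝟙 _) (ι ≫ f)
          (by erw [Spec.map_id, Category.id_comp]; exact (isPullback_toSpecSections f hV).w.symm)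
          le_rfl ⊤ hle r).symm
        rw [Scheme.Hom.appLE, Scheme.Hom.comp_app]
        show _ = (f ⁻¹ᵁ V).toScheme.presheaf.map (homOfLE hle).op (ι.app _ (f.app V (S.presheaf.map (𝟙 _) r)))
        rw [S.presheaf.map_id]
        rfl }
  refine ⟨LinearEquiv.ofBijective L ⟨(injective_iff_map_eq_zero L).2 fun m hm => ?_, fun b => ?_⟩⟩
  · have h1 : resM G' (le_top : ι ⁻¹ᵁ (f ⁻¹ᵁ V) ≤ ⊤) (L m) = 0 := by rw [hm, map_zero]
    have h2 : pullSec ι (show Γ(G, f ⁻¹ᵁ V) from m) = 0 := by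
      refine Eq.trans ?_ h1
      exact ((resM_resM G' _ _ _).trans (resM_self G' _ _)).symm
    have h3 := congrArg (resM G hle') (Serre.pullSec_eq_zero_imp ι G _ h2)
    rw [resM_resM, map_zero] at h3
    exact (resM_self G _ _).symm.trans h3
  · obtain ⟨m, hm⟩ := exists_pullSec_ι G (U := f ⁻¹ᵁ V) (resM G' le_top b)
    refine ⟨m, ?_⟩
    show resM G' hle (pullSec ι m) = b
    rw [hm, resM_resM, resM_self]

variable {T : Scheme.{u}} (φ : T ⟶ S)

/-- The sections of a pullback of a direct image. -/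
theorem nonempty_pullPushEquiv {V : S.Opens} (hV : IsAffineOpen V) {W : T.Opens} (hW : IsAffineOpen W)
    (e : W ≤ φ ⁻¹ᵁ V) (G : X.Modules) [Coh.IsQCoh ((Coh.push f).obj G)] :
    letI : (f ⁻¹ᵁ V).toScheme.Over (Spec (CommRingCat.of Γ(S, V))) := ⟨toSpecSections f hV⟩
    letI := (φ.appLE V W e).hom.toAlgebra
    Nonempty (Γ((Scheme.Modules.pullback φ).obj ((Coh.push f).obj G), W) ≃ₗ[Γ(T, W)]
      Γ(T, W) ⊗[Γ(S, V)] Γ((Scheme.Modules.pullback (f ⁻¹ᵁ V).ι).obj G, ⊤)) := by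
  letI : (f ⁻¹ᵁ V).toScheme.Over (Spec (CommRingCat.of Γ(S, V))) := ⟨toSpecSections f hV⟩
  letI := (φ.appLE V W e).hom.toAlgebra
  let P := (Scheme.Modules.pullback φ).obj ((Coh.push f).obj G)
  letI := Module.compHom Γ(P, W) (φ.appLE V W e).hom
  haveI : IsScalarTower Γ(S, V) Γ(T, W) Γ(P, W) := IsScalarTower.of_algebraMap_smul fun _ _ => rfl
  obtain ⟨μ, hμ, -⟩ := EGA43.InjFibre.pullMap_isBaseChange φ hV hW e ((Coh.push f).obj G)
  obtain ⟨eV⟩ := nonempty_pushEquiv f hV G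
  exact ⟨hμ.equiv.symm.trans (eV.baseChange Γ(S, V) Γ(T, W) _ _)⟩

variable {XT : Scheme.{u}} {πT : XT ⟶ T} {g : XT ⟶ X}

/-- A pullback square restricts to the affine opens. -/
theorem exists_localSquare (hsq : IsPullback g πT f φ) {V : S.Opens} (hV : IsAffineOpen V) {W : T.Opens}
    (hW : IsAffineOpen W) (e : W ≤ φ ⁻¹ᵁ V) :
    ∃ gW : (πT ⁻¹ᵁ W).toScheme ⟶ (f ⁻¹ᵁ V).toScheme,
      gW ≫ (f ⁻¹ᵁ V).ι = (πT ⁻¹ᵁ W).ι ≫ g ∧
      IsPullback gW (toSpecSections πT hW) (toSpecSections f hV)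
        (Spec.map (CommRingCat.ofHom (φ.appLE V W e).hom)) := by
  have hrange : Set.range ((πT ⁻¹ᵁ W).ι ≫ g) ⊆ Set.range (f ⁻¹ᵁ V).ι := by
    rw [Scheme.Opens.range_ι]
    rintro _ ⟨z, rfl⟩
    show (g ≫ f) ((πT ⁻¹ᵁ W).ι z) ∈ V
    rw [hsq.w]
    exact e z.2
  let gW := IsOpenImmersion.lift (f ⁻¹ᵁ V).ι ((πT ⁻¹ᵁ W).ι ≫ g) hrange
  have hgW : gW ≫ (f ⁻¹ᵁ V).ι = (πT ⁻¹ᵁ W).ι ≫ g := IsOpenImmersion.lift_fac _ _ _
  refine ⟨gW, hgW, IsPullback.of_right (h₁₂ := (f ⁻¹ᵁ V).ι) ?_ ?_ (isPullback_toSpecSections f hV)⟩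
  · rw [hgW]
    have := (isPullback_toSpecSections πT hW).paste_horiz hsq
    rw [← IsAffineOpen.SpecMap_appLE_fromSpec φ hV hW e] at this
    exact this
  · refine (cancel_mono hV.fromSpec).1 ?_
    rw [Category.assoc, Category.assoc]
    refine Eq.trans (congrArg (gW ≫ ·) (isPullback_toSpecSections f hV).w.symm) ?_
    rw [reassoc_of% hgW, hsq.w]
    refine Eq.trans ?_ (Category.assoc _ _ _).symm
    refine Eq.trans ?_ (congrArg (toSpecSections πT hW ≫ ·) (IsAffineOpen.SpecMap_appLE_fromSpec φ hV hW e).symm)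
    rw [← Category.assoc, ← Category.assoc]
    exact congrArg (· ≫ φ) (isPullback_toSpecSections πT hW).w

/-- A coherent module is finite locally free when its sections on an affine cover are flat. -/
theorem isFinLocFree_of_flat_sections [IsLocallyNoetherian T] (M : T.Modules) (hM : Coh.IsCoh M)
    (h : ∀ t : T, ∃ W : T.Opens, IsAffineOpen W ∧ t ∈ W ∧ Module.Flat Γ(T, W) Γ(M, W)) :
    FlatMod.IsFinLocFree M := by
  haveI := hM.1
  refine Props12.isFinLocFree_of_isFP_of_free_stalks M (isFP_of_isCoh hM) fun t => ?_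
  obtain ⟨W, hW, ht, hfl⟩ := h t
  have := Props12.flat_stalk_of_flat_sections M hW ht
  have := Props12.finite_stalk_of_isFT M hM.2 t
  exact Module.free_of_flat_of_isLocalRing

/-- The sections of a finite locally free module on an affine open are flat. -/
theorem flat_sections_of_isFinLocFree (M : T.Modules) [Coh.IsQCoh M] (h : FlatMod.IsFinLocFree M)
    {W : T.Opens} (hW : IsAffineOpen W) : Module.Flat Γ(T, W) Γ(M, W) :=
  Props12.flat_sections_of_isFlat M (Props12.isFlat_of_isFinLocFree M h) hW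

end Groth.Agent.Coherent.CohBC
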