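import Groth.Prelude.Def_ega3
import Mathlib.Algebra.Homology.Embedding.ExtendHomology
import Mathlib.Algebra.Homology.Embedding.RestrictionHomology

/-!
# Tensor products of complexes and changes of index
-/

set_option autoImplicit false
set_option backward.isDefEq.respectTransparency false

universe u

open CategoryTheory CategoryTheory.Limits MonoidalCategory

namespace HomologicalComplex

section Extend

variable {C D : Type*} [Category* C] [Category* D] [HasZeroObject C] [HasZeroMorphisms C]
  [HasZeroObject D] [HasZeroMorphisms D] {ι ι' : Type*} {c : ComplexShape ι} {c' : ComplexShape ι'}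
  (G H : C ⥤ D) [G.PreservesZeroMorphisms] [H.PreservesZeroMorphisms]
  (K : HomologicalComplex C c) (e : c.Embedding c')

/-- Applying a functor commutes with extension by zero, in each degree. -/
noncomputable def cohBCMapExtendX : ∀ o : Option ι,
    G.obj (extend.X K o) ≅ extend.X ((G.mapHomologicalComplex c).obj K) o
  | some _ => Iso.refl _
  | none => (Functor.map_isZero G (CategoryTheory.Limits.isZero_zero C)).iso (CategoryTheory.Limits.isZero_zero D)

/-- Applying a functor commutes with extension by zero. -/
noncomputable def cohBCMapExtendIso :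
    (G.mapHomologicalComplex c').obj (K.extend e) ≅ ((G.mapHomologicalComplex c).obj K).extend e :=
  Hom.isoOfComponents (fun i' => cohBCMapExtendX G K (e.r i')) fun i' j' _ => by
    show (cohBCMapExtendX G K (e.r i')).hom ≫
        extend.d ((G.mapHomologicalComplex c).obj K) (e.r i') (e.r j') =
      G.map (extend.d K (e.r i') (e.r j')) ≫ (cohBCMapExtendX G K (e.r j')).hom
    cases e.r i' <;> cases e.r j' <;> simp [cohBCMapExtendX, extend.d]

theorem cohBCMapExtendIso_naturality (α : G ⟶ H) :
    (NatTrans.mapHomologicalComplex α c').app (K.extend e) ≫ (cohBCMapExtendIso H K e).hom =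
      (cohBCMapExtendIso G K e).hom ≫
        extendMap ((NatTrans.mapHomologicalComplex α c).app K) e := by
  ext i'
  show α.app (extend.X K (e.r i')) ≫ (cohBCMapExtendX H K (e.r i')).hom =
    (cohBCMapExtendX G K (e.r i')).hom ≫
      extend.mapX ((NatTrans.mapHomologicalComplex α c).app K) (e.r i')
  cases e.r i'
  · exact (CategoryTheory.Limits.isZero_zero D).eq_of_tgt _ _
  · simp [cohBCMapExtendX, extend.mapX]
    rfl

end Extend

section Restriction

variable {C : Type*} [Category* C] [HasZeroMorphisms C] {ι ι' : Type*} {c : ComplexShape ι}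
  {c' : ComplexShape ι'} {K L : HomologicalComplex C c'} (φ : K ⟶ L) (e : c.Embedding c') [e.IsRelIff]
  (i j k : ι) (hi : c.prev j = i) (hk : c.next j = k)
  {i' j' k' : ι'} (hi' : e.f i = i') (hj' : e.f j = j') (hk' : e.f k = k')
  (hi'' : c'.prev j' = i') (hk'' : c'.next j' = k')
  [K.HasHomology j'] [(K.restriction e).HasHomology j]
  [L.HasHomology j'] [(L.restriction e).HasHomology j]

theorem cohBC_restrictionHomologyIso_naturality :
    homologyMap (restrictionMap φ e) j ≫
        (L.restrictionHomologyIso e i j k hi hk hi' hj' hk' hi'' hk'').hom =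
      (K.restrictionHomologyIso e i j k hi hk hi' hj' hk' hi'' hk'').hom ≫ homologyMap φ j' := by
  rw [← cancel_epi ((K.restriction e).homologyπ j), homologyπ_naturality_assoc,
    homologyπ_restrictionHomologyIso_hom, homologyπ_restrictionHomologyIso_hom_assoc,
    homologyπ_naturality]
  simp only [← Category.assoc]
  congr 1
  rw [← cancel_mono (L.iCycles j'), Category.assoc, Category.assoc,
    restrictionCyclesIso_hom_iCycles, cyclesMap_i, cyclesMap_i_assoc,
    restrictionCyclesIso_hom_iCycles_assoc]
  subst hi' hj' hk'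
  simp [restrictionXIso]

end Restriction

end HomologicalComplex

namespace Groth.Agent.Coherent.CohBC

open HomologicalComplex

variable {A : Type u} [CommRing A]

/-- The embedding `n ↦ -n`. -/
def negEmb : (ComplexShape.down ℤ).Embedding (ComplexShape.up ℤ) :=
  ComplexShape.Embedding.mk' _ _ (fun n => -n) (fun _ _ h => by simpa using h)
    (by simp; intros; omega)

instance : negEmb.IsRelIff := by dsimp [negEmb]; infer_instance

variable (L : CochainComplex (ModuleCat.{u} A) ℤ)

/-- A cochain complex as a chain complex. -/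
noncomputable def toChain : ChainComplex (ModuleCat.{u} A) ℤ := L.restriction negEmb

theorem toChain_X (i : ℤ) : (toChain L).X i = L.X (-i) := rfl

/-- `H_i(P ⊗ M) = H^{-i}(L ⊗ M)`. -/
noncomputable def toChainTIso (M : ModuleCat.{u} A) (i j : ℤ) (hij : -i = j) :
    CohIII.T (toChain L) i M ≅ CohIII.T L j M :=
  (CohIII.tensorObj L M).restrictionHomologyIso negEmb (i + 1) i (i - 1)
    (ComplexShape.prev_eq' _ (show i + 1 = i + 1 from rfl))
    (ComplexShape.next_eq' _ (show i - 1 + 1 = i by omega))
    (show -(i + 1) = j - 1 by omega) hij (show -(i - 1) = j + 1 by omega)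
    (ComplexShape.prev_eq' _ (show j - 1 + 1 = j by omega))
    (ComplexShape.next_eq' _ (show j + 1 = j + 1 from rfl))

/-- `H_i(P ⊗ M) = H^{-i}(L ⊗ M)`, naturally in `M`. -/
noncomputable def toChainTFunIso (i j : ℤ) (hij : -i = j) :
    CohIII.TFun (toChain L) i ≅ CohIII.TFun L j :=
  NatIso.ofComponents (fun M => toChainTIso L M i j hij) fun g =>
    cohBC_restrictionHomologyIso_naturality (CohIII.tensorMap L g) negEmb _ _ _ _ _ _ _ _ _ _

/-- A cochain complex in degrees `≥ 0` extended to all degrees. -/
noncomputable abbrev extZ (C : CochainComplex (ModuleCat.{u} A) ℕ) :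
    CochainComplex (ModuleCat.{u} A) ℤ :=
  C.extend ComplexShape.embeddingUpNat

/-- Extension by zero does not change `H^n(C ⊗ M)`. -/
noncomputable def extTIso (C : CochainComplex (ModuleCat.{u} A) ℕ) (M : ModuleCat.{u} A) (n : ℕ) :
    CohIII.T (extZ C) (n : ℤ) M ≅ CohIII.T C n M :=
  homologyMapIso (cohBCMapExtendIso (tensorRight M) C _) (n : ℤ) ≪≫
    (CohIII.tensorObj C M).extendHomologyIso _ (show ComplexShape.embeddingUpNat.f n = (n : ℤ) from rfl)

/-- Extension by zero does not change `H^n(C ⊗ M)`, naturally in `M`. -/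
noncomputable def extTFunIso (C : CochainComplex (ModuleCat.{u} A) ℕ) (n : ℕ) :
    CohIII.TFun (extZ C) (n : ℤ) ≅ CohIII.TFun C n :=
  NatIso.ofComponents (fun M => extTIso C M n) fun {M N} g => by
    show homologyMap (CohIII.tensorMap (extZ C) g) (n : ℤ) ≫ homologyMap _ (n : ℤ) ≫ _ =
      (homologyMap _ (n : ℤ) ≫ _) ≫ homologyMap (CohIII.tensorMap C g) n
    rw [← Category.assoc, ← homologyMap_comp, cohBCMapExtendIso_naturality, homologyMap_comp,
      Category.assoc, extendHomologyIso_hom_naturality, Category.assoc]

theorem isZero_T_extZ_neg (C : CochainComplex (ModuleCat.{u} A) ℕ) (M : ModuleCat.{u} A) (p : ℤ)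
    (hp : p < 0) : IsZero (CohIII.T (extZ C) p M) := by
  refine (exactAt_iff_isZero_homology _ _).1 (ExactAt.of_iso ?_ (cohBCMapExtendIso (tensorRight M) C _).symm)
  exact extend_exactAt _ _ _ fun n hn => by
    have : (n : ℤ) = p := hn
    omega

end Groth.Agent.Coherent.CohBC
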