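import Groth.Agent.FlatCxLib.Exact
import Mathlib.CategoryTheory.Linear.Yoneda
import Mathlib.RingTheory.Flat.EquationalCriterion
import Mathlib.RingTheory.Finiteness.Projective
import Mathlib.Algebra.Category.ModuleCat.Adjunctions

/-!
# Corepresentability of left exact homology functors of finite flat complexes
-/

set_option autoImplicit false
set_option backward.isDefEq.respectTransparency false

universe u

open CategoryTheory CategoryTheory.Limits TensorProduct Function Opposite
open Groth.Agent.FlatCxLib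

namespace Groth.Agent.Coherent.CohBC

variable {A : Type u} [CommRing A]

section Pairing

variable {V : Type u} [AddCommGroup V] [Module A V] {M : Type u} [AddCommGroup M] [Module A M]

/-- Evaluation of a linear form on the first factor. -/
noncomputable def evalFst (φ : V →ₗ[A] A) : V ⊗[A] M →ₗ[A] M :=
  (TensorProduct.lid A M).toLinearMap ∘ₗ φ.rTensor M

theorem evalFst_tmul (φ : V →ₗ[A] A) (v : V) (m : M) : evalFst φ (v ⊗ₜ m) = φ v • m := rfl

theorem evalFst_natural {N : Type u} [AddCommGroup N] [Module A N] (f : M →ₗ[A] N) (φ : V →ₗ[A] A)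
    (z : V ⊗[A] M) : evalFst φ (f.lTensor V z) = f (evalFst φ z) :=
  LinearMap.congr_fun (TensorProduct.ext' (g := evalFst φ ∘ₗ f.lTensor V) (h := f ∘ₗ evalFst φ)
    fun v m => (f.map_smul (φ v) m).symm) z

theorem evalFst_comp {V' : Type u} [AddCommGroup V'] [Module A V'] (φ : V' →ₗ[A] A) (g : V →ₗ[A] V')
    (z : V ⊗[A] M) : evalFst φ (g.rTensor M z) = evalFst (φ ∘ₗ g) z :=
  LinearMap.congr_fun (TensorProduct.ext' (g := evalFst φ ∘ₗ g.rTensor M) (h := evalFst (φ ∘ₗ g))
    fun v m => rfl) z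

theorem evalFst_add (φ φ' : V →ₗ[A] A) (z : V ⊗[A] M) :
    evalFst (φ + φ') z = evalFst φ z + evalFst φ' z := by
  simp [evalFst, LinearMap.rTensor_add]

theorem evalFst_smul (a : A) (φ : V →ₗ[A] A) (z : V ⊗[A] M) :
    evalFst (a • φ) z = a • evalFst φ z := by
  simp [evalFst, LinearMap.rTensor_smul]

theorem sum_dualBasis {n : ℕ} {c : Fin n → V} {φ : Fin n → (V →ₗ[A] A)}
    (h : ∀ v, ∑ i, φ i v • c i = v) (z : V ⊗[A] M) : ∑ i, c i ⊗ₜ[A] evalFst (φ i) z = z := by
  induction z with
  | zero => simp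
  | add a b ha hb => simp only [map_add, tmul_add, Finset.sum_add_distrib, ha, hb]
  | tmul v m =>
    simp_rw [evalFst_tmul, ← TensorProduct.smul_tmul, ← TensorProduct.sum_tmul, h v]

variable (V) in
theorem exists_dualBasis [Module.Finite A V] [Module.Projective A V] :
    ∃ (n : ℕ) (c : Fin n → V) (φ : Fin n → (V →ₗ[A] A)), ∀ v, ∑ i, φ i v • c i = v := by
  classical
  obtain ⟨n, f, g, -, -, hfg⟩ := Module.Finite.exists_comp_eq_id_of_projective A V
  refine ⟨n, fun i => f (Pi.single i 1), fun i => LinearMap.proj i ∘ₗ g, fun v => ?_⟩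
  refine Eq.trans ?_ (LinearMap.congr_fun hfg v)
  show ∑ i, g v i • f (Pi.single i 1) = f (g v)
  conv_rhs => rw [pi_eq_sum_univ' (g v)]
  simp [map_sum]

theorem eq_zero_of_evalFst [Module.Finite A V] [Module.Projective A V] (z : V ⊗[A] M)
    (h : ∀ φ : V →ₗ[A] A, evalFst φ z = 0) : z = 0 := by
  obtain ⟨n, c, φ, hc⟩ := exists_dualBasis (A := A) V
  rw [← sum_dualBasis hc z]
  simp [h]

end Pairing

variable {P : ChainComplex (ModuleCat.{u} A) ℤ} (p : ℤ)

/-- The corepresenting module of `T_p`. -/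
noncomputable abbrev corepMod (P : ChainComplex (ModuleCat.{u} A) ℤ) (p : ℤ) : ModuleCat.{u} A :=
  let C := P.X p ⧸ LinearMap.range (P.d (p + 1) p).hom
  ModuleCat.of A ((C →ₗ[A] A) ⧸ LinearMap.range
    ((LinearMap.range (P.d (p + 1) p).hom).liftQ (P.d p (p - 1)).hom
      (LinearMap.range_le_ker_iff.2 (d_comp_d_hom P (p + 1) p (p - 1)))).dualMap)

/-- Pairing of a chain with forms on the cokernel. -/
noncomputable def corepPre (M : ModuleCat.{u} A) :
    P.X p ⊗[A] M →ₗ[A] ((P.X p ⧸ LinearMap.range (P.d (p + 1) p).hom) →ₗ[A] A) →ₗ[A] M where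
  toFun z :=
    { toFun := fun φ => evalFst (φ ∘ₗ Submodule.mkQ _) z
      map_add' := fun φ φ' => by rw [LinearMap.add_comp]; exact evalFst_add _ _ _
      map_smul' := fun a φ => by rw [LinearMap.smul_comp]; exact evalFst_smul _ _ _ }
  map_add' z z' := LinearMap.ext fun φ => (evalFst (φ ∘ₗ Submodule.mkQ _)).map_add z z'
  map_smul' a z := LinearMap.ext fun φ => (evalFst (φ ∘ₗ Submodule.mkQ _)).map_smul a z

/-- Cycles of `P ⊗ M`. -/
abbrev cyc (M : ModuleCat.{u} A) : Submodule A (P.X p ⊗[A] M) :=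
  LinearMap.ker ((P.d p (p - 1)).hom.rTensor M)

theorem range_le_ker_corepPre (M : ModuleCat.{u} A) (z : cyc (P := P) p M) :
    LinearMap.range ((LinearMap.range (P.d (p + 1) p).hom).liftQ (P.d p (p - 1)).hom
      (LinearMap.range_le_ker_iff.2 (d_comp_d_hom P (p + 1) p (p - 1)))).dualMap ≤
        LinearMap.ker (corepPre p M z.1) := by
  rintro _ ⟨χ, rfl⟩
  show evalFst _ z.1 = 0
  rw [LinearMap.dualMap_apply', LinearMap.comp_assoc, Submodule.liftQ_mkQ, ← evalFst_comp]
  exact (congrArg (evalFst χ) z.2).trans (map_zero _)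

/-- Cycles of `P ⊗ M` as maps out of the corepresenting module. -/
noncomputable def corepHom (M : ModuleCat.{u} A) :
    cyc (P := P) p M →ₗ[A] (corepMod P p ⟶ M) where
  toFun z := ModuleCat.ofHom (Submodule.liftQ _ (corepPre p M z.1) (range_le_ker_corepPre p M z))
  map_add' z z' := ModuleCat.hom_ext (Submodule.linearMap_qext _
    (LinearMap.ext fun φ => LinearMap.congr_fun (map_add (corepPre p M) z.1 z'.1) φ))
  map_smul' a z := ModuleCat.hom_ext (Submodule.linearMap_qext _
    (LinearMap.ext fun φ => LinearMap.congr_fun (map_smul (corepPre p M) a z.1) φ))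

theorem corepHom_mk (M : ModuleCat.{u} A) (z : cyc (P := P) p M)
    (φ : (P.X p ⧸ LinearMap.range (P.d (p + 1) p).hom) →ₗ[A] A) :
    (corepHom p M z).hom (Submodule.Quotient.mk φ) = evalFst (φ ∘ₗ Submodule.mkQ _) z.1 := by
  simp only [corepHom, corepPre, LinearMap.coe_mk, AddHom.coe_mk, ModuleCat.hom_ofHom,
    Submodule.liftQ_apply]

theorem corepHom_natural {M N : ModuleCat.{u} A} (f : M ⟶ N) (z : cyc (P := P) p M)
    (h : (f.hom.lTensor (P.X p)) z.1 ∈ cyc (P := P) p N) :
    corepHom p N ⟨_, h⟩ = corepHom p M z ≫ f :=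
  ModuleCat.hom_ext (Submodule.linearMap_qext _ (LinearMap.ext fun φ =>
    (corepHom_mk p N ⟨_, h⟩ φ).trans ((evalFst_natural f.hom (φ ∘ₗ Submodule.mkQ _) z.1).trans
      (congrArg f.hom (corepHom_mk p M z φ)).symm)))

variable (hP : ∀ i, Module.Finite A (P.X i) ∧ Module.Flat A (P.X i)) [IsNoetherianRing A]
  [hC : Module.Flat A (P.X p ⧸ LinearMap.range (P.d (p + 1) p).hom)]
include hP hC

theorem exists_cycle (M : ModuleCat.{u} A) (h : corepMod P p ⟶ M) :
    ∃ z, corepHom p M z = h := by
  have := (hP p).1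
  have := (hP (p - 1)).1
  have := (hP (p - 1)).2
  have : Module.FinitePresentation A (P.X p ⧸ LinearMap.range (P.d (p + 1) p).hom) :=
    Module.finitePresentation_of_finite A _
  have : Module.Projective A (P.X p ⧸ LinearMap.range (P.d (p + 1) p).hom) :=
    Module.Flat.projective_of_finitePresentation
  have : Module.FinitePresentation A (P.X (p - 1)) := Module.finitePresentation_of_finite A _
  have : Module.Projective A (P.X (p - 1)) := Module.Flat.projective_of_finitePresentation
  obtain ⟨n, c, φ, hc⟩ := exists_dualBasis (A := A) (P.X p ⧸ LinearMap.range (P.d (p + 1) p).hom)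
  let k := h.hom ∘ₗ Submodule.mkQ _
  let w : (P.X p ⧸ LinearMap.range (P.d (p + 1) p).hom) ⊗[A] M := ∑ i, c i ⊗ₜ[A] k (φ i)
  have hw : ∀ ψ, evalFst ψ w = k ψ := fun ψ => by
    have hψ : ψ = ∑ i, ψ (c i) • φ i := LinearMap.ext fun v => by
      simp only [LinearMap.coe_sum, Finset.sum_apply, LinearMap.smul_apply, smul_eq_mul]
      conv_lhs => rw [← hc v, map_sum]
      exact Finset.sum_congr rfl fun i _ => by rw [map_smul, smul_eq_mul, mul_comm]
    conv_rhs => rw [hψ, map_sum]
    simp only [w, map_sum, map_smul, evalFst_tmul]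
  obtain ⟨z, hz⟩ := LinearMap.rTensor_surjective M
    (Submodule.mkQ_surjective (LinearMap.range (P.d (p + 1) p).hom)) w
  have hker : (P.d p (p - 1)).hom.rTensor M z = 0 := eq_zero_of_evalFst _ fun χ => by
    have e : (P.d p (p - 1)).hom.rTensor M z =
        ((LinearMap.range (P.d (p + 1) p).hom).liftQ (P.d p (p - 1)).hom
          (LinearMap.range_le_ker_iff.2 (d_comp_d_hom P (p + 1) p (p - 1)))).rTensor M w := by
      rw [← hz, ← LinearMap.comp_apply, ← LinearMap.rTensor_comp, Submodule.liftQ_mkQ]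
    rw [e, evalFst_comp, hw]
    refine (congrArg h.hom ((Submodule.Quotient.mk_eq_zero _).2 ?_)).trans (map_zero _)
    exact ⟨χ, rfl⟩
  refine ⟨⟨z, hker⟩, ModuleCat.hom_ext (Submodule.linearMap_qext _ (LinearMap.ext fun ψ => ?_))⟩
  refine (corepHom_mk p M ⟨z, hker⟩ ψ).trans ?_
  show _ = k ψ
  rw [← evalFst_comp, hz, hw]

theorem corepHom_eq_zero_iff (M : ModuleCat.{u} A) (z : cyc (P := P) p M) :
    corepHom p M z = 0 ↔ z.1 ∈ LinearMap.range ((P.d (p + 1) p).hom.rTensor M) := by
  have := (hP p).1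
  have : Module.FinitePresentation A (P.X p ⧸ LinearMap.range (P.d (p + 1) p).hom) :=
    Module.finitePresentation_of_finite A _
  have : Module.Projective A (P.X p ⧸ LinearMap.range (P.d (p + 1) p).hom) :=
    Module.Flat.projective_of_finitePresentation
  have hex := rTensor_exact M (LinearMap.exact_map_mkQ_range (P.d (p + 1) p).hom)
    (Submodule.mkQ_surjective _)
  refine ⟨fun h => (hex z.1).mp (eq_zero_of_evalFst _ fun φ => ?_), fun h => ?_⟩
  · rw [evalFst_comp, ← corepHom_mk, h]
    rfl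
  · refine ModuleCat.hom_ext (Submodule.linearMap_qext _ (LinearMap.ext fun φ => ?_))
    refine (corepHom_mk p M z φ).trans ?_
    rw [← evalFst_comp]
    exact (congrArg (evalFst φ) ((hex z.1).mpr h)).trans (map_zero _)

/-- `T_p(M) = Hom(Q, M)` when the cokernel in degree `p` is flat. -/
noncomputable def corepEquiv (M : ModuleCat.{u} A) :
    CohIII.T P p M ≃ₗ[A] (corepMod P p ⟶ M) :=
  (LinearMap.quotKerEquivOfSurjective _ (cls_surjective (CohIII.tensorObj P M) p (p - 1) (by omega))).symm.trans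
    ((Submodule.quotEquivOfEq _ _ (Submodule.ext fun z => (cls_eq_zero_iff (CohIII.tensorObj P M)
      (p + 1) p (p - 1) rfl (by omega) z).trans (corepHom_eq_zero_iff p hP M z).symm)).trans
      (LinearMap.quotKerEquivOfSurjective _ (exists_cycle p hP M)))

theorem corepEquiv_cls (M : ModuleCat.{u} A) (z : cyc (P := P) p M) :
    corepEquiv p hP M (cls (CohIII.tensorObj P M) p (p - 1) (by omega) z) = corepHom p M z := by
  simp [corepEquiv, LinearMap.quotKerEquivOfSurjective_symm_apply]
  rfl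

/-- `T_p` is corepresented. -/
noncomputable def corepIso :
    CohIII.TFun P p ≅ (linearCoyoneda A (ModuleCat.{u} A)).obj (op (corepMod P p)) :=
  NatIso.ofComponents (fun M => (corepEquiv p hP M).toModuleIso) fun {M N} f => by
    refine ModuleCat.hom_ext (LinearMap.ext fun x => ?_)
    obtain ⟨z, rfl⟩ := cls_surjective (CohIII.tensorObj P M) p (p - 1) (by omega) x
    show corepEquiv p hP N (HomologicalComplex.homologyMap (CohIII.tensorMap P f) p _) =
      corepEquiv p hP M (cls (CohIII.tensorObj P M) p (p - 1) (by omega) z) ≫ f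
    rw [cls_map]
    exact (corepEquiv_cls p hP N _).trans ((corepHom_natural p f z _).trans
      (congrArg (· ≫ f) (corepEquiv_cls p hP M z)).symm)

omit hC in
theorem finite_corepMod : Module.Finite A (corepMod P p) := by
  have := (hP p).1
  have : Module.FinitePresentation A (P.X p ⧸ LinearMap.range (P.d (p + 1) p).hom) :=
    Module.finitePresentation_of_finite A _
  infer_instance

omit hP hC in
omit [IsNoetherianRing A] in
theorem preservesMono_coyoneda (Q : ModuleCat.{u} A) :
    ((linearCoyoneda A (ModuleCat.{u} A)).obj (op Q)).PreservesMonomorphisms :=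
  ⟨fun {M N} f _ => (ModuleCat.mono_iff_injective _).mpr fun a b h => (cancel_mono f).1 h⟩

omit hC in
/-- `T_p` preserves monomorphisms iff it is corepresentable; then by a finite module. -/
theorem preservesMono_iff_corep :
    ((CohIII.TFun P p).PreservesMonomorphisms ↔
      ∃ Q : ModuleCat.{u} A,
        Nonempty (CohIII.TFun P p ≅ (linearCoyoneda A (ModuleCat.{u} A)).obj (op Q))) ∧
    ∀ Q : ModuleCat.{u} A,
      Nonempty (CohIII.TFun P p ≅ (linearCoyoneda A (ModuleCat.{u} A)).obj (op Q)) →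
        Module.Finite A Q := by
  have h1 : ∀ Q : ModuleCat.{u} A,
      Nonempty (CohIII.TFun P p ≅ (linearCoyoneda A (ModuleCat.{u} A)).obj (op Q)) →
        (CohIII.TFun P p).PreservesMonomorphisms := fun Q ⟨e⟩ =>
    haveI := preservesMono_coyoneda Q
    Functor.PreservesMonomorphisms.of_iso e.symm
  refine ⟨⟨fun h => ?_, fun ⟨Q, hQ⟩ => h1 Q hQ⟩, fun Q hQ => ?_⟩
  · have := (preservesMono_iff_flat (p + 1) p (fun i => (hP i).2) rfl).mp h
    exact ⟨_, ⟨corepIso p hP⟩⟩
  · have := (preservesMono_iff_flat (p + 1) p (fun i => (hP i).2) rfl).mp (h1 Q hQ)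
    obtain ⟨e⟩ := hQ
    have e' : Q ≅ corepMod P p :=
      ((linearCoyoneda A (ModuleCat.{u} A)).preimageIso (e.symm ≪≫ corepIso p hP)).unop.symm
    have := finite_corepMod p hP
    exact Module.Finite.equiv e'.toLinearEquiv.symm

end Groth.Agent.Coherent.CohBC
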