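import Groth.Agent.Coherent.CohBC.Criteria
import Groth.Agent.Coherent.CohBC.Corep
import Mathlib.CategoryTheory.Sites.SheafCohomology.Basic

/-!
# Global sections of `F ⊗_A M` and their corepresentability
-/

set_option autoImplicit false
set_option backward.isDefEq.respectTransparency false

universe u

open CategoryTheory CategoryTheory.Limits AlgebraicGeometry Opposite TopologicalSpace

namespace Groth.Agent.Coherent.CohBC

variable {A : Type u} [CommRing A] {X : Scheme.{u}} [X.Over (Spec (CommRingCat.of A))]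

theorem isTerminalTop (X : Scheme.{u}) : Nonempty (IsTerminal (⊤ : X.Opens)) :=
  ⟨IsTerminal.ofUniqueHom (fun U => homOfLE (le_top (a := U))) fun _ _ => rfl⟩

variable (A) in
/-- Global sections as `H^0`. -/
noncomputable def globalEquiv (G : X.Modules) :
    Coh.HH X G 0 ≃+ ((CohIII.globalSectionsA A).obj G : ModuleCat.{u} A) :=
  Sheaf.H.equiv₀ (Coh.toAb G) (isTerminalTop X).some

theorem globalEquiv_naturality {G G' : X.Modules} (φ : G ⟶ G') (x : Coh.HH X G 0) :
    globalEquiv A G' (Sheaf.H.map ((toAbFunctor X).map φ) 0 x) =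
      (CohIII.globalSectionsA A).map φ (globalEquiv A G x) :=
  (Sheaf.H.equiv₀_naturality (isTerminalTop X).some ((toAbFunctor X).map φ) x).symm

theorem globalEquiv_smul (G : X.Modules) (a : A) (x : Coh.HH X G 0) :
    globalEquiv A G (a • x) = a • globalEquiv A G x := by
  refine (Sheaf.H.equiv₀_naturality (isTerminalTop X).some
    (Coh.smulAb G (Coh.toGlobal (X ↘ Spec (CommRingCat.of A)) a)) x).symm.trans ?_
  refine congrArg (fun r : Coh.Γtop X => r • (show G.val.obj (op (⊤ : X.Opens)) from globalEquiv A G x)) ?_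
  exact ConcreteCategory.congr_hom (X.ringCatSheaf.obj.map_id (op (⊤ : X.Opens))) _

variable (A) in
/-- Global sections as `H^0`, linearly. -/
noncomputable def globalEquivA (G : X.Modules) :
    Coh.HH X G 0 ≃ₗ[A] ((CohIII.globalSectionsA A).obj G : ModuleCat.{u} A) :=
  { globalEquiv A G with map_smul' := globalEquiv_smul G }

namespace PerfData

variable {F : X.Modules} (D : PerfData A X F)

/-- Global sections of `F ⊗_A M` as a homology functor of the finite free complex. -/
noncomputable def globalIso :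
    CohIII.tensorAFunctor A F ⋙ CohIII.globalSectionsA A ≅ D.T 0 :=
  NatIso.ofComponents
    (fun M => ((globalEquivA A _).symm.trans (D.objEquiv M 0)).toModuleIso) fun {M N} g => by
    refine ModuleCat.hom_ext (LinearMap.ext fun y => ?_)
    obtain ⟨x, rfl⟩ := (globalEquivA A _).surjective y
    show D.objEquiv N 0 ((globalEquivA A _).symm
        ((CohIII.globalSectionsA A).map ((CohIII.tensorAFunctor A F).map g) (globalEquivA A _ x))) =
      (D.T 0).map g (D.objEquiv M 0 ((globalEquivA A _).symm (globalEquivA A _ x)))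
    rw [LinearEquiv.symm_apply_apply]
    refine (congrArg (D.objEquiv N 0) ?_).trans (D.objEquiv_naturality g 0 x)
    exact (LinearEquiv.symm_apply_eq _).2
      (globalEquiv_naturality ((CohIII.tensorAFunctor A F).map g) x).symm

include D in
theorem preservesMono_zero : (D.T 0).PreservesMonomorphisms := by
  have h : (CohIII.TFun D.P (1 : ℤ)).PreservesEpimorphisms :=
    FlatCxLib.preservesEpi_of_isZero 1 fun M => D.isZero_T_pos 1 one_pos M
  rw [FlatCxLib.preservesEpi_iff_flat (1 : ℤ) 0 D.flat_P (by omega)] at h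
  exact (FlatCxLib.preservesMono_iff_flat (1 : ℤ) (-((0 : ℕ) : ℤ)) D.flat_P (by omega)).2 h

include D in
theorem exists_corep [IsNoetherianRing A] : ∃ Q : ModuleCat.{u} A, Module.Finite A Q ∧
    Nonempty (CohIII.tensorAFunctor A F ⋙ CohIII.globalSectionsA A ≅
      (linearCoyoneda A (ModuleCat.{u} A)).obj (op Q)) := by
  obtain ⟨h1, h2⟩ := preservesMono_iff_corep (-((0 : ℕ) : ℤ)) D.finite_flat_P
  obtain ⟨Q, ⟨e⟩⟩ := h1.1 D.preservesMono_zero
  exact ⟨Q, h2 Q ⟨e⟩, ⟨D.globalIso ≪≫ e⟩⟩

end PerfData

end Groth.Agent.Coherent.CohBC
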