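import Groth.Agent.Coherent.CohBC.SectionsBC
import Groth.Agent.Coherent.CohBC.FlatReplace
import Groth.Agent.Coherent.CohBC.Geom
import Groth.Agent.FlatCx12.Tensor
import Groth.Agent.Coherent.CohBC.Global

/-!
# Global sections of acyclic flat families commute with every base change

For `X` separated and quasi-compact over a ring `A` and a quasi-coherent module, flat over `A`, without higher
cohomology, the map `B ⊗_A Γ(X, F) → Γ(X_B, F_B)` is bijective for every `A → B`, and `Γ(X, F)` is flat.
-/

set_option autoImplicit false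
set_option backward.isDefEq.respectTransparency false
set_option linter.style.haveILetI false

universe u

open CategoryTheory CategoryTheory.Limits AlgebraicGeometry Opposite TopologicalSpace TensorProduct Function
open Groth.Agent.Coherent Groth.Agent.PicLib Groth.Agent.FlatCxLib Groth.Agent.FlatCx12

namespace Groth.Agent.Coherent.CohBC

variable {A : Type u} [CommRing A]

section Algebra

variable (C : CochainComplex (ModuleCat.{u} A) ℕ)

theorem exact_d_nat {i j k : ℕ} (hij : i + 1 = j) (hjk : j + 1 = k) (h : IsZero (C.homology j)) :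
    Exact (C.d i j).hom (C.d j k).hom := by
  have h1 := (C.exactAt_iff_isZero_homology j).mpr h
  subst hij hjk
  rw [C.exactAt_iff' i (i + 1) (i + 1 + 1) (CochainComplex.prev_nat_succ i)
    (CochainComplex.next ℕ (i + 1))] at h1
  exact (ShortComplex.ShortExact.moduleCat_exact_iff_function_exact _).mp h1

variable (hflat : ∀ n, Module.Flat A (C.X n)) (N : ℕ)
  (hvan : ∀ n, N ≤ n → ∀ M : ModuleCat.{u} A, IsZero (CohIII.T C n M))
  (hH : ∀ n, IsZero (C.homology (n + 1)))
include hflat hvan hH

/-- The images of the differentials of a flat complex, exact in positive and universally exact in high degree. -/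
theorem flat_range_d (m : ℕ) : Module.Flat A (LinearMap.range (C.d m (m + 1)).hom) := by
  suffices h : ∀ (e m : ℕ), N < m + e + 1 → Module.Flat A (LinearMap.range (C.d m (m + 1)).hom) from
    h N m (by omega)
  intro e
  induction e with
  | zero =>
    intro m hm
    let g : C.X m →ₗ[A] LinearMap.range (C.d m (m + 1)).hom := (C.d m (m + 1)).hom.rangeRestrict
    have key : ∀ (M : Type u) [AddCommGroup M] [Module A M],
        Injective ((LinearMap.range (C.d m (m + 1)).hom).subtype.rTensor M) := by
      intro M _ _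
      rw [injective_iff_map_eq_zero]
      intro z hz
      obtain ⟨w, rfl⟩ := LinearMap.rTensor_surjective M (g := g) (LinearMap.surjective_rangeRestrict _) z
      rw [rTensor_comp_apply] at hz
      obtain ⟨m', rfl⟩ | rfl : (∃ m', m = m' + 1) ∨ m = 0 := by
        rcases m with _ | m'
        · exact Or.inr rfl
        · exact Or.inl ⟨m', rfl⟩
      · have hex : Exact ((C.d m' (m' + 1)).hom.rTensor M) ((C.d (m' + 1) (m' + 1 + 1)).hom.rTensor M) :=
          exact_d_nat (CohIII.tensorObj C (ModuleCat.of A M)) rfl rfl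
            (hvan (m' + 1) (by omega) (ModuleCat.of A M))
        obtain ⟨v, rfl⟩ := (hex w).mp hz
        rw [rTensor_comp_apply]
        have h0 : g ∘ₗ (C.d m' (m' + 1)).hom = 0 := LinearMap.ext fun x => Subtype.ext
          (LinearMap.congr_fun (congrArg ModuleCat.Hom.hom (C.d_comp_d m' (m' + 1) (m' + 1 + 1))) x)
        rw [h0, LinearMap.rTensor_zero, LinearMap.zero_apply]
      · have hinj : Injective ((C.d 0 (0 + 1)).hom.rTensor M) := by
          have h1 := ((CohIII.tensorObj C (ModuleCat.of A M)).exactAt_iff_isZero_homology 0).mpr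
            (hvan 0 (by omega) (ModuleCat.of A M))
          rw [(CohIII.tensorObj C (ModuleCat.of A M)).exactAt_iff' 0 0 1 (by simp) (by simp)] at h1
          have h2 := (ShortComplex.ShortExact.moduleCat_exact_iff_function_exact _).mp h1
          rw [injective_iff_map_eq_zero]
          intro x hx
          obtain ⟨v, hv⟩ := (h2 x).mp hx
          rw [← hv]
          have : (CohIII.tensorObj C (ModuleCat.of A M)).d 0 0 = 0 :=
            HomologicalComplex.shape _ _ _ (by simp)
          show ((CohIII.tensorObj C (ModuleCat.of A M)).d 0 0).hom v = 0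
          rw [this]; rfl
        rw [hinj (hz.trans (map_zero _).symm), map_zero]
    rw [Module.Flat.iff_lTensor_preserves_injective_linearMap]
    intro P Q _ _ _ _ f hf
    have := hflat (m + 1)
    have hsq : (LinearMap.range (C.d m (m + 1)).hom).subtype.rTensor Q ∘ₗ f.lTensor _ =
        f.lTensor (C.X (m + 1)) ∘ₗ (LinearMap.range (C.d m (m + 1)).hom).subtype.rTensor P :=
      TensorProduct.ext' fun x y => rfl
    refine Injective.of_comp (f := (LinearMap.range (C.d m (m + 1)).hom).subtype.rTensor Q) ?_
    rw [← LinearMap.coe_comp, hsq, LinearMap.coe_comp]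
    exact (Module.Flat.lTensor_preserves_injective_linearMap f hf).comp (key P)
  | succ e ih =>
    intro m hm
    have := ih (m + 1) (by omega)
    have := hflat (m + 1)
    refine flat_of_exact_left (LinearMap.range (C.d m (m + 1)).hom).subtype
      (C.d (m + 1) (m + 1 + 1)).hom.rangeRestrict ?_ (LinearMap.surjective_rangeRestrict _)
      Subtype.val_injective
    rw [LinearMap.exact_iff, LinearMap.ker_rangeRestrict, Submodule.range_subtype]
    exact LinearMap.exact_iff.mp (exact_d_nat C rfl rfl (hH m))

theorem flat_coker_d (m : ℕ) :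
    Module.Flat A (C.X (m + 1) ⧸ LinearMap.range (C.d m (m + 1)).hom) := by
  have := flat_range_d C hflat N hvan hH (m + 1)
  exact Module.Flat.of_linearEquiv ((Submodule.quotEquivOfEq _ _
    (LinearMap.exact_iff.mp (exact_d_nat C rfl rfl (hH m))).symm).trans
      (C.d (m + 1) (m + 1 + 1)).hom.quotKerEquivRange)

theorem flat_ker_zero : Module.Flat A (LinearMap.ker (C.d 0 1).hom) := by
  have := flat_range_d C hflat N hvan hH 0
  have := hflat 0
  refine flat_of_exact_left (LinearMap.ker (C.d 0 1).hom).subtype (C.d 0 1).hom.rangeRestrict ?_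
    (LinearMap.surjective_rangeRestrict _) Subtype.val_injective
  rw [LinearMap.exact_iff, LinearMap.ker_rangeRestrict, Submodule.range_subtype]

/-- Cocycles of degree zero commute with base change. -/
theorem injective_and_exact_zero (M : Type u) [AddCommGroup M] [Module A M] :
    Injective ((LinearMap.ker (C.d 0 1).hom).subtype.lTensor M) ∧
      LinearMap.ker ((C.d 0 1).hom.lTensor M) ≤
        LinearMap.range ((LinearMap.ker (C.d 0 1).hom).subtype.lTensor M) := by
  have : Module.Flat A (C.X 1 ⧸ LinearMap.range (C.d 0 1).hom) := flat_coker_d C hflat N hvan hH 0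
  have := hflat 1
  exact ⟨injective_ker_subtype_lTensor M, ker_lTensor_le M⟩

end Algebra

section Geometry

variable {X : Scheme.{u}} [X.Over (Spec (CommRingCat.of A))] (F : X.Modules) [Coh.IsQCoh F]
  [IsSeparated (X ↘ Spec (CommRingCat.of A))] [QuasiCompact (X ↘ Spec (CommRingCat.of A))]
  (hfl : FlatMod.IsFlatOver (X ↘ Spec (CommRingCat.of A)) F)
  (hvH : ∀ p : ℕ, 0 < p → Subsingleton (Coh.HH X F p))
include hfl hvH

variable {B : Type u} [CommRing B] (φ : A →+* B) {X' : Scheme.{u}} [X'.Over (Spec (CommRingCat.of B))]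
  (g : X' ⟶ X)
  (h : IsPullback g (X' ↘ Spec (CommRingCat.of B)) (X ↘ Spec (CommRingCat.of A))
    (Spec.map (CommRingCat.ofHom φ)))

include h in
/-- Sections of an acyclic flat family commute with base change. -/
theorem bijective_secBC_top : Bijective (secBC φ g h F ⊤) := by
  classical
  letI := φ.toAlgebra
  obtain ⟨ι, _, W, hcov, hW⟩ := exists_affine_cover A X
  let C := cxA A W F
  let F' := (Scheme.Modules.pullback g).obj F
  let W' := fun i => g ⁻¹ᵁ W i
  have hcov' : ⨆ i, W' i = ⊤ := by
    rw [← Scheme.Hom.preimage_iSup, hcov, Scheme.Hom.preimage_top]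
  have hH : ∀ n, IsZero (C.homology (n + 1)) := fun n => by
    rw [ModuleCat.isZero_iff_subsingleton]
    have := hvH (n + 1) (Nat.succ_pos n)
    exact (hhCech A W hcov hW F (n + 1)).symm.toEquiv.subsingleton
  obtain ⟨hinj, hex⟩ := injective_and_exact_zero C (flat_cxA W F hfl hW) (Nat.card ι)
    (fun n hn M => isZero_T_cxA W F hW hcov n hn M) hH B
  have hd0 : ∀ x : ∀ a : Fin 1 → ι, Γ(F, cinter W a), ((C.d 0 1).hom) x = cxD A W F 0 x :=
    fun x => LinearMap.congr_fun (congrArg ModuleCat.Hom.hom (cxA_d A W F 0)) x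
  let rA : Γ(F, ⊤) →ₗ[A] (∀ a : Fin 1 → ι, Γ(F, cinter W a)) :=
    { toFun := fun b a => resM F le_top b
      map_add' := fun b b' => funext fun a => map_add (resM F _) b b'
      map_smul' := fun c b => funext fun a => resM_smulA F _ c b }
  let r : Γ(F, ⊤) →ₗ[A] LinearMap.ker (C.d 0 1).hom :=
    rA.codRestrict _ fun b => (hd0 _).trans (cxD_restrict W F b)
  have hr : Bijective r := by
    refine ⟨fun b b' e => eq_of_restrict W F hcov b b' fun a => ?_, fun s => ?_⟩
    · exact congrFun (congrArg Subtype.val e) a
    · obtain ⟨b, hb⟩ := exists_glue_cocycle W F hcov s.1 ((hd0 _).symm.trans s.2)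
      exact ⟨b, Subtype.ext (funext hb)⟩
  have hrB : Bijective (r.lTensor B) := (LinearEquiv.lTensor B (LinearEquiv.ofBijective r hr)).bijective
  let j : B ⊗[A] Γ(F, ⊤) → B ⊗[A] C.X 0 := fun z =>
    (LinearMap.ker (C.d 0 1).hom).subtype.lTensor B (r.lTensor B z)
  let Φ := cochainBC φ g h W F 0
  have hΦ : Bijective Φ := bijective_cochainBC φ g h W hW F 0
  have hj : ∀ z a, Φ (j z) a =
      resM F' (le_top (a := cinter W' a)) (secBC φ g h F ⊤ z) := fun z a => by
    induction z using TensorProduct.induction_on with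
    | zero => simp only [j, map_zero, Pi.zero_apply]
    | add u v hu hv =>
      simp only [j, map_add, Pi.add_apply] at hu hv ⊢
      rw [hu, hv]
    | tmul b m =>
      refine Eq.trans (secBCTo_tmul φ g h W F a b (resM F le_top m)) ?_
      rw [← resM_pullSec g (le_top (a := cinter W a)) m, resM_resM, secBC_tmul]
      exact (resM_smulA F' _ b (pullSec g m)).symm
  refine ⟨fun z z' e => ?_, fun s' => ?_⟩
  · refine hrB.1 (hinj (hΦ.1 (funext fun a => ?_)))
    exact (hj z a).trans ((congrArg _ e).trans (hj z' a).symm)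
  · obtain ⟨y, hy⟩ := hΦ.2 fun a => resM F' le_top s'
    have hy0 : (C.d 0 1).hom.lTensor B y = 0 := by
      refine (bijective_cochainBC φ g h W hW F 1).1 ?_
      have e := ConcreteCategory.congr_hom ((cxBCIso φ g h W hW F).hom.comm 0 1) y
      rw [show ((cxA B W' F').d 0 1) = ModuleCat.ofHom (cxD B W' F' 0) from cxA_d B W' F' 0] at e
      rw [map_zero]
      refine Eq.trans e.symm ?_
      show cxD B W' F' 0 (Φ y) = 0
      rw [hy]
      exact cxD_restrict W' F' s'
    obtain ⟨w, hw⟩ := hex hy0
    obtain ⟨z, rfl⟩ := hrB.2 w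
    refine ⟨z, eq_of_restrict W' F' hcov' _ _ fun a => ?_⟩
    rw [← hj z a, show j z = y from hw, hy]

/-- Sections of an acyclic flat family form a flat module. -/
theorem flat_sections_top : Module.Flat A Γ(F, ⊤) := by
  classical
  obtain ⟨ι, _, W, hcov, hW⟩ := exists_affine_cover A X
  let C := cxA A W F
  have hH : ∀ n, IsZero (C.homology (n + 1)) := fun n => by
    rw [ModuleCat.isZero_iff_subsingleton]
    have := hvH (n + 1) (Nat.succ_pos n)
    exact (hhCech A W hcov hW F (n + 1)).symm.toEquiv.subsingleton
  have hfk := flat_ker_zero C (flat_cxA W F hfl hW) (Nat.card ι)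
    (fun n hn M => isZero_T_cxA W F hW hcov n hn M) hH
  have hd0 : ∀ x : ∀ a : Fin 1 → ι, Γ(F, cinter W a), ((C.d 0 1).hom) x = cxD A W F 0 x :=
    fun x => LinearMap.congr_fun (congrArg ModuleCat.Hom.hom (cxA_d A W F 0)) x
  let rA : Γ(F, ⊤) →ₗ[A] (∀ a : Fin 1 → ι, Γ(F, cinter W a)) :=
    { toFun := fun b a => resM F le_top b
      map_add' := fun b b' => funext fun a => map_add (resM F _) b b'
      map_smul' := fun c b => funext fun a => resM_smulA F _ c b }
  let r : Γ(F, ⊤) →ₗ[A] LinearMap.ker (C.d 0 1).hom :=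
    rA.codRestrict _ fun b => (hd0 _).trans (cxD_restrict W F b)
  have hr : Bijective r := by
    refine ⟨fun b b' e => eq_of_restrict W F hcov b b' fun a => ?_, fun s => ?_⟩
    · exact congrFun (congrArg Subtype.val e) a
    · obtain ⟨b, hb⟩ := exists_glue_cocycle W F hcov s.1 ((hd0 _).symm.trans s.2)
      exact ⟨b, Subtype.ext (funext hb)⟩
  exact Module.Flat.of_linearEquiv (LinearEquiv.ofBijective r hr)

end Geometry

end Groth.Agent.Coherent.CohBC
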