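import Groth.Agent.Coherent.CohBC.SectionsBC
import Groth.Agent.Coherent.CohBC.ComplexFibres
import Groth.Agent.S4490

/-!
# Restriction of global sections to the closed fibre over a local ring
-/

set_option autoImplicit false
set_option backward.isDefEq.respectTransparency false

universe u

open CategoryTheory CategoryTheory.Limits AlgebraicGeometry
open Groth.Agent.Coherent Groth.Agent.PicLib Groth.Agent.FlatCxLib Function

namespace Groth.Agent.Coherent.CohBC

variable {A : Type u} [CommRing A] [IsLocalRing A] [IsNoetherianRing A]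

omit [IsNoetherianRing A] in
theorem surjective_residueHom :
    Surjective (residueHom (A := A) (IsLocalRing.closedPoint A)) :=
  (ConcreteCategory.bijective_of_isIso
      (Scheme.Spec.residueFieldIso (CommRingCat.of A) (IsLocalRing.closedPoint A)).inv).2.comp
    fun x => by
      obtain ⟨q, rfl⟩ := (Ideal.bijective_algebraMap_quotient_residueField
        (IsLocalRing.maximalIdeal A)).2 x
      obtain ⟨a, rfl⟩ := Ideal.Quotient.mk_surjective q
      refine ⟨a, ?_⟩
      show algebraMap A (IsLocalRing.maximalIdeal A).ResidueField a = _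
      exact (IsScalarTower.algebraMap_apply A (A ⧸ IsLocalRing.maximalIdeal A)
        (IsLocalRing.maximalIdeal A).ResidueField a)

variable {X : Scheme.{u}} [X.Over (Spec (CommRingCat.of A))] {F : X.Modules} (D : PerfData A X F)
include D

omit [IsLocalRing A] [IsNoetherianRing A] in
theorem preservesMono_zero :
    (CohIII.tensorAFunctor A F ⋙ CohIII.HAb X 0).PreservesMonomorphisms := by
  rw [D.preservesMono_iff]
  exact (preservesMono_iff_flat (-((0 : ℕ) : ℤ) + 1) (-((0 : ℕ) : ℤ)) D.flat_P rfl).2
    (flat_cokers_of_isZero_T D.P D.finite_flat_P 2 1 0 rfl rfl fun M => D.isZero_T_pos 1 one_pos M).2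

/-- `H^0` is right exact iff global sections restrict onto those of the closed fibre. -/
theorem preservesEpi_zero_iff_surjective_pullSec :
    (CohIII.tensorAFunctor A F ⋙ CohIII.HAb X 0).PreservesEpimorphisms ↔
      Surjective (pullSec ((X ↘ Spec (CommRingCat.of A)).fiberι (IsLocalRing.closedPoint A))
        (L := F) (U := ⊤)) := by
  let y : ↥(Spec (CommRingCat.of A)) := IsLocalRing.closedPoint A
  let K := (Spec (CommRingCat.of A)).residueField y
  let φ := residueHom (A := A) y
  let _ : Algebra A K := φ.toAlgebra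
  have := D.finite
  have := D.isQCoh
  rw [← surjective_TFun_zero_iff_pullSec D.W F D.hcov D.hW _ (PerfData.isPullback_fibre y),
    D.preservesEpi_iff, (S4490.result D.P D.finite_flat_P (-((0 : ℕ) : ℤ))).1]
  have hker : RingHom.ker (Algebra.ofId A K).toRingHom = IsLocalRing.maximalIdeal A :=
    ker_residueHom y
  let e : IsLocalRing.ResidueField A ≃ₐ[A] K :=
    (Ideal.quotientEquivAlgOfEq A hker.symm).trans
      (Ideal.quotientKerAlgEquivOfSurjective (f := Algebra.ofId A K) surjective_residueHom)
  let g₁ : ModuleCat.of A A ⟶ ModuleCat.of A (IsLocalRing.ResidueField A) :=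
    ModuleCat.ofHom (Algebra.linearMap A _)
  let g₂ : ModuleCat.of A A ⟶ ModuleCat.of A K := ModuleCat.ofHom (Algebra.linearMap A _)
  have hg : g₁ ≫ e.toLinearEquiv.toModuleIso.hom = g₂ :=
    ModuleCat.hom_ext (LinearMap.ext fun a => e.commutes a)
  refine ((ModuleCat.epi_iff_surjective ((CohIII.TFun D.P _).map g₁)).symm.trans (Iff.trans ?_
    (ModuleCat.epi_iff_surjective ((CohIII.TFun (cxA A D.W F) 0).map g₂))))
  refine Iff.trans ?_ ((MorphismProperty.epimorphisms (ModuleCat.{u} A)).arrow_mk_iso_iff
    (Arrow.isoMk ((D.tIso 0).app _) ((D.tIso 0).app _) ((D.tIso 0).hom.naturality g₂).symm)).symm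
  exact (MorphismProperty.epimorphisms (ModuleCat.{u} A)).arrow_mk_iso_iff
    (Arrow.isoMk (Iso.refl _) ((CohIII.TFun D.P _).mapIso e.toLinearEquiv.toModuleIso)
      ((Category.id_comp _).trans ((congrArg (CohIII.TFun D.P _).map hg).symm.trans
        (Functor.map_comp _ _ _))))

/-- Vanishing of `H^1` on the closed fibre makes sections restrict onto. -/
theorem surjective_pullSec_of_dRank
    (h : CohIII.dRank D.P (-((1 : ℕ) : ℤ)) (IsLocalRing.closedPoint A) = 0) :
    Surjective (pullSec ((X ↘ Spec (CommRingCat.of A)).fiberι (IsLocalRing.closedPoint A))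
        (L := F) (U := ⊤)) := by
  rw [← preservesEpi_zero_iff_surjective_pullSec D, D.preservesEpi_iff_preservesMono_succ,
    D.preservesMono_iff]
  refine preservesMono_of_isZero (P := D.P) _ fun M => (flat_and_isZero_of_fibres D.P D.finite_flat_P
    _ (-((1 : ℕ) : ℤ) - 1) (by omega) fun m hm => ?_).2 M
  obtain rfl := IsLocalRing.eq_maximalIdeal hm
  exact (isZero_T_of_dRank_eq_zero D.P D.finite_flat_P _ _ h).of_iso ((CohIII.TFun D.P _).mapIso
    (AlgEquiv.ofBijective (IsScalarTower.toAlgHom A (A ⧸ IsLocalRing.maximalIdeal A)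
        (IsLocalRing.maximalIdeal A).ResidueField)
      (Ideal.bijective_algebraMap_quotient_residueField (IsLocalRing.maximalIdeal A))).toLinearEquiv.toModuleIso)

end Groth.Agent.Coherent.CohBC
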