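import Groth.Agent.Coherent.CohBC.SectionsBC
import Groth.Agent.Coherent.FlatBaseChangeMain
import Mathlib.Dynamics.Newton
import Mathlib.RingTheory.Etale.Field
import Mathlib.FieldTheory.Minpoly.Field

/-!
# Sections of a fibre with étale ring of functions lift to all thickenings
-/

set_option autoImplicit false
set_option backward.isDefEq.respectTransparency false

universe u

open CategoryTheory CategoryTheory.Limits AlgebraicGeometry Opposite TopologicalSpace TensorProduct
open Groth.Agent.Coherent Groth.Agent.PicLib Function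

namespace Groth.Agent.Coherent.CohBC

section Algebra

variable {A B B' C₀ C₁ : Type u} [CommRing A] [CommRing B] [CommRing B'] [CommRing C₀] [CommRing C₁]
  [Algebra A B] [Algebra A B'] [Algebra A C₀] [Algebra A C₁]

theorem isNilpotent_of_map_eq_zero (q : B →ₐ[A] B') (hq : Surjective q)
    (hnil : ∀ x, q x = 0 → IsNilpotent x) (z : C₀ ⊗[A] B)
    (hz : Algebra.TensorProduct.map (AlgHom.id A C₀) q z = 0) : IsNilpotent z := by
  have h : z ∈ (RingHom.ker q).map
      (Algebra.TensorProduct.includeRight : B →ₐ[A] C₀ ⊗[A] B) := by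
    rw [← Algebra.TensorProduct.lTensor_ker q hq]
    exact hz
  have hle : (RingHom.ker q).map (Algebra.TensorProduct.includeRight : B →ₐ[A] C₀ ⊗[A] B) ≤
      nilradical (C₀ ⊗[A] B) :=
    Ideal.map_le_iff_le_comap.2 fun x hx => (hnil x hx).map
      (Algebra.TensorProduct.includeRight : B →ₐ[A] C₀ ⊗[A] B)
  exact hle h

/-- A root in an equaliser lifts along a nilpotent extension to a root in the equaliser. -/
theorem exists_lift_equalizer (r₀ r₁ : C₀ →ₐ[A] C₁) (q : B →ₐ[A] B') (hq : Surjective q)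
    (hnil : ∀ x, q x = 0 → IsNilpotent x) (y : C₀ ⊗[A] B')
    (hy : Algebra.TensorProduct.map r₀ (AlgHom.id A B') y = Algebra.TensorProduct.map r₁ (AlgHom.id A B') y)
    (G : Polynomial A) (hG : Polynomial.aeval y G = 0)
    (hG' : IsUnit (Polynomial.aeval y (Polynomial.derivative G))) :
    ∃ x : C₀ ⊗[A] B, Algebra.TensorProduct.map r₀ (AlgHom.id A B) x =
        Algebra.TensorProduct.map r₁ (AlgHom.id A B) x ∧
      Algebra.TensorProduct.map (AlgHom.id A C₀) q x = y := by
  let π₀ := Algebra.TensorProduct.map (AlgHom.id A C₀) q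
  let π₁ := Algebra.TensorProduct.map (AlgHom.id A C₁) q
  have hs : Surjective π₀ := by
    intro w
    induction w using TensorProduct.induction_on with
    | zero => exact ⟨0, map_zero _⟩
    | tmul c b =>
      obtain ⟨b, rfl⟩ := hq b
      exact ⟨c ⊗ₜ b, rfl⟩
    | add u v hu hv =>
      obtain ⟨u, rfl⟩ := hu
      obtain ⟨v, rfl⟩ := hv
      exact ⟨u + v, map_add _ _ _⟩
  obtain ⟨x₀, rfl⟩ := hs y
  have hu : ∀ z : C₀ ⊗[A] B, IsUnit (π₀ z) → IsUnit z := fun z hz => by
    obtain ⟨w, hw⟩ := hz.exists_right_inv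
    obtain ⟨w, rfl⟩ := hs w
    have h := isNilpotent_of_map_eq_zero q hq hnil (z * w - 1)
      (by rw [map_sub, map_mul, map_one]; exact sub_eq_zero.2 hw)
    have h' := h.isUnit_one_add
    rw [add_sub_cancel] at h'
    exact (IsUnit.mul_iff.1 h').1
  obtain ⟨x, ⟨hx, hroot⟩, -⟩ := Polynomial.existsUnique_nilpotent_sub_and_aeval_eq_zero
    (P := G) (x := x₀) (isNilpotent_of_map_eq_zero q hq hnil _ (by rw [← Polynomial.aeval_algHom_apply]; exact hG))
    (hu _ (by rw [← Polynomial.aeval_algHom_apply]; exact hG'))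
  have hxy : π₀ x = π₀ x₀ := by
    obtain ⟨n, hn⟩ := hx
    have : ∃ m, IsNilpotent (π₀ (x₀ - x)) ∧ m = π₀ x := ⟨_, ⟨n, by rw [← map_pow, hn, map_zero]⟩, rfl⟩
    obtain ⟨-, hm, -⟩ := this
    exact (eq_of_isNilpotent_sub_of_roots (π₀ x₀) (π₀ x) G hG
      (by rw [Polynomial.aeval_algHom_apply, hroot, map_zero]) hG' (by rw [← map_sub]; exact hm)).symm
  refine ⟨x, ?_, hxy⟩
  let R₀ := Algebra.TensorProduct.map r₀ (AlgHom.id A B)
  let R₁ := Algebra.TensorProduct.map r₁ (AlgHom.id A B)
  have hc₀ : ∀ (r : C₀ →ₐ[A] C₁) (z : C₀ ⊗[A] B), π₁ (Algebra.TensorProduct.map r (AlgHom.id A B) z) =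
      Algebra.TensorProduct.map r (AlgHom.id A B') (π₀ z) := fun r z => by
    induction z using TensorProduct.induction_on with
    | zero => simp
    | tmul c b => rfl
    | add u v hu hv => simp only [map_add, hu, hv]
  refine eq_of_isNilpotent_sub_of_roots (R₀ x) (R₁ x) G
    (by rw [Polynomial.aeval_algHom_apply, hroot, map_zero])
    (by rw [Polynomial.aeval_algHom_apply, hroot, map_zero]) ?_
    (isNilpotent_of_map_eq_zero q hq hnil _ ?_)
  · rw [Polynomial.aeval_algHom_apply]
    refine IsUnit.map R₀ (hu _ ?_)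
    rw [← Polynomial.aeval_algHom_apply, hxy]
    exact hG'
  · rw [map_sub, hc₀, hc₀, hxy]
    exact sub_eq_zero.2 hy
where
  eq_of_isNilpotent_sub_of_roots {T : Type u} [CommRing T] [Algebra A T] (a b : T) (G : Polynomial A)
      (ha : Polynomial.aeval a G = 0) (hb : Polynomial.aeval b G = 0)
      (hu : IsUnit (Polynomial.aeval a (Polynomial.derivative G))) (hn : IsNilpotent (a - b)) : a = b := by
    obtain ⟨r, -, hr⟩ := Polynomial.existsUnique_nilpotent_sub_and_aeval_eq_zero (P := G) (x := a)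
      (by rw [ha]; exact IsNilpotent.zero) hu
    exact (hr a ⟨by rw [sub_self]; exact IsNilpotent.zero, ha⟩).trans (hr b ⟨hn, hb⟩).symm

end Algebra

/-- An element of a finite étale algebra over a field is a root of a separable polynomial. -/
theorem exists_separable_aeval_eq_zero {K R : Type u} [Field K] [CommRing R] [Algebra K R]
    [Algebra.Etale K R] (s : R) : ∃ g : Polynomial K, g.Separable ∧ Polynomial.aeval s g = 0 := by
  classical
  obtain ⟨I, _, L, _, _, e, hL⟩ := (Algebra.Etale.iff_exists_algEquiv_prod K R).1 ‹_›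
  cases nonempty_fintype I
  let m : I → Polynomial K := fun i => minpoly K (e s i)
  have hint : ∀ i, IsIntegral K (e s i) := fun i => by
    have := (hL i).1
    exact Algebra.IsIntegral.isIntegral _
  let S : Finset (Polynomial K) := Finset.univ.image m
  refine ⟨∏ p ∈ S, p, Polynomial.separable_prod' (fun p hp p' hp' hne => ?_) (fun p hp => ?_), ?_⟩
  · obtain ⟨i, -, rfl⟩ := Finset.mem_image.1 hp
    obtain ⟨j, -, rfl⟩ := Finset.mem_image.1 hp'
    refine (minpoly.irreducible (hint i)).coprime_iff_not_dvd.2 fun h => hne ?_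
    exact Polynomial.eq_of_monic_of_associated (minpoly.monic (hint i)) (minpoly.monic (hint j))
      ((minpoly.irreducible (hint i)).associated_of_dvd (minpoly.irreducible (hint j)) h)
  · obtain ⟨i, -, rfl⟩ := Finset.mem_image.1 hp
    have := (hL i).2
    exact Algebra.IsSeparable.isSeparable K (e s i)
  · refine e.injective (funext fun i => ?_)
    rw [map_zero, Pi.zero_apply, ← Polynomial.aeval_algHom_apply]
    obtain ⟨t, ht⟩ : m i ∣ ∏ p ∈ S, p :=
      Finset.dvd_prod_of_mem (fun p => p) (Finset.mem_image_of_mem m (Finset.mem_univ i))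
    refine (Polynomial.aeval_algHom_apply (Pi.evalAlgHom K L i) (e s) _).symm.trans ?_
    show Polynomial.aeval (e s i) (∏ p ∈ S, p) = 0
    rw [ht, map_mul, minpoly.aeval, zero_mul]

section Geometry

variable {A : Type u} [CommRing A] {X : Scheme.{u}} [X.Over (Spec (CommRingCat.of A))] {ι : Type u}
  (W : ι → X.Opens)

/-- Restriction to a face, as a map of algebras. -/
noncomputable def faceHom (j : Fin 2) : (∀ a : Fin 1 → ι, Γ(X, cinter W a)) →ₐ[A]
    (∀ a : Fin 2 → ι, Γ(X, cinter W a)) where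
  toFun x a := X.presheaf.map (homOfLE (cinter_face W a j)).op (x (a ∘ j.succAbove))
  map_one' := funext fun _ => map_one _
  map_mul' _ _ := funext fun _ => map_mul _ _ _
  map_zero' := funext fun _ => map_zero _
  map_add' _ _ := funext fun _ => map_add _ _ _
  commutes' r := funext fun a => toΓ_res (cinter_face W a j) r

theorem rTensor_cxD_eq (M : Type u) [AddCommGroup M] [Module A M]
    (z : (∀ a : Fin 1 → ι, Γ(Coh.structureModule X, cinter W a)) ⊗[A] M) :
    (cxD A W (Coh.structureModule X) 0).rTensor M z =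
      (faceHom (A := A) W 0).toLinearMap.rTensor M z - (faceHom (A := A) W 1).toLinearMap.rTensor M z := by
  have h : cxD A W (Coh.structureModule X) 0 =
      (faceHom (A := A) W 0).toLinearMap - (faceHom (A := A) W 1).toLinearMap := LinearMap.ext fun x => funext fun a => by
    show ∑ j : Fin 2, (-1 : ℤ) ^ (j : ℕ) •
      resM (Coh.structureModule X) (cinter_face W a j) (x (a ∘ j.succAbove)) = _
    simp only [Fin.sum_univ_two, Fin.val_zero, Fin.val_one, pow_zero, pow_one, one_smul, neg_smul,
      ← sub_eq_add_neg]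
    rfl
  rw [h, LinearMap.rTensor_sub, LinearMap.sub_apply]
  rfl

/-- Functions on an open tensored with `K` map to functions on the base change. -/
noncomputable def funBC {K : Type u} [CommRing K] [Algebra A K] {X' : Scheme.{u}}
    [X'.Over (Spec (CommRingCat.of K))] (g : X' ⟶ X)
    (h : IsPullback g (X' ↘ Spec (CommRingCat.of K)) (X ↘ Spec (CommRingCat.of A))
      (Spec.map (CommRingCat.ofHom (algebraMap A K)))) (U : X.Opens) :
    Γ(X, U) ⊗[A] K →+* Γ(X', g ⁻¹ᵁ U) :=
  letI : Algebra A Γ(X', g ⁻¹ᵁ U) := ((toΓ K (g ⁻¹ᵁ U)).comp (algebraMap A K)).toAlgebra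
  (Algebra.TensorProduct.lift
    ({ (g.app U).hom with commutes' := fun r => toΓ_pull (algebraMap A K) g h U r } :
      Γ(X, U) →ₐ[A] Γ(X', g ⁻¹ᵁ U))
    ({ toΓ K (g ⁻¹ᵁ U) with commutes' := fun r => rfl } :
      K →ₐ[A] Γ(X', g ⁻¹ᵁ U)) fun _ _ => Commute.all _ _).toRingHom

theorem funBC_tmul {K : Type u} [CommRing K] [Algebra A K] {X' : Scheme.{u}}
    [X'.Over (Spec (CommRingCat.of K))] (g : X' ⟶ X)
    (h : IsPullback g (X' ↘ Spec (CommRingCat.of K)) (X ↘ Spec (CommRingCat.of A))
      (Spec.map (CommRingCat.ofHom (algebraMap A K)))) (U : X.Opens) (m : Γ(X, U)) (b : K) :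
    funBC g h U (m ⊗ₜ b) = g.app U m * toΓ K (g ⁻¹ᵁ U) b := rfl

variable [Finite ι] (hW : ∀ (p : ℕ) (a : Fin (p + 1) → ι), IsAffineOpen (cinter W a))
  (hcov : ⨆ i, W i = ⊤) {K : Type u} [Field K] [Algebra A K] {X' : Scheme.{u}}
  [X'.Over (Spec (CommRingCat.of K))] (g : X' ⟶ X)
  (h : IsPullback g (X' ↘ Spec (CommRingCat.of K)) (X ↘ Spec (CommRingCat.of A))
    (Spec.map (CommRingCat.ofHom (algebraMap A K))))
include hW hcov h

/-- Cocycles modulo a maximal ideal lift to all thickenings when the fibre has étale functions. -/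
theorem surjective_lift_cocycles (het : letI := (toΓ K (⊤ : X'.Opens)).toAlgebra; Algebra.Etale K Γ(X', ⊤))
    (hK : Surjective (algebraMap A K)) {B : Type u} [CommRing B] [Algebra A B] (q : B →ₐ[A] K)
    (hq : Surjective q) (hnil : ∀ x, q x = 0 → IsNilpotent x)
    (y : (∀ a : Fin 1 → ι, Γ(Coh.structureModule X, cinter W a)) ⊗[A] K)
    (hy : (cxD A W (Coh.structureModule X) 0).rTensor K y = 0) :
    ∃ x, (cxD A W (Coh.structureModule X) 0).rTensor B x = 0 ∧
      q.toLinearMap.lTensor (∀ a : Fin 1 → ι, Γ(Coh.structureModule X, cinter W a)) x = y := by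
  classical
  have := Fintype.ofFinite ι
  let φ := algebraMap A K
  let W' := fun i => g ⁻¹ᵁ W i
  have hcov' : ⨆ i, W' i = ⊤ := by rw [← Scheme.Hom.preimage_iSup, hcov, Scheme.Hom.preimage_top]
  have : IsAffineHom g := MorphismProperty.IsStableUnderBaseChange.of_isPullback
    (P := @IsAffineHom) h.flip inferInstance
  let _ : Algebra K Γ(X', ⊤) := (toΓ K (⊤ : X'.Opens)).toAlgebra
  -- the comparison with functions on the fibre
  let ψa := fun a : Fin 1 → ι => funBC g h (cinter W a)
  have hψa : ∀ a, Injective (ψa a) := fun a => by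
    have hp := isBCPushout_of_isPullback g (A := A) (B := K) h (hW 0 a)
    obtain ⟨d, hd₁, hd₂⟩ : ∃ d : Γ(X', g ⁻¹ᵁ cinter W a) ⟶ CommRingCat.of (Γ(X, cinter W a) ⊗[A] K),
        g.app (cinter W a) ≫ d = CommRingCat.ofHom Algebra.TensorProduct.includeLeftRingHom ∧
        CommRingCat.ofHom (toΓ K (g ⁻¹ᵁ cinter W a)) ≫ d =
          CommRingCat.ofHom (Algebra.TensorProduct.includeRight (R := A) (A := Γ(X, cinter W a))).toRingHom :=
      have w : CommRingCat.ofHom ((X.presheaf.map (homOfLE (le_top (a := cinter W a))).op).hom.comp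
            (Coh.toGlobal (X ↘ Spec (CommRingCat.of A)))) ≫
          CommRingCat.ofHom (Algebra.TensorProduct.includeLeftRingHom :
            Γ(X, cinter W a) →+* Γ(X, cinter W a) ⊗[A] K) =
          CommRingCat.ofHom (algebraMap A K) ≫
            CommRingCat.ofHom (Algebra.TensorProduct.includeRight (R := A) (A := Γ(X, cinter W a)) (B := K)).toRingHom :=
        CommRingCat.hom_ext (RingHom.ext fun r =>
          Algebra.TensorProduct.tmul_one_eq_one_tmul (A := Γ(X, cinter W a)) (B := K) r)
      ⟨hp.desc _ _ w, hp.inl_desc _ _ w, hp.inr_desc _ _ w⟩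
    refine LeftInverse.injective (g := d.hom) fun z => ?_
    induction z using TensorProduct.induction_on with
    | zero => simp
    | tmul m b =>
      show d.hom (g.app (cinter W a) m * toΓ K (g ⁻¹ᵁ cinter W a) b) = _
      rw [map_mul]
      refine (congrArg₂ (· * ·) (ConcreteCategory.congr_hom hd₁ m) (ConcreteCategory.congr_hom hd₂ b)).trans ?_
      show (m ⊗ₜ[A] (1 : K)) * ((1 : Γ(X, cinter W a)) ⊗ₜ[A] b) = _
      rw [Algebra.TensorProduct.tmul_mul_tmul, mul_one, one_mul]
    | add u v hu hv => simp only [map_add, hu, hv]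
  let C₀ := ∀ a : Fin 1 → ι, Γ(X, cinter W a)
  let pr : ∀ a : Fin 1 → ι, C₀ →ₐ[A] Γ(X, cinter W a) := fun a => Pi.evalAlgHom A _ a
  let P : ∀ a : Fin 1 → ι, C₀ ⊗[A] K →+* Γ(X', g ⁻¹ᵁ cinter W a) := fun a =>
    (ψa a).comp (Algebra.TensorProduct.map (pr a) (AlgHom.id A K)).toRingHom
  have hP : ∀ z : C₀ ⊗[A] K, (∀ a, P a z = 0) → z = 0 := fun z hz => by
    refine (TensorProduct.piLeft A K fun a : Fin 1 → ι => Γ(X, cinter W a)).injective (funext fun a => ?_)
    rw [map_zero, Pi.zero_apply]
    refine hψa a ?_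
    rw [map_zero, ← hz a]
    refine congrArg (ψa a) ?_
    clear hz
    induction z using TensorProduct.induction_on with
    | zero => simp
    | tmul c b =>
      simp [pr]
      rfl
    | add u v hu hv => simp only [map_add, Pi.add_apply, hu, hv]
  have hy' : Algebra.TensorProduct.map (faceHom (A := A) W 0) (AlgHom.id A K) y =
      Algebra.TensorProduct.map (faceHom (A := A) W 1) (AlgHom.id A K) y := by
    rw [rTensor_cxD_eq] at hy
    exact sub_eq_zero.1 hy
  -- the global function of the cocycle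
  have hfun : cxD K W' (Coh.structureModule X') 0
      (fun a => X'.presheaf.map (homOfLE (cinter_pull g W a).le).op (P a y)) = 0 := by
    funext a
    show ∑ j : Fin 2, (-1 : ℤ) ^ (j : ℕ) • resM (Coh.structureModule X') (cinter_face W' a j)
      (X'.presheaf.map (homOfLE (cinter_pull g W (a ∘ j.succAbove)).le).op (P (a ∘ j.succAbove) y)) = 0
    let P₁ : (∀ b : Fin 2 → ι, Γ(X, cinter W b)) ⊗[A] K →+* Γ(X', cinter W' a) :=
      ((X'.presheaf.map (homOfLE (cinter_pull g W a).le).op).hom.comp (funBC g h (cinter W a))).comp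
        (Algebra.TensorProduct.map (Pi.evalAlgHom A (fun b : Fin 2 → ι => Γ(X, cinter W b)) a)
          (AlgHom.id A K)).toRingHom
    have key : ∀ j : Fin 2, X'.presheaf.map (homOfLE (cinter_face W' a j)).op
          (X'.presheaf.map (homOfLE (cinter_pull g W (a ∘ j.succAbove)).le).op (P (a ∘ j.succAbove) y)) =
        P₁ (Algebra.TensorProduct.map (faceHom (A := A) W j) (AlgHom.id A K) y) := fun j => by
      clear hy hy'
      induction y using TensorProduct.induction_on with
      | zero => simp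
      | tmul c b =>
        show X'.presheaf.map _ (X'.presheaf.map _ (funBC g h _ (c (a ∘ j.succAbove) ⊗ₜ b))) =
          X'.presheaf.map _ (funBC g h _ (X.presheaf.map (homOfLE (cinter_face W a j)).op (c (a ∘ j.succAbove)) ⊗ₜ b))
        rw [funBC_tmul, funBC_tmul, map_mul, map_mul, map_mul, toΓ_res, toΓ_res, toΓ_res]
        refine congrArg (· * _) ?_
        rw [← ConcreteCategory.comp_apply (X.presheaf.map _) (g.app _), g.naturality]
        simp only [← ConcreteCategory.comp_apply, Category.assoc, ← Functor.map_comp]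
        rfl
      | add u v hu hv => simp only [map_add, hu, hv]
    simp only [Fin.sum_univ_two, Fin.val_zero, Fin.val_one, pow_zero, pow_one, one_smul, neg_smul]
    show X'.presheaf.map _ _ + -X'.presheaf.map _ _ = 0
    rw [key 0, key 1, hy', add_neg_cancel]
  obtain ⟨s, hs⟩ := exists_glue_cocycle W' (Coh.structureModule X') hcov' _ hfun
  obtain ⟨gK, hsep, hgK⟩ := exists_separable_aeval_eq_zero (K := K) (show Γ(X', ⊤) from s)
  obtain ⟨G, rfl⟩ := Polynomial.map_surjective φ hK gK
  have hev : ∀ H : Polynomial A, Polynomial.aeval (show C₀ ⊗[A] K from y) H =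
      Polynomial.eval₂ (Algebra.TensorProduct.includeRight : K →ₐ[A] C₀ ⊗[A] K).toRingHom (show C₀ ⊗[A] K from y) (H.map φ) := fun H => by
    rw [Polynomial.eval₂_map, Polynomial.aeval_def]
    congr 1
    exact RingHom.ext fun r => ((Algebra.TensorProduct.includeRight : K →ₐ[A] C₀ ⊗[A] K).commutes r).symm
  have hzero : Polynomial.aeval (show C₀ ⊗[A] K from y) G = 0 := hP _ fun a => by
    rw [hev, Polynomial.hom_eval₂]
    have h₁ : (P a).comp (Algebra.TensorProduct.includeRight : K →ₐ[A] C₀ ⊗[A] K).toRingHom =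
        ((X'.presheaf.map (homOfLE le_top).op).hom).comp (toΓ K (⊤ : X'.Opens)) := RingHom.ext fun k => by
      refine Eq.trans ?_ (toΓ_res (le_top : g ⁻¹ᵁ cinter W a ≤ ⊤) k).symm
      show g.app (cinter W a) (pr a 1) * toΓ K (g ⁻¹ᵁ cinter W a) k = _
      rw [map_one, map_one, one_mul]
    have h₂ : P a y = X'.presheaf.map (homOfLE le_top).op (show Γ(X', ⊤) from s) := by
      have e := congrArg (X'.presheaf.map (homOfLE (cinter_pull g W a).ge).op) (hs a)
      have h3 : ∀ z : Γ(X', g ⁻¹ᵁ cinter W a),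
          X'.presheaf.map (homOfLE (cinter_pull g W a).ge).op
            (X'.presheaf.map (homOfLE (cinter_pull g W a).le).op z) = z := fun z => by
        rw [← ConcreteCategory.comp_apply, ← Functor.map_comp]
        exact ConcreteCategory.congr_hom (X'.presheaf.map_id (op _)) z
      rw [h3] at e
      refine e.symm.trans ?_
      show X'.presheaf.map _ (X'.presheaf.map _ (show Γ(X', ⊤) from s)) = _
      rw [← ConcreteCategory.comp_apply, ← Functor.map_comp]
      rfl
    rw [h₁, h₂, ← Polynomial.hom_eval₂]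
    exact (congrArg _ hgK).trans (map_zero _)
  have hunit : IsUnit (Polynomial.aeval (show C₀ ⊗[A] K from y) (Polynomial.derivative G)) := by
    obtain ⟨a, b, hab⟩ := (Polynomial.separable_def' _).1 hsep
    rw [hev] at hzero ⊢
    have h' := congrArg (Polynomial.eval₂ (Algebra.TensorProduct.includeRight : K →ₐ[A] C₀ ⊗[A] K).toRingHom (show C₀ ⊗[A] K from y)) hab
    rw [Polynomial.eval₂_add, Polynomial.eval₂_mul, Polynomial.eval₂_mul, Polynomial.eval₂_one, hzero,
      mul_zero, zero_add, Polynomial.derivative_map] at h'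
    exact .of_mul_eq_one_right _ h'
  obtain ⟨x, hx, hxy⟩ := exists_lift_equalizer (faceHom (A := A) W 0) (faceHom (A := A) W 1) q hq hnil y hy' G hzero hunit
  refine ⟨x, ?_, hxy⟩
  rw [rTensor_cxD_eq]
  exact sub_eq_zero.2 hx

end Geometry

end Groth.Agent.Coherent.CohBC
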