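import Groth.Agent.Coherent.CohBC.ClosedFibre
import Groth.Agent.Coherent.CohBC.EtaleSections

/-!
# Cohomological flatness in degree zero from étale functions on the closed fibre
-/

set_option autoImplicit false
set_option backward.isDefEq.respectTransparency false

universe u

open CategoryTheory CategoryTheory.Limits AlgebraicGeometry TensorProduct
open Groth.Agent.Coherent Groth.Agent.PicLib Groth.Agent.FlatCxLib Function

namespace Groth.Agent.Coherent.CohBC

theorem etale_toΓ {X S : Scheme.{u}} (f : X ⟶ S) (y : S)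
    (het : Algebra.Etale (S.residueField y) Γ(f.fiber y, ⊤)) :
    letI := CohIII.fiberOver f y
    letI := (toΓ (S.residueField y) (⊤ : (f.fiber y).Opens)).toAlgebra
    Algebra.Etale (S.residueField y) Γ(f.fiber y, ⊤) := by
  let _ := CohIII.fiberOver f y
  have e : (toΓ (S.residueField y) (⊤ : (f.fiber y).Opens)).toAlgebra = CohIII.algebraFiberGlobal f y :=
    Algebra.algebra_ext _ _ fun r => ConcreteCategory.congr_hom
      ((f.fiber y).presheaf.map_id (Opposite.op (⊤ : (f.fiber y).Opens))) _
  rw [e]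
  exact het

theorem epi_map_of_comp_iso {C C' : Type*} [Category C] [Category C'] (T : C ⥤ C') {a b c : C}
    (f : a ⟶ b) (i : b ≅ c) {g : a ⟶ c} (hg : f ≫ i.hom = g) (h : Epi (T.map g)) : Epi (T.map f) := by
  have e : T.map f = T.map g ≫ T.map i.inv := by
    rw [← Functor.map_comp, ← hg, Category.assoc, i.hom_inv_id, Category.comp_id]
  rw [e]
  infer_instance

variable {A : Type u} [CommRing A] [IsLocalRing A] [IsNoetherianRing A] {X : Scheme.{u}}
  [X.Over (Spec (CommRingCat.of A))] (D : PerfData A X (Coh.structureModule X))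
include D


theorem preservesEpi_zero_of_etale
    (het : Algebra.Etale ((Spec (CommRingCat.of A)).residueField (IsLocalRing.closedPoint A))
      Γ((X ↘ Spec (CommRingCat.of A)).fiber (IsLocalRing.closedPoint A), ⊤)) :
    (CohIII.tensorAFunctor A (Coh.structureModule X) ⋙ CohIII.HAb X 0).PreservesEpimorphisms := by
  let y : ↥(Spec (CommRingCat.of A)) := IsLocalRing.closedPoint A
  let K := (Spec (CommRingCat.of A)).residueField y
  let _ : Algebra A K := (residueHom (A := A) y).toAlgebra
  have := D.finite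
  have := D.isQCoh
  rw [D.preservesEpi_iff, (S4490.result D.P D.finite_flat_P (-((0 : ℕ) : ℤ))).2]
  refine ⟨0, fun n _ => ?_⟩
  let m := IsLocalRing.maximalIdeal A
  let B := A ⧸ m ^ (n + 1)
  have hker : RingHom.ker (Algebra.ofId A K).toRingHom = m := ker_residueHom y
  let e : (A ⧸ m) ≃ₐ[A] K :=
    (Ideal.quotientEquivAlgOfEq A hker.symm).trans
      (Ideal.quotientKerAlgEquivOfSurjective (f := Algebra.ofId A K) surjective_residueHom)
  let p : B →ₐ[A] A ⧸ m := Ideal.Quotient.factorₐ A (Ideal.pow_le_self (Nat.succ_ne_zero n))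
  let q : B →ₐ[A] K := e.toAlgHom.comp p
  have hq : Surjective q := e.surjective.comp
    (Ideal.Quotient.factor_surjective (Ideal.pow_le_self (Nat.succ_ne_zero n)))
  have hnil : ∀ x, q x = 0 → IsNilpotent x := fun x hx => by
    obtain ⟨a, rfl⟩ := Ideal.Quotient.mk_surjective x
    have h0 : p (Ideal.Quotient.mk _ a) = 0 := e.injective (hx.trans (map_zero e).symm)
    refine ⟨n + 1, ?_⟩
    rw [← map_pow, Ideal.Quotient.eq_zero_iff_mem]
    exact Ideal.pow_mem_pow (Ideal.Quotient.eq_zero_iff_mem.1 h0) _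
  have hlift : Surjective ((CohIII.TFun (cxA A D.W (Coh.structureModule X)) 0).map
      (ModuleCat.ofHom q.toLinearMap : ModuleCat.of A B ⟶ ModuleCat.of A K)).hom := by
    rw [surjective_TFun_zero_iff]
    have hd : ((cxA A D.W (Coh.structureModule X)).d 0 1).hom = cxD A D.W (Coh.structureModule X) 0 :=
      congrArg ModuleCat.Hom.hom (cxA_d A D.W (Coh.structureModule X) 0)
    rw [hd]
    exact fun z hz => surjective_lift_cocycles D.W D.hW D.hcov _ (PerfData.isPullback_fibre y) (etale_toΓ _ y het)
      surjective_residueHom q hq hnil z hz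
  refine (ModuleCat.epi_iff_surjective _).1 ?_
  refine ((MorphismProperty.epimorphisms (ModuleCat.{u} A)).arrow_mk_iso_iff
    (Arrow.isoMk ((D.tIso 0).app _) ((D.tIso 0).app _)
      ((D.tIso 0).hom.naturality (ModuleCat.ofHom p.toLinearMap : ModuleCat.of A B ⟶ ModuleCat.of A (A ⧸ m))).symm)).1 ?_
  have hpe : (ModuleCat.ofHom p.toLinearMap : ModuleCat.of A B ⟶ ModuleCat.of A (A ⧸ m)) ≫
      e.toLinearEquiv.toModuleIso.hom = ModuleCat.ofHom q.toLinearMap :=
    ModuleCat.hom_ext (LinearMap.ext fun x => rfl)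
  exact epi_map_of_comp_iso (CohIII.TFun (cxA A D.W (Coh.structureModule X)) 0) _
    e.toLinearEquiv.toModuleIso hpe ((ModuleCat.epi_iff_surjective _).2 hlift)

end Groth.Agent.Coherent.CohBC
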