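import Groth.Agent.Coherent.CohBC.EulerConst
import Groth.Agent.CohExch.Chart

/-!
# Local constancy of Euler characteristics over an arbitrary base

For a proper flat family of finitely presented modules, over any base.
-/

set_option autoImplicit false
set_option backward.isDefEq.respectTransparency false
set_option linter.style.haveILetI false

universe u

open CategoryTheory CategoryTheory.Limits AlgebraicGeometry TensorProduct TopologicalSpace
open Groth.Agent.Coherent Groth.Agent.FlatCxLib

namespace Groth.Agent.Coherent.CohBC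

variable {A : Type u} [CommRing A]

/-- The alternating sum of fibre dimensions of a finite free complex is locally constant, over any ring. -/
theorem isLocallyConstant_sum_dRank_free (P : ChainComplex (ModuleCat.{u} A) ℤ)
    (hP : ∀ i, Module.Finite A (P.X i) ∧ Module.Free A (P.X i))
    (hpos : ∀ M : ModuleCat.{u} A, IsZero (CohIII.T P 1 M)) (i₀ : ℤ)
    (h₀ : ∀ i < i₀, IsZero (P.X i)) {n : ℕ} (hn : -(n : ℤ) - 1 < i₀) :
    IsLocallyConstant fun x : PrimeSpectrum A =>
      ∑ j ∈ Finset.range (n + 1), (-1 : ℤ) ^ j * (CohIII.dRank P (-(j : ℤ)) x : ℤ) := by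
  have hP' : ∀ i, Module.Finite A (P.X i) ∧ Module.Flat A (P.X i) := fun i =>
    ⟨(hP i).1, have := (hP i).2; inferInstance⟩
  have hfp : ∀ i, Module.FinitePresentation A (P.X i) := fun i =>
    haveI := (hP i).1
    haveI := (hP i).2
    Module.finitePresentation_of_projective A _
  have : ∀ M : ModuleCat.{u} A, IsZero (CohIII.T P (0 + 1) M) := hpos
  have hQ := (flat_cokers_of_isZero_T P hP' 2 1 0 (by omega) (by omega) hpos).2
  have := hfp 0
  have := (hP 1).1
  have : Module.FinitePresentation A (P.X 0 ⧸ LinearMap.range (P.d 1 0).hom) :=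
    Module.finitePresentation_of_surjective _ (Submodule.mkQ_surjective _)
      (by rw [Submodule.ker_mkQ, LinearMap.range_eq_map]; exact (Module.Finite.fg_top).map _)
  have he : ∀ x, eulerErr P 1 x = (Module.rankAtStalk (R := A) (P.X 0 ⧸ LinearMap.range (P.d 1 0).hom) x : ℤ) -
      (Module.rankAtStalk (P.X 0) x : ℤ) := fun x => by
    show (fibreRank (P.X 0 ⧸ LinearMap.range (P.d 1 0).hom) x : ℤ) - _ = _
    rw [fibreRank_eq_rankAtStalk]
    rfl
  have key : (fun x : PrimeSpectrum A => ∑ j ∈ Finset.range (n + 1),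
      (-1 : ℤ) ^ j * (CohIII.dRank P (-(j : ℤ)) x : ℤ)) = fun x =>
      (∑ j ∈ Finset.range (n + 1), (-1 : ℤ) ^ j * (Module.rankAtStalk (P.X (-(j : ℤ))) x : ℤ)) +
        ((Module.rankAtStalk (R := A) (P.X 0 ⧸ LinearMap.range (P.d 1 0).hom) x : ℤ) -
          (Module.rankAtStalk (P.X 0) x : ℤ)) := by
    funext x
    rw [sum_dRank_eq P hP' n x, he, eulerErr_eq_zero P _ x (h₀ _ hn), mul_zero, add_zero]
  rw [key, IsLocallyConstant.iff_eventually_eq]
  intro x
  have hev : ∀ᶠ y in nhds x, (∀ j ∈ Finset.range (n + 1),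
      Module.rankAtStalk (P.X (-(j : ℤ))) y = Module.rankAtStalk (P.X (-(j : ℤ))) x) ∧
      Module.rankAtStalk (R := A) (P.X 0 ⧸ LinearMap.range (P.d 1 0).hom) y =
        Module.rankAtStalk (R := A) (P.X 0 ⧸ LinearMap.range (P.d 1 0).hom) x ∧
      Module.rankAtStalk (P.X 0) y = Module.rankAtStalk (P.X 0) x := by
    refine ((Finset.range (n + 1)).eventually_all.2 fun j _ => ?_).and
      ((Module.isLocallyConstant_rankAtStalk.eventually_eq x).and ?_)
    · have := (hP' (-(j : ℤ))).2
      have := hfp (-(j : ℤ))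
      exact (Module.isLocallyConstant_rankAtStalk (R := A) (M := P.X (-(j : ℤ)))).eventually_eq x
    · have := (hP' 0).2
      exact (Module.isLocallyConstant_rankAtStalk (R := A) (M := P.X 0)).eventually_eq x
  filter_upwards [hev] with y hy
  rw [hy.2.1, hy.2.2]
  exact congrArg (· + _) (Finset.sum_congr rfl fun j hj => by rw [hy.1 j hj])

variable {X S : Scheme.{u}}

/-- The Euler characteristic of the fibres of a proper flat family of finite presentation is locally constant. -/
theorem isLocallyConstant_eulerChar_of_isFP (f : X ⟶ S) [IsProper f] [LocallyOfFinitePresentation f]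
    {F : X.Modules} [Coh.IsQCoh F] (hfp : CohB1.IsFP F) (hfl : FlatMod.IsFlatOver f F) :
    IsLocallyConstant fun s : S => PerfAux.eulerChar f F s := by
  rw [IsLocallyConstant.iff_exists_open]
  intro y
  obtain ⟨C, hyC, -⟩ := CohExch.exists_chart hfp hfl (V := (⊤ : S.Opens)) (s := y) trivial
  let _ := CohExch.overSections f C.hU
  let n : ℕ := (C.data.R.bound).toNat + 1
  let χ : PrimeSpectrum Γ(S, C.U) → ℤ := fun x =>
    ∑ j ∈ Finset.range (n + 1), (-1 : ℤ) ^ j * (CohIII.dRank C.P (-(j : ℤ)) x : ℤ)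
  have hz : ∀ i : ℤ, i < -C.data.R.bound → IsZero (C.P.X i) := fun i hi => C.data.isZero_P i hi
  have hlc : IsLocallyConstant χ :=
    isLocallyConstant_sum_dRank_free C.P C.finite_free (fun M => C.data.isZero_T_pos 1 one_pos M)
      (-C.data.R.bound) hz (by omega)
  have heq : ∀ (z : S) (hw : z ∈ C.U), PerfAux.eulerChar f F z = χ (C.pt hw) := by
    intro z hw
    have hb : ∀ j : ℕ, PerfAux.betti f F z j = CohIII.dRank C.P (-(j : ℤ)) (C.pt hw) :=
      fun j => (show PerfAux.betti f F z j = CohIII.fiberRank f F j z from rfl).trans (C.fiberRank_eq hfl hw j)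
    unfold PerfAux.eulerChar
    rw [finsum_eq_sum_of_support_subset _ (s := Finset.range (n + 1)) fun j hj => ?_]
    · exact Finset.sum_congr rfl fun j _ => by rw [hb]
    · by_contra hc
      simp only [Finset.coe_range, Set.mem_Iio, not_lt] at hc
      refine hj ?_
      show (-1 : ℤ) ^ j * (PerfAux.betti f F z j : ℤ) = 0
      rw [hb, dRank_eq_zero_of_isZero C.P (fun i => ⟨(C.finite_free i).1, have := (C.finite_free i).2; inferInstance⟩)
        _ _ (hz _ (by omega)) (hz _ (by omega)), Nat.cast_zero, mul_zero]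
  let x := C.pt hyC
  refine ⟨C.hU.fromSpec '' {z | χ z = χ x}, C.hU.fromSpec.isOpenEmbedding.isOpenMap _ (hlc.isOpen_fiber _),
    ⟨x, rfl, C.hU.fromSpec_primeIdealOf _⟩, ?_⟩
  rintro _ ⟨z, hzx, rfl⟩
  have hzV : C.hU.fromSpec z ∈ C.U := C.hU.range_fromSpec.le ⟨z, rfl⟩
  rw [heq _ hzV, heq y hyC, show C.pt hzV = z from
    C.hU.fromSpec.isOpenEmbedding.injective (C.hU.fromSpec_primeIdealOf _)]
  exact hzx

end Groth.Agent.Coherent.CohBC
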