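import Groth.Agent.Coherent.CohBC.EulerFamily
import Groth.Agent.EulerLib.FGABridge
import Groth.Agent.DimLib.BaseChange
import Groth.Agent.Coherent.ProperFinite
import Groth.Prelude.Def_FGA

/-!
# Fibres of base changes: dimensions and Euler characteristics
-/

set_option autoImplicit false
set_option backward.isDefEq.respectTransparency false
set_option linter.style.haveILetI false

universe u

open CategoryTheory CategoryTheory.Limits AlgebraicGeometry TopologicalSpace
open Groth.Agent.Coherent Groth.Agent.EulerLib

namespace Groth.Agent.Coherent.CohBC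

/-- Fibres of a base change have the dimension of the original fibres. -/
theorem topologicalKrullDim_fiber_of_isPullback {X S X' S' : Scheme.{u}} {f : X ⟶ S} {g : S' ⟶ S} {g' : X' ⟶ X}
    {f' : X' ⟶ S'} (h : IsPullback g' f' f g) [LocallyOfFiniteType f] [QuasiCompact f] [QuasiSeparated f] (y' : S') :
    topologicalKrullDim ↥(f'.fiber y') = topologicalKrullDim ↥(f.fiber (g y')) := by
  haveI : Coh.IsQCoh (Coh.structureModule X) := isQCoh_structureModule (X := X)
  obtain ⟨t, hsq, -, -, -, -⟩ := exists_fibre_square h (Coh.structureModule X) y'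
  letI : Algebra (S.residueField (g y')) (S'.residueField y') := (g.residueFieldMap y').hom.toAlgebra
  haveI : LocallyOfFiniteType (f.fiberToSpecResidueField (g y')) :=
    MorphismProperty.pullback_snd (P := @LocallyOfFiniteType) _ _ inferInstance
  have hsq' : IsPullback t (f'.fiberToSpecResidueField y') (f.fiberToSpecResidueField (g y'))
      (Spec.map (CommRingCat.ofHom (algebraMap (S.residueField (g y')) (S'.residueField y')))) := hsq
  let e := hsq'.isoIsPullback _ _ (IsPullback.of_hasPullback _ _)
  exact e.hom.homeomorph.isHomeomorph.topologicalKrullDim_eq.trans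
    (DimLib.topologicalKrullDim_bc (k := S.residueField (g y')) (f.fiberToSpecResidueField (g y'))
      (S'.residueField y'))

variable {X S : Scheme.{u}} (f : X ⟶ S) [IsProper f]

/-- Truncated Euler characteristics on the fibres of `X_T ⟶ T` are the fibre Euler characteristics. -/
theorem eulerCharLE_fibreAt {d : ℕ} (hd : ∀ s : S, topologicalKrullDim ↥(f.fiber s) ≤ d) (T : Over S)
    (L : (PicF.XT f T).Modules) [Coh.IsQCoh L] (t : T.left) :
    FGA.eulerCharLE (T.left.residueField t) (FGA.fibreAt f T t).left (FGA.restrFibre f T t L) d =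
      PerfAux.eulerChar (PicF.XTproj f T) L t := by
  have hsq : IsPullback (pullback.fst f T.hom) (PicF.XTproj f T) f T.hom := IsPullback.of_hasPullback f T.hom
  haveI : IsProper (PicF.XTproj f T) := MorphismProperty.pullback_snd (P := @IsProper) _ _ inferInstance
  letI : ((PicF.XTproj f T).fiber t).Over (Spec (CommRingCat.of (T.left.residueField t))) :=
    ⟨(PicF.XTproj f T).fiberToSpecResidueField t⟩
  haveI : IsProper (((PicF.XTproj f T).fiber t) ↘ Spec (CommRingCat.of (T.left.residueField t))) :=
    MorphismProperty.pullback_snd (P := @IsProper) _ _ inferInstance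
  haveI : Coh.IsQCoh (CohIII.fiberMod (PicF.XTproj f T) L t) := EGA43.InjFibre.isQCoh_pullback _ L
  exact eulerCharLE_eq (T.left.residueField t) (X := (PicF.XTproj f T).fiber t)
    (CohIII.fiberMod (PicF.XTproj f T) L t) inferInstance
    ((topologicalKrullDim_fiber_of_isPullback hsq t).trans_le (hd _))

omit [IsProper f] in
/-- The Euler characteristic at a point through a field-valued point. -/
theorem eulerChar_eq_euler_of_point {Z B : Scheme.{u}} (p : Z ⟶ B) [IsProper p] (M : Z.Modules) [Coh.IsQCoh M]
    {Ω : Type u} [Field Ω] (σ : Spec (CommRingCat.of Ω) ⟶ B) (y : Spec (CommRingCat.of Ω)) :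
    PerfAux.eulerChar p M (σ y) =
      @Curv2.euler Ω _ (pullback p σ) ⟨pullback.snd p σ⟩ ((Scheme.Modules.pullback (pullback.fst p σ)).obj M) := by
  letI : (pullback p σ).Over (Spec (CommRingCat.of Ω)) := ⟨pullback.snd p σ⟩
  haveI : IsProper ((pullback p σ) ↘ Spec (CommRingCat.of Ω)) :=
    MorphismProperty.pullback_snd (P := @IsProper) _ _ inferInstance
  haveI : Coh.IsQCoh ((Scheme.Modules.pullback (pullback.fst p σ)).obj M) := EGA43.InjFibre.isQCoh_pullback _ M
  rw [← eulerChar_pullback (IsPullback.of_hasPullback p σ) M y]
  exact eulerChar_eq_euler Ω ((Scheme.Modules.pullback (pullback.fst p σ)).obj M) y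

end Groth.Agent.Coherent.CohBC
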