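import Groth.Agent.Coherent.CohBC.SectionsBC
import Groth.Agent.Coherent.CohBC.Relative
import Groth.Agent.RelVALib.UPFunctor

/-!
# Sections of a fibre without `H^1` extend to a neighbourhood
-/

set_option autoImplicit false
set_option backward.isDefEq.respectTransparency false

universe u

open CategoryTheory CategoryTheory.Limits AlgebraicGeometry Opposite TopologicalSpace TensorProduct
open HomologicalComplex Function
open Groth.Agent.Coherent Groth.Agent.PicLib Groth.Agent.FlatCxLib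

namespace Groth.Agent.Coherent.CohBC

variable {A : Type u} [CommRing A]

section Algebra

variable {K : Type u} [CommRing K] [IsDomain K]

/-- A cocycle of `C ⊗ K` times a scalar comes from a cocycle of `C`. -/
theorem exists_smul_mem_cocycles [Algebra A K] (C : CochainComplex (ModuleCat.{u} A) ℕ)
    (hC : Module.Flat A (C.X 1)) (hT : (CohIII.TFun C 0).PreservesEpimorphisms)
    (hfr : ∀ k : K, ∃ s a : A, algebraMap A K s ≠ 0 ∧ algebraMap A K s * k = algebraMap A K a)
    (y : C.X 0 ⊗[A] K) (hy : (C.d 0 1).hom.rTensor K y = 0) :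
    ∃ s : A, algebraMap A K s ≠ 0 ∧ ∃ x : C.X 0, (C.d 0 1).hom x = 0 ∧ x ⊗ₜ[A] (1 : K) = s • y := by
  classical
  have hfin : ∀ z : C.X 0 ⊗[A] K,
      ∃ s : A, algebraMap A K s ≠ 0 ∧ ∃ x : C.X 0, x ⊗ₜ[A] (1 : K) = s • z := by
    intro z
    induction z using TensorProduct.induction_on with
    | zero => exact ⟨1, by simp, 0, by simp⟩
    | tmul c k =>
      obtain ⟨s, a, hs, ha⟩ := hfr k
      refine ⟨s, hs, a • c, ?_⟩
      rw [TensorProduct.smul_tmul, ← TensorProduct.tmul_smul, Algebra.smul_def, Algebra.smul_def,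
        mul_one, ha]
    | add u v hu hv =>
      obtain ⟨s, hs, x, hx⟩ := hu
      obtain ⟨t, ht, x', hx'⟩ := hv
      refine ⟨s * t, by rw [map_mul]; exact mul_ne_zero hs ht, t • x + s • x', ?_⟩
      rw [TensorProduct.add_tmul, ← TensorProduct.smul_tmul', ← TensorProduct.smul_tmul', hx, hx',
        smul_add, smul_smul, smul_smul, mul_comm t s]
  obtain ⟨s, hs, x₁, hx₁⟩ := hfin y
  let I : Ideal A := RingHom.ker (algebraMap A K)
  let j : (A ⧸ I) →ₗ[A] K := (Ideal.Quotient.liftₐ I (Algebra.ofId A K) fun a ha => ha).toLinearMap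
  have hj : Injective j := by
    intro a b h
    obtain ⟨a, rfl⟩ := Ideal.Quotient.mk_surjective a
    obtain ⟨b, rfl⟩ := Ideal.Quotient.mk_surjective b
    exact Ideal.Quotient.eq.2 (show algebraMap A K (a - b) = 0 by
      rw [map_sub]; exact sub_eq_zero.2 h)
  let g : ModuleCat.of A A ⟶ ModuleCat.of A (A ⧸ I) := ModuleCat.ofHom (Algebra.linearMap A _)
  have : Epi g := (ModuleCat.epi_iff_surjective g).2 Ideal.Quotient.mk_surjective
  have hsurj : Surjective ((CohIII.TFun C 0).map g).hom :=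
    (ModuleCat.epi_iff_surjective _).1 inferInstance
  have := hC
  have hinj : Injective (j.lTensor (C.X 1)) := Module.Flat.lTensor_preserves_injective_linearMap j hj
  have h1 : (C.d 0 1).hom.rTensor (A ⧸ I) (x₁ ⊗ₜ[A] (1 : A ⧸ I)) = 0 := by
    refine hinj ?_
    rw [LinearMap.rTensor_tmul, LinearMap.lTensor_tmul, map_zero]
    have h2 := congrArg ((C.d 0 1).hom.rTensor K) hx₁
    rw [LinearMap.rTensor_tmul, map_smul, hy, smul_zero] at h2
    rw [show j 1 = 1 from map_one (Ideal.Quotient.liftₐ I (Algebra.ofId A K) fun a ha => ha)]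
    exact h2
  obtain ⟨x, hx, hx'⟩ := (surjective_TFun_zero_iff C g).1 hsurj _ h1
  obtain ⟨x₀, rfl⟩ := (TensorProduct.rid A _).symm.surjective x
  rw [TensorProduct.rid_symm_apply, LinearMap.rTensor_tmul] at hx
  refine ⟨s, hs, x₀, by simpa using congrArg (TensorProduct.rid A _) hx, ?_⟩
  have h3 := congrArg (j.lTensor (C.X 0)) hx'
  rw [TensorProduct.rid_symm_apply, LinearMap.lTensor_tmul, LinearMap.lTensor_tmul,
    LinearMap.lTensor_tmul] at h3
  rw [← hx₁]
  have hone : ∀ a : A, j (algebraMap A (A ⧸ I) a) = algebraMap A K a := fun a => rfl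
  rw [show g.hom (1 : A) = algebraMap A (A ⧸ I) 1 from rfl, hone] at h3
  rw [show j 1 = algebraMap A K 1 from hone 1, map_one] at h3
  exact h3

end Algebra

section Geometry

variable {X : Scheme.{u}} [X.Over (Spec (CommRingCat.of A))] {F : X.Modules}

theorem PerfData.preservesEpi_TFun_zero [IsNoetherianRing A] (D : PerfData A X F)
    (h : ∀ x : PrimeSpectrum A, CohIII.dRank D.P (-((1 : ℕ) : ℤ)) x = 0) :
    (CohIII.TFun (cxA A D.W F) 0).PreservesEpimorphisms := by
  rw [Functor.PreservesEpimorphisms.iso_iff (D.tIso 0)]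
  refine (D.preservesEpi_iff 0).1 ((D.preservesEpi_iff_preservesMono_succ 0).2 ((D.preservesMono_iff 1).2 ?_))
  exact preservesMono_of_isZero (P := D.P) _ fun M => isZero_T_of_dRank D.P D.finite_flat_P _ h M

variable {K : Type u} [CommRing K] [IsDomain K] {X' : Scheme.{u}} [X'.Over (Spec (CommRingCat.of K))]
  (g : X' ⟶ X)

/-- A section of the base change to a residue field, times a scalar, is a global section. -/
theorem exists_pullSec_eq_smul (D : PerfData A X F)
    (hfl : FlatMod.IsFlatOver (X ↘ Spec (CommRingCat.of A)) F)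
    (hT : (CohIII.TFun (cxA A D.W F) 0).PreservesEpimorphisms) (φ : A →+* K)
    (hfr : ∀ k : K, ∃ s a : A, φ s ≠ 0 ∧ φ s * k = φ a)
    (h : IsPullback g (X' ↘ Spec (CommRingCat.of K)) (X ↘ Spec (CommRingCat.of A))
      (Spec.map (CommRingCat.ofHom φ))) (σ : Γ((Scheme.Modules.pullback g).obj F, g ⁻¹ᵁ ⊤)) :
    ∃ (s : A) (b : Γ(F, ⊤)), φ s ≠ 0 ∧ pullSec g b = φ s • σ := by
  classical
  let _ : Algebra A K := φ.toAlgebra
  have := D.finite
  have := D.isQCoh
  let F' := (Scheme.Modules.pullback g).obj F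
  let W' := fun i => g ⁻¹ᵁ D.W i
  let Φ := cochainBC φ g h D.W F 0
  have hΦ : Bijective Φ := bijective_cochainBC φ g h D.W D.hW F 0
  have hΦ1 := (bijective_cochainBC φ g h D.W D.hW F 1).1
  let c0 := TensorProduct.comm A (∀ a : Fin 1 → D.ι, Γ(F, cinter D.W a)) K
  have hcov' : ⨆ i, W' i = ⊤ := by
    rw [← Scheme.Hom.preimage_iSup, D.hcov, Scheme.Hom.preimage_top]
  obtain ⟨y', hy'⟩ := hΦ.2 fun a => resM F' le_top σ
  have e := fun z => ConcreteCategory.congr_hom ((cxBCIso φ g h D.W D.hW F).hom.comm 0 1) z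
  have hy0 : ((cxA A D.W F).d 0 1).hom.rTensor K (c0.symm y') = 0 := by
    refine (TensorProduct.comm A _ K).injective (hΦ1 ?_)
    rw [map_zero, map_zero]
    have e' := e y'
    rw [show ((cxA K W' F').d 0 1) = ModuleCat.ofHom (cxD K W' F' 0) from cxA_d K W' F' 0] at e'
    have h0 : cxD K W' F' 0 (Φ y') = 0 := by rw [hy']; exact cxD_restrict W' F' σ
    refine Eq.trans (congrArg (cochainBC φ g h D.W F 1) ?_) (e'.symm.trans h0)
    show _ = LinearMap.baseChange K ((cxA A D.W F).d 0 1).hom y'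
    clear e' h0 hy'
    induction y' using TensorProduct.induction_on with
    | zero => simp
    | add u v hu hv => simp only [map_add, hu, hv]
    | tmul x b => rfl
  obtain ⟨s, hs, x₀, hx0, hx⟩ := exists_smul_mem_cocycles (cxA A D.W F)
    (flat_cxA D.W F hfl D.hW 1) hT hfr _ hy0
  have hd : cxD A D.W F 0 x₀ = 0 :=
    (LinearMap.congr_fun (congrArg ModuleCat.Hom.hom (cxA_d A D.W F 0)) x₀).symm.trans hx0
  obtain ⟨b, hb⟩ := exists_glue_cocycle D.W F D.hcov x₀ hd
  refine ⟨s, b, hs, eq_of_restrict W' F' hcov' _ _ fun a => ?_⟩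
  have hglob : Φ ((1 : K) ⊗ₜ[A] (fun a => resM F le_top b)) a =
      resM F' (le_top (a := cinter W' a)) (pullSec g b) := by
    refine Eq.trans (secBCTo_tmul φ g h D.W F a 1 (resM F le_top b)) ?_
    rw [one_smul, ← resM_pullSec g (le_top (a := cinter D.W a)) b, resM_resM]
    rfl
  refine hglob.symm.trans ?_
  have hxy : (1 : K) ⊗ₜ[A] (fun a => resM F le_top b) = φ s • y' := by
    rw [funext hb]
    refine (congrArg c0 hx).trans ?_
    rw [map_smul, LinearEquiv.apply_symm_apply]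
    exact (algebraMap_smul K s y').symm
  rw [hxy, map_smul, Pi.smul_apply, hy']
  exact (resM_smulA F' le_top (φ s) σ).symm

end Geometry

section Relative

variable {X S : Scheme.{u}} (f : X ⟶ S)

theorem exists_pullSec_ι {U : X.Opens} (F : X.Modules)
    (b : Γ((Scheme.Modules.pullback U.ι).obj F, U.ι ⁻¹ᵁ U)) :
    ∃ m : Γ(F, U), pullSec U.ι m = b := by
  let e := (Scheme.Modules.restrictFunctorIsoPullback U.ι).app F
  have hunit : ∀ m : Γ(F, U), e.hom.app (U.ι ⁻¹ᵁ U) (resM F (U.ι.image_preimage_le U) m) = pullSec U.ι m :=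
    fun m => ConcreteCategory.congr_hom (congrArg (fun ψ => Scheme.Modules.Hom.app ψ U)
      (Adjunction.unit_leftAdjointUniq_hom_app (Scheme.Modules.restrictAdjunction U.ι)
        (Scheme.Modules.pullbackPushforwardAdjunction U.ι) F)) m
  have hle : U ≤ U.ι ''ᵁ (U.ι ⁻¹ᵁ U) := by
    rw [U.ι.image_preimage_eq_opensRange_inf, Scheme.Opens.opensRange_ι, inf_idem]
  refine ⟨resM F hle (e.inv.app (U.ι ⁻¹ᵁ U) b), ?_⟩
  rw [← hunit, resM_resM, resM_self]
  exact ConcreteCategory.congr_hom (congrArg (fun ψ => Scheme.Modules.Hom.app ψ (U.ι ⁻¹ᵁ U))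
    e.inv_hom_id) b

/-- A scalar of the residue field, restricted, is the pullback of the function. -/
theorem toGlobal_map_evaluation {Z : Scheme.{u}} {V D : S.Opens} (hV : IsAffineOpen V) {K : CommRingCat.{u}}
    (p : Z ⟶ Spec (CommRingCat.of K)) (φ : Γ(S, V) ⟶ K) (g : Z ⟶ S)
    (hg : p ≫ Spec.map φ ≫ hV.fromSpec = g) (hD : D ≤ V) (W : Z.Opens) (hW : W ≤ g ⁻¹ᵁ D) (a : Γ(S, V)) :
    Z.presheaf.map (homOfLE (le_top (a := W))).op (Coh.toGlobal p (φ a)) =
      g.appLE D W hW (S.presheaf.map (homOfLE hD).op a) := by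
  subst hg
  have key : φ ≫ (Scheme.ΓSpecIso K).inv ≫ p.appLE ⊤ W le_top =
      S.presheaf.map (homOfLE hD).op ≫ (p ≫ Spec.map φ ≫ hV.fromSpec).appLE D W hW := by
    rw [Scheme.Hom.map_appLE, Scheme.Hom.comp_appLE, Scheme.Hom.comp_app, hV.fromSpec_app_self]
    simp only [Category.assoc, Scheme.Hom.app_eq_appLE, Scheme.Hom.map_appLE]
    rw [Scheme.ΓSpecIso_inv_naturality_assoc, Scheme.Hom.appTop, Scheme.Hom.app_eq_appLE]
    exact congrArg (_ ≫ ·) ((Scheme.Hom.appLE_comp_appLE p (Spec.map φ) ⊤ _ W _ _).trans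
      (Scheme.Hom.appLE_comp_appLE p (Spec.map φ) ⊤ _ W _ _).symm)
  exact ConcreteCategory.congr_hom key a

variable [IsProper f] [IsLocallyNoetherian S] [HasInjectiveResolutions X.Modules] (F : X.Modules)

/-- A section of a fibre without `H^1` extends to the inverse image of a neighbourhood. -/
theorem exists_section_extending (hF : Coh.IsCoh F) (hfl : FlatMod.IsFlatOver f F) (y : S)
    (h1 : CohIII.fiberRank f F 1 y = 0) (σ : Γ(CohIII.fiberMod f F y, ⊤)) :
    ∃ (U : S.Opens) (_ : y ∈ U) (t : Γ(F, f ⁻¹ᵁ U)),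
      pullSec (f.fiberι y) t = resM (CohIII.fiberMod f F y) le_top σ := by
  obtain ⟨V₁, hV, hyV, hVU⟩ := Opens.isBasis_iff_nbhd.mp S.isBasis_affineOpens
    (show y ∈ (⟨_, isOpen_fiberRank_eq_zero f F hF hfl 1⟩ : S.Opens) from h1)
  let V : S.Opens := V₁
  replace hV : IsAffineOpen V := hV
  have : IsNoetherianRing Γ(S, V) := IsLocallyNoetherian.component_noetherian ⟨V, hV⟩
  let _ : (f ⁻¹ᵁ V).toScheme.Over (Spec (CommRingCat.of Γ(S, V))) := ⟨toSpecSections f hV⟩
  have hsq := isPullback_toSpecSections f hV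
  have : IsProper ((f ⁻¹ᵁ V).toScheme ↘ Spec (CommRingCat.of Γ(S, V))) :=
    MorphismProperty.IsStableUnderBaseChange.of_isPullback (P := @IsProper) hsq inferInstance
  have : Coh.IsQCoh F := hF.1
  let F' := (Scheme.Modules.pullback (f ⁻¹ᵁ V).ι).obj F
  have hc : Coh.IsCoh F' :=
    ⟨EGA43.InjFibre.isQCoh_pullback _ _, isFT_pullback_qcoh _ hF.1 hF.2⟩
  have hfl' : FlatMod.IsFlatOver ((f ⁻¹ᵁ V).toScheme ↘ Spec (CommRingCat.of Γ(S, V))) F' :=
    fun x => Desc19b.isFlatOverAt_baseChange f (toSpecSections f hV) (f ⁻¹ᵁ V).ι hV.fromSpec hsq F x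
      (hfl _)
  obtain ⟨D⟩ := nonempty_perfData F' hc hfl'
  have hT := D.preservesEpi_TFun_zero fun x => by
    rw [← D.fiberRank_eq hfl' x 1]
    refine (fiberRank_pullback hsq F 1 x).trans (hVU ?_)
    exact hV.range_fromSpec.le ⟨x, rfl⟩
  -- the fibre as a fibre of the restriction
  let φ : Γ(S, V) ⟶ S.residueField y := S.evaluation V y hyV
  have hφ : Spec.map φ ≫ hV.fromSpec = S.fromSpecResidueField y := by
    show Spec.map (S.presheaf.germ V y hyV ≫ S.residue y) ≫ hV.fromSpec = _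
    rw [Spec.map_comp, Category.assoc]
    show Spec.map (S.residue y) ≫ hV.fromSpecStalk hyV = _
    rw [hV.fromSpecStalk_eq_fromSpecStalk]
    rfl
  have hrange : Set.range (f.fiberι y) ⊆ (f ⁻¹ᵁ V : X.Opens) := by
    rintro _ ⟨z, rfl⟩
    show f.base ((f.fiberι y).base z) ∈ V
    rw [show f.base ((f.fiberι y).base z) = y from
      (f.range_fiberι y).le ⟨z, rfl⟩]
    exact hyV
  let j : f.fiber y ⟶ (f ⁻¹ᵁ V).toScheme :=
    IsOpenImmersion.lift (f ⁻¹ᵁ V).ι (f.fiberι y) (by rwa [Scheme.Opens.range_ι])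
  have hj : j ≫ (f ⁻¹ᵁ V).ι = f.fiberι y := IsOpenImmersion.lift_fac _ _ _
  let _ : (f.fiber y).Over (Spec (CommRingCat.of (S.residueField y))) := CohIII.fiberOver f y
  have hsq' : IsPullback j ((f.fiber y) ↘ Spec (CommRingCat.of (S.residueField y)))
      ((f ⁻¹ᵁ V).toScheme ↘ Spec (CommRingCat.of Γ(S, V))) (Spec.map (CommRingCat.ofHom φ.hom)) := by
    refine IsPullback.of_right (h₁₂ := (f ⁻¹ᵁ V).ι) ?_ ?_ hsq
    · rw [hj]
      show IsPullback (f.fiberι y) _ f (Spec.map φ ≫ hV.fromSpec)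
      rw [hφ]
      exact IsPullback.of_hasPullback _ _
    · refine (cancel_mono hV.fromSpec).1 ?_
      rw [Category.assoc, Category.assoc]
      erw [← hsq.w, reassoc_of% hj, hφ]
      exact pullback.condition
  obtain ⟨c, hc'⟩ := RelVALib.exists_compIso j (f ⁻¹ᵁ V).ι (f.fiberι y) hj F
  have hfr : ∀ k : S.residueField y, ∃ s a : Γ(S, V), φ s ≠ 0 ∧ φ s * k = φ a := by
    intro k
    obtain ⟨z, rfl⟩ := IsLocalRing.residue_surjective (R := S.presheaf.stalk y) k
    let _ := (S.presheaf.germ V y hyV).hom.toAlgebra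
    have := hV.isLocalization_stalk ⟨y, hyV⟩
    obtain ⟨⟨a, s⟩, hz⟩ := IsLocalization.surj (hV.primeIdealOf ⟨y, hyV⟩).asIdeal.primeCompl z
    refine ⟨s.1, a, ?_, ?_⟩
    · have hu : IsUnit (S.presheaf.germ V y hyV s.1) :=
        IsLocalization.map_units (S.presheaf.stalk y) s
      exact (hu.map (S.residue y).hom).ne_zero
    · show (S.residue y) (S.presheaf.germ V y hyV s.1) * (S.residue y) z = _
      rw [← map_mul, mul_comm]
      exact congrArg (S.residue y) hz
  obtain ⟨s, b, hs, hb⟩ := exists_pullSec_eq_smul j D hfl' hT φ.hom hfr hsq'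
    (resM _ le_top (c.hom.app ⊤ σ))
  obtain ⟨m, hm⟩ := exists_pullSec_ι F
    (resM F' (le_top (a := (f ⁻¹ᵁ V).ι ⁻¹ᵁ (f ⁻¹ᵁ V))) b)
  have hmem : y ∈ S.basicOpen s := (S.evaluation_ne_zero_iff_mem_basicOpen y hyV s).1 hs
  have hle : S.basicOpen s ≤ V := S.basicOpen_le s
  have hu : IsUnit (f.app (S.basicOpen s) (S.presheaf.map (homOfLE hle).op s)) :=
    (S.toRingedSpace.isUnit_res_basicOpen s).map _
  refine ⟨S.basicOpen s, hmem, (↑hu.unit⁻¹ : Γ(X, f ⁻¹ᵁ S.basicOpen s)) • resM F (f.preimage_mono hle) m, ?_⟩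
  let W : (f.fiber y).Opens := f.fiberι y ⁻¹ᵁ (f ⁻¹ᵁ S.basicOpen s)
  have hunit : IsUnit ((f.fiberι y).app _ (f.app (S.basicOpen s) (S.presheaf.map (homOfLE hle).op s))) :=
    hu.map _
  refine hunit.smul_left_cancel.1 ?_
  rw [← pullSec_smul, smul_smul, IsUnit.mul_val_inv, one_smul, ← resM_pullSec]
  -- compare through the composite
  have hpre : f.fiberι y ⁻¹ᵁ (f ⁻¹ᵁ V) ≤ j ⁻¹ᵁ ((f ⁻¹ᵁ V).ι ⁻¹ᵁ (f ⁻¹ᵁ V)) := by
    intro z hz
    show (j ≫ (f ⁻¹ᵁ V).ι).base z ∈ f ⁻¹ᵁ V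
    rw [hj]
    exact hz
  refine (app_injective_of_mono c.hom W) ?_
  rw [Scheme.Modules.Hom.app_smul, app_resM, app_resM, hc' _ m hpre, hm, ← resM_pullSec, hb]
  simp only [resM_smulA, resM_resM]
  erw [resM_resM]
  refine congrArg (fun r : Γ(f.fiber y, W) => r •
    resM ((Scheme.Modules.pullback j).obj ((Scheme.Modules.pullback (f ⁻¹ᵁ V).ι).obj F))
      (le_top : W ≤ ⊤) (c.hom.app ⊤ σ)) ?_
  have hg : ((f.fiber y) ↘ Spec (CommRingCat.of (S.residueField y))) ≫ Spec.map φ ≫ hV.fromSpec =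
      f.fiberι y ≫ f := by
    rw [hφ]
    exact pullback.condition.symm
  refine (toGlobal_map_evaluation hV _ φ _ hg hle W le_rfl s).trans ?_
  show (f.fiberι y ≫ f).appLE (S.basicOpen s) ((f.fiberι y ≫ f) ⁻¹ᵁ S.basicOpen s) le_rfl _ = _
  rw [Scheme.Hom.appLE_eq_app, Scheme.Hom.comp_app]
  rfl

end Relative

end Groth.Agent.Coherent.CohBC
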