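import Groth.Agent.FlatCx12.Tensor
import Groth.Agent.FlatCx12.Artin
import Groth.Agent.S4490
import Mathlib.RingTheory.Filtration
import Mathlib.RingTheory.Length

/-!
# Length criterion for cohomological flatness over a Noetherian local ring
-/

set_option autoImplicit false
set_option backward.isDefEq.respectTransparency false

universe u

open CategoryTheory TensorProduct Function IsLocalRing Groth.Agent.FlatCxLib Groth.Agent.FlatCx12

namespace Groth.Agent.Coherent.CohBC

variable {A : Type u} [CommRing A] [IsNoetherianRing A] [IsLocalRing A]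

local notation "𝔪" => IsLocalRing.maximalIdeal A

theorem isFiniteLength_of_smul_zero {M : Type u} [AddCommGroup M] [Module A M] [Module.Finite A M]
    (n : ℕ) (h : ∀ a ∈ 𝔪 ^ n, ∀ x : M, a • x = 0) : IsFiniteLength A M := by
  induction n generalizing M with
  | zero =>
    have : Subsingleton M := subsingleton_of_forall_eq 0 fun x => by
      rw [← one_smul A x, h 1 (by rw [pow_zero, Ideal.one_eq_top]; trivial) x]
    exact IsFiniteLength.of_subsingleton
  | succ n ih =>
    let N : Submodule A M := 𝔪 • ⊤
    have hN : IsFiniteLength A N := ih fun a ha x => Subtype.ext <| by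
      show a • x.1 = 0
      refine Submodule.smul_induction_on x.2 (fun b hb y _ => ?_) fun y z hy hz => by rw [smul_add, hy, hz, add_zero]
      rw [← mul_smul]
      exact h _ (by rw [pow_succ]; exact Ideal.mul_mem_mul ha hb) y
    have hQ : IsFiniteLength A (M ⧸ N) := by
      have : IsArtinian A (M ⧸ N) := by
        let _ : Field (A ⧸ 𝔪) := Ideal.Quotient.field 𝔪
        have : Module.Finite (A ⧸ 𝔪) (M ⧸ N) := Module.Finite.of_restrictScalars_finite A (A ⧸ 𝔪) _
        have : IsArtinian (A ⧸ 𝔪) (M ⧸ N) := isArtinian_of_fg_of_artinian'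
        exact isArtinian_of_surjective_algebraMap (R := A ⧸ 𝔪) (S := A) Ideal.Quotient.mk_surjective
      exact isFiniteLength_iff_isNoetherian_isArtinian.2 ⟨inferInstance, this⟩
    rw [isFiniteLength_iff_isNoetherian_isArtinian] at hN hQ ⊢
    have := hN.2
    have := hQ.2
    exact ⟨inferInstance, isArtinian_of_range_eq_ker N.subtype N.mkQ (by simp)⟩

theorem isFiniteLength_quotient_pow (n : ℕ) : IsFiniteLength A (A ⧸ 𝔪 ^ n) :=
  isFiniteLength_of_smul_zero n fun a ha x => by
    rw [Algebra.smul_def, Ideal.Quotient.algebraMap_eq, Ideal.Quotient.eq_zero_iff_mem.2 ha, zero_mul]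

omit [IsNoetherianRing A] [IsLocalRing A] in
theorem injective_of_length_eq {M N : Type u} [AddCommGroup M] [Module A M] [AddCommGroup N]
    [Module A N] (f : M →ₗ[A] N) (hs : Surjective f) (hne : Module.length A M ≠ ⊤)
    (hl : Module.length A M = Module.length A N) : Injective f := by
  have ex := Module.length_eq_add_of_exact (LinearMap.ker f).subtype f Subtype.val_injective hs
    f.exact_subtype_ker_map
  rw [← hl] at ex
  have h0 : Module.length A (LinearMap.ker f) = 0 := by
    lift Module.length A M to ℕ using hne with a ha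
    have hk : Module.length A (LinearMap.ker f) ≠ ⊤ := fun ht => by simp [ht] at ex
    lift Module.length A (LinearMap.ker f) to ℕ using hk with b hb
    norm_cast at ex ⊢
    omega
  rw [Module.length_eq_zero_iff, Submodule.subsingleton_iff_eq_bot, LinearMap.ker_eq_bot] at h0
  exact h0

variable (P : ChainComplex (ModuleCat.{u} A) ℤ)
  (hP : ∀ i, Module.Finite A (P.X i) ∧ Module.Flat A (P.X i)) (p : ℤ)
include hP

omit [IsNoetherianRing A] [IsLocalRing A] in
theorem length_T_ne_top {M : Type u} [AddCommGroup M] [Module A M] (hM : IsFiniteLength A M) :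
    Module.length A ((CohIII.TFun P p).obj (ModuleCat.of A M)) ≠ ⊤ := by
  obtain ⟨hN, hA⟩ := isFiniteLength_iff_isNoetherian_isArtinian.1 hM
  have := (hP p).1
  obtain ⟨r, π, hπ⟩ := Module.Finite.exists_fin' A (P.X p)
  let K := CohIII.tensorObj P (ModuleCat.of A M)
  let e : (Fin r → A) ⊗[A] M ≃ₗ[A] (Fin r → M) :=
    (TensorProduct.comm A _ M).trans (TensorProduct.piScalarRight A A M (Fin r))
  let ψ : (Fin r → M) →ₗ[A] K.X p := π.rTensor M ∘ₗ e.symm.toLinearMap
  have hψ : Surjective ψ := (LinearMap.rTensor_surjective M hπ).comp e.symm.surjective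
  have h1 : IsNoetherian A (K.X p) := isNoetherian_of_surjective ψ (LinearMap.range_eq_top.2 hψ)
  have h2 : IsArtinian A (K.X p) := isArtinian_of_surjective (Fin r → M) ψ hψ
  have := cls_surjective K p (p - 1) (by omega)
  refine ne_top_of_le_ne_top ?_ (Module.length_le_of_surjective _ this)
  exact Module.length_ne_top

omit [IsNoetherianRing A] in
theorem length_T_le {M : Type u} [AddCommGroup M] [Module A M] (hM : IsFiniteLength A M) :
    Module.length A ((CohIII.TFun P p).obj (ModuleCat.of A M)) ≤
      Module.length A ((CohIII.TFun P p).obj (ModuleCat.of A (A ⧸ 𝔪))) * Module.length A M := by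
  induction hM with
  | @of_subsingleton M _ _ _ =>
    have : Subsingleton (CohIII.T P p (ModuleCat.of A M)) := by
      rw [← ModuleCat.isZero_iff_subsingleton]
      exact (isZero_T_iff (p + 1) p (p - 1) rfl (by omega) _).mpr fun x _ => ⟨0, Subsingleton.elim _ _⟩
    exact (Module.length_eq_zero (R := A) (M := CohIII.T P p (ModuleCat.of A M))).le.trans bot_le
  | @of_simple_quotient M _ _ N hs hN ih =>
    obtain ⟨m, hm, ⟨e⟩⟩ := isSimpleModule_iff_quot_maximal.mp hs
    obtain rfl : m = 𝔪 := IsLocalRing.eq_maximalIdeal hm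
    have hex : Exact ((CohIII.TFun P p).map (ModuleCat.ofHom N.subtype)).hom
        ((CohIII.TFun P p).map (ModuleCat.ofHom N.mkQ)).hom :=
      TFun_exact p (fun i => (hP i).2) _ _ Subtype.val_injective (Submodule.mkQ_surjective N)
        (LinearMap.exact_subtype_mkQ N)
    rw [Module.length_eq_add_of_exact N.subtype N.mkQ Subtype.val_injective (Submodule.mkQ_surjective N)
      (LinearMap.exact_subtype_mkQ N), mul_add, Module.length_eq_one (R := A) (M := M ⧸ N), mul_one]
    refine (length_le_of_exact hex).trans (add_le_add ih (le_of_eq ?_))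
    exact ((CohIII.TFun P p).mapIso e.toModuleIso).toLinearEquiv.length_eq

/-- Length equality forces surjectivity. -/
theorem surjective_of_length (n : ℕ)
    (he : Module.length A ((CohIII.TFun P p).obj (ModuleCat.of A (A ⧸ 𝔪 ^ (n + 1)))) =
      Module.length A ((CohIII.TFun P p).obj (ModuleCat.of A (A ⧸ 𝔪))) *
        Module.length A (A ⧸ 𝔪 ^ (n + 1))) :
    Surjective ((CohIII.TFun P p).map (ModuleCat.ofHom
      (Ideal.Quotient.factorₐ A (Ideal.pow_le_self (I := 𝔪) (Nat.succ_ne_zero n))).toLinearMap :
        ModuleCat.of A (A ⧸ 𝔪 ^ (n + 1)) ⟶ ModuleCat.of A (A ⧸ 𝔪))).hom := by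
  let π : (A ⧸ 𝔪 ^ (n + 1)) →ₗ[A] A ⧸ 𝔪 :=
    (Ideal.Quotient.factorₐ A (Ideal.pow_le_self (I := 𝔪) (Nat.succ_ne_zero n))).toLinearMap
  have hπ : Surjective π :=
    Ideal.Quotient.factor_surjective (Ideal.pow_le_self (I := 𝔪) (Nat.succ_ne_zero n))
  have hQ := isFiniteLength_quotient_pow (A := A) (n + 1)
  have hJ : IsFiniteLength A (LinearMap.ker π) := Module.length_ne_top_iff.1
    (ne_top_of_le_ne_top (Module.length_ne_top_iff.2 hQ)
      (Module.length_le_of_injective (LinearMap.ker π).subtype Subtype.val_injective))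
  have hs : IsSimpleModule A (A ⧸ 𝔪) := isSimpleModule_iff_isCoatom.mpr (Ideal.IsMaximal.out)
  have hex : Exact ((CohIII.TFun P p).map (ModuleCat.ofHom (LinearMap.ker π).subtype)).hom
      ((CohIII.TFun P p).map (ModuleCat.ofHom π)).hom :=
    TFun_exact p (fun i => (hP i).2) _ _ Subtype.val_injective hπ (LinearMap.exact_subtype_ker_map π)
  have h1 := length_T_ne_top P hP p hJ
  have h3 := length_T_ne_top P hP p (Module.length_ne_top_iff.1 (by rw [Module.length_eq_one]; simp) :
    IsFiniteLength A (A ⧸ 𝔪))
  refine ((length_eq_iff_of_exact hex h1 h3).1 (le_antisymm (length_le_of_exact hex) ?_)).2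
  rw [he, Module.length_eq_add_of_exact (LinearMap.ker π).subtype π Subtype.val_injective hπ
    (LinearMap.exact_subtype_ker_map π), mul_add, Module.length_eq_one (R := A) (M := A ⧸ 𝔪), mul_one]
  exact add_le_add (length_T_le P hP p hJ) le_rfl

theorem both_iff_length :
    ((CohIII.TFun P p).PreservesMonomorphisms ∧ (CohIII.TFun P p).PreservesEpimorphisms) ↔
      ∃ n₀ : ℕ, ∀ n : ℕ, n₀ ≤ n →
        Module.length A ((CohIII.TFun P p).obj (ModuleCat.of A (A ⧸ 𝔪 ^ (n + 1)))) =
          Module.length A ((CohIII.TFun P p).obj (ModuleCat.of A (A ⧸ 𝔪))) *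
            Module.length A (A ⧸ 𝔪 ^ (n + 1)) := by
  have := (hP (p - 1)).2
  have := (hP p).1
  let H := homologyQuot (P.d (p + 1) p).hom (P.d p (p - 1)).hom
  have hs : IsSimpleModule A (A ⧸ 𝔪) := isSimpleModule_iff_isCoatom.mpr (Ideal.IsMaximal.out)
  constructor
  · rintro ⟨hm, he⟩
    have := (preservesEpi_iff_flat p (p - 1) (fun i => (hP i).2) (by omega)).mp he
    have : Module.Flat A H := (flat_coker_iff_flat_homology (d_comp_d_hom P (p + 1) p (p - 1))).mp
      ((preservesMono_iff_flat (p + 1) p (fun i => (hP i).2) rfl).mp hm)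
    have : Module.Finite A H := inferInstance
    have : Module.Free A H := Module.free_of_flat_of_isLocalRing
    let b := Module.Free.chooseBasis A H
    have key : ∀ (M : Type u) [AddCommGroup M] [Module A M],
        Module.length A ((CohIII.TFun P p).obj (ModuleCat.of A M)) =
          (Fintype.card (Module.Free.ChooseBasisIndex A H) : ℕ∞) * Module.length A M := fun M _ _ => by
      classical
      rw [← (tensorEquiv (p + 1) p (p - 1) (fun i => (hP i).2) (ModuleCat.of A M) rfl (by omega)).length_eq,
        ((TensorProduct.congr b.equivFun (LinearEquiv.refl A M)).trans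
          ((TensorProduct.comm A _ M).trans (TensorProduct.piScalarRight A A M _))).length_eq,
        Module.length_pi, ENat.card_eq_coe_fintype_card]
    exact ⟨0, fun n _ => by rw [key, key, Module.length_eq_one (R := A) (M := A ⧸ 𝔪), mul_one]⟩
  · rintro ⟨n₀, hn⟩
    have hepi : (CohIII.TFun P p).PreservesEpimorphisms :=
      (Groth.Agent.S4490.result P hP p).2.2 ⟨n₀, fun n hnn => surjective_of_length P hP p n (hn n hnn)⟩
    refine ⟨?_, hepi⟩
    have := (preservesEpi_iff_flat p (p - 1) (fun i => (hP i).2) (by omega)).mp hepi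
    rw [preservesMono_iff_flat (p + 1) p (fun i => (hP i).2) rfl,
      flat_coker_iff_flat_homology (d_comp_d_hom P (p + 1) p (p - 1))]
    show Module.Flat A H
    have : Module.Finite A H := inferInstance
    let e : ∀ M : ModuleCat.{u} A, H ⊗[A] M ≃ₗ[A] (CohIII.TFun P p).obj M := fun M =>
      tensorEquiv (p + 1) p (p - 1) (fun i => (hP i).2) M rfl (by omega)
    let k := IsLocalRing.ResidueField A
    let w := Module.Free.chooseBasis k (k ⊗[A] H)
    obtain ⟨v, eq⟩ := (TensorProduct.mk_surjective A H k IsLocalRing.residue_surjective).comp_left w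
    have hspan : Submodule.span A (Set.range v) = ⊤ :=
      IsLocalRing.span_eq_top_of_tmul_eq_basis _ w (congr_fun eq)
    let ι := Module.Free.ChooseBasisIndex k (k ⊗[A] H)
    let φ : (ι → A) →ₗ[A] H := Fintype.linearCombination A v
    have hφ : Surjective φ := by
      rw [← LinearMap.range_eq_top, Fintype.range_linearCombination, hspan]
    have hd : Module.length A ((CohIII.TFun P p).obj (ModuleCat.of A (A ⧸ 𝔪))) = Fintype.card ι := by
      rw [← (e (ModuleCat.of A (A ⧸ 𝔪))).length_eq, (TensorProduct.comm A H (A ⧸ 𝔪)).length_eq]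
      show Module.length A (k ⊗[A] H) = _
      rw [Module.length_eq_of_surjective (S := A) (R := k) (M := k ⊗[A] H) IsLocalRing.residue_surjective,
        Module.length_eq_finrank, Module.finrank_eq_card_chooseBasisIndex]
    classical
    have hker : LinearMap.ker φ = ⊥ := by
      rw [LinearMap.ker_eq_bot']
      intro x hx
      have hmem : ∀ n, n₀ ≤ n → ∀ i, x i ∈ 𝔪 ^ (n + 1) := by
        intro n hnn i
        let Q := A ⧸ 𝔪 ^ (n + 1)
        let q : (ι → A) ⊗[A] Q ≃ₗ[A] (ι → Q) :=
          (TensorProduct.comm A _ Q).trans (TensorProduct.piScalarRight A A Q ι)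
        have hs : Surjective (φ.rTensor Q) := LinearMap.rTensor_surjective Q hφ
        have hl : Module.length A (H ⊗[A] Q) = Module.length A ((ι → A) ⊗[A] Q) := by
          rw [q.length_eq, Module.length_pi, ENat.card_eq_coe_fintype_card, ← hd, ← hn n hnn]
          exact (e (ModuleCat.of A Q)).length_eq
        have hne : Module.length A ((ι → A) ⊗[A] Q) ≠ ⊤ := by
          rw [q.length_eq, Module.length_pi, ENat.card_eq_coe_fintype_card]
          exact WithTop.mul_ne_top (ENat.coe_ne_top _)
            (Module.length_ne_top_iff.2 (isFiniteLength_quotient_pow (n + 1)))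
        have h0 := injective_of_length_eq (φ.rTensor Q) hs hne hl.symm
        have hz : x ⊗ₜ[A] (1 : Q) = 0 := h0 <| by
          rw [LinearMap.rTensor_tmul, hx, TensorProduct.zero_tmul, map_zero]
        have h1 := congrFun (congrArg q hz) i
        simp [q, Q, Algebra.smul_def] at h1
        exact Ideal.Quotient.eq_zero_iff_mem.1 h1
      funext i
      have hbot : (⨅ n : ℕ, 𝔪 ^ n) = ⊥ :=
        Ideal.iInf_pow_eq_bot_of_isLocalRing _ (IsLocalRing.maximalIdeal.isMaximal A).ne_top
      refine (Ideal.mem_bot (R := A)).1 (hbot ▸ Ideal.mem_iInf.2 fun n => ?_)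
      exact Ideal.pow_le_pow_right (by omega) (hmem (max n₀ n) (le_max_left _ _) i)
    exact Module.Flat.of_linearEquiv (LinearEquiv.ofBijective φ ⟨LinearMap.ker_eq_bot.1 hker, hφ⟩).symm

end Groth.Agent.Coherent.CohBC
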