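import Groth.Agent.Coherent.CohBC.Perf
import Groth.Agent.Coherent.FormalIdeal
import Mathlib.LinearAlgebra.TensorProduct.Quotient
import Mathlib.LinearAlgebra.Quotient.Pi

/-!
# `F / JF` and the complex computing cohomology
-/

set_option autoImplicit false
set_option backward.isDefEq.respectTransparency false

universe u

open CategoryTheory CategoryTheory.Limits AlgebraicGeometry Opposite TopologicalSpace TensorProduct
open HomologicalComplex MonoidalCategory Function
open Groth.Agent.Coherent

attribute [local instance] hasFiniteBiproducts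

namespace Groth.Agent.Coherent.CohBC

variable {A : Type u} [CommRing A]

section Algebra

variable {ι : Type} {c : ComplexShape ι} {C C' : HomologicalComplex (ModuleCat.{u} A) c}
  (q : C ⟶ C') (J : Ideal A) (hq : ∀ i, Surjective (q.f i).hom)
  (hker : ∀ i, LinearMap.ker (q.f i).hom = J • (⊤ : Submodule A (C.X i)))
include hq hker

/-- A quotient by `J` is `- ⊗ A/J`. -/
noncomputable def quotComplexX (i : ι) : (CohIII.tensorObj C (ModuleCat.of A (A ⧸ J))).X i ≅ C'.X i :=
  (((TensorProduct.tensorQuotEquivQuotSMul (C.X i) J).trans (Submodule.quotEquivOfEq _ _ (hker i).symm)).trans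
    ((q.f i).hom.quotKerEquivOfSurjective (hq i))).toModuleIso

theorem quotComplexX_tmul (i : ι) (x : C.X i) (a : A) :
    (quotComplexX q J hq hker i).hom (x ⊗ₜ[A] (Ideal.Quotient.mk J a)) = a • (q.f i).hom x := by
  show ((q.f i).hom.quotKerEquivOfSurjective (hq i)) (Submodule.quotEquivOfEq _ _ (hker i).symm
    (TensorProduct.tensorQuotEquivQuotSMul (C.X i) J (x ⊗ₜ[A] Ideal.Quotient.mk J a))) = _
  rw [TensorProduct.tensorQuotEquivQuotSMul_tmul_mk, Submodule.quotEquivOfEq_mk]
  exact ((q.f i).hom.quotKerEquivOfSurjective_apply_mk (hq i) _).trans (map_smul _ _ _)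

/-- A quotient by `J` is `- ⊗ A/J`. -/
noncomputable def quotComplexIso : CohIII.tensorObj C (ModuleCat.of A (A ⧸ J)) ≅ C' :=
  Hom.isoOfComponents (fun i => quotComplexX q J hq hker i) fun i j _ =>
    ModuleCat.hom_ext (TensorProduct.ext' fun x b => by
      obtain ⟨a, rfl⟩ := Ideal.Quotient.mk_surjective b
      show (C'.d i j).hom ((quotComplexX q J hq hker i).hom (x ⊗ₜ[A] Ideal.Quotient.mk J a)) =
        (quotComplexX q J hq hker j).hom ((C.d i j).hom x ⊗ₜ[A] Ideal.Quotient.mk J a)
      rw [quotComplexX_tmul, quotComplexX_tmul, map_smul]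
      exact congrArg (a • ·) (LinearMap.congr_fun (congrArg ModuleCat.Hom.hom (q.comm i j)) x))

theorem surjective_homologyMap_quot (i : ι)
    (h : Surjective ((CohIII.TFun C i).map (ModuleCat.ofHom (Algebra.linearMap A (A ⧸ J)) :
      ModuleCat.of A A ⟶ ModuleCat.of A (A ⧸ J))).hom) :
    Surjective (homologyMap q i).hom := by
  let g : ModuleCat.of A A ⟶ ModuleCat.of A (A ⧸ J) := ModuleCat.ofHom (Algebra.linearMap A (A ⧸ J))
  let ρ : CohIII.tensorObj C (ModuleCat.of A A) ≅ C :=
    Hom.isoOfComponents (fun k => (TensorProduct.rid A (C.X k)).toModuleIso)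
      fun k l _ => ModuleCat.hom_ext (TensorProduct.ext' fun x a => map_smul (C.d k l).hom a x)
  have e : CohIII.tensorMap C g ≫ (quotComplexIso q J hq hker).hom = ρ.hom ≫ q := by
    ext k : 1
    refine ModuleCat.hom_ext (TensorProduct.ext' fun x a => ?_)
    show (quotComplexX q J hq hker k).hom (x ⊗ₜ[A] Ideal.Quotient.mk J a) =
      (q.f k).hom (TensorProduct.rid A (C.X k) (x ⊗ₜ[A] a))
    rw [quotComplexX_tmul, TensorProduct.rid_tmul, map_smul]
  have : Epi (homologyMap (CohIII.tensorMap C g) i) := (ModuleCat.epi_iff_surjective _).2 h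
  have h2 : Epi (homologyMap ρ.hom i ≫ homologyMap q i) := by
    rw [← homologyMap_comp, ← e, homologyMap_comp]
    infer_instance
  exact (ModuleCat.epi_iff_surjective _).1 (epi_of_epi (homologyMap ρ.hom i) (homologyMap q i))

end Algebra

section Geometry

variable {X : Scheme.{u}} [X.Over (Spec (CommRingCat.of A))] [IsNoetherianRing A]
  [IsLocallyNoetherian X] {F : X.Modules} (hF : Coh.IsCoh F) (J : Ideal A) (n : ℕ)
include hF

theorem modPowπ_app_surjective {U : X.Opens} (hU : IsAffineOpen U) :
    Surjective ((Formal.modPowπ J n F).app U) :=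
  have : Coh.IsQCoh (powSeq J F n).X₁ := (isCoh_powSub J hF n).1
  sections_surjective (powSeq_shortExact J F n) hU

theorem modPowπ_app_eq_zero {U : X.Opens} (hU : IsAffineOpen U) (s : Γ(F, U))
    (hs : (Formal.modPowπ J n F).app U s = 0) :
    s ∈ (J ^ n) • (⊤ : Submodule A Γ(F, U)) := by
  obtain ⟨r, g, hg⟩ := Submodule.fg_iff_exists_fin_generating_family.1
    (IsNoetherian.noetherian (J ^ n))
  let Ψ := biproduct.desc fun i : Fin r => Formal.smulMod A F (g i)
  have hbc := (isCoh_biproduct (fun _ : Fin r => F) fun _ => hF).1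
  have := hF.1
  have hi : ∀ c (_ : c ∈ J ^ n), Formal.smulMod A F c ≫ cokernel.π Ψ = 0 := fun c hc => by
    have hc' : c ∈ Submodule.span A (Set.range g) := hg.ge hc
    induction hc' using Submodule.span_induction with
    | mem x hx =>
      obtain ⟨i, rfl⟩ := hx
      rw [← biproduct.ι_desc (fun i : Fin r => Formal.smulMod A F (g i)) i, Category.assoc,
        cokernel.condition, comp_zero]
    | zero => rw [smulMod_zero, zero_comp]
    | add a b ha hb iha ihb =>
      rw [smulMod_add, Preadditive.add_comp, iha (hg.le ha), ihb (hg.le hb), add_zero]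
    | smul t a ha iha =>
      rw [smul_eq_mul, mul_comm, smulMod_mul, Category.assoc, iha (hg.le ha), comp_zero]
  let v : Formal.modPow J n F ⟶ cokernel Ψ := cokernel.desc _ (cokernel.π Ψ)
    (Sigma.hom_ext _ _ fun c => by
      rw [comp_zero, ← Category.assoc,
        show Sigma.ι (fun _ : (J ^ n : Ideal A) => F) c ≫ Formal.smulFamily (J ^ n) F =
          Formal.smulMod A F (c : A) by simp [Formal.smulFamily]]
      exact hi c c.2)
  have hv : Formal.modPowπ J n F ≫ v = cokernel.π Ψ := cokernel.π_desc _ _ _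
  have h0 : (cokernel.π Ψ).app U s = 0 := by
    rw [← hv]
    exact (congrArg (v.app U) hs).trans (map_zero (v.app U).hom)
  obtain ⟨t, rfl⟩ := sections_exact (imSeq_shortExact Ψ) (U := U) s h0
  let T : ShortComplex X.Modules :=
    ShortComplex.mk (kernel.ι (Abelian.factorThruImage Ψ)) (Abelian.factorThruImage Ψ) (kernel.condition _)
  have hT : T.ShortExact :=
    { mono_f := inferInstanceAs (Mono (kernel.ι _))
      epi_g := inferInstanceAs (Epi (Abelian.factorThruImage Ψ))
      exact := ShortComplex.exact_of_f_is_kernel _ (kernelIsKernel _) }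
  have := isQCoh_image Ψ
  have : Coh.IsQCoh T.X₁ := isQCoh_kernel (Abelian.factorThruImage Ψ)
  obtain ⟨y, rfl⟩ := sections_surjective hT hU t
  have e : (Abelian.image.ι Ψ).app U ((Abelian.factorThruImage Ψ).app U y) = Ψ.app U y :=
    ConcreteCategory.congr_hom
      (congrArg (fun φ : (⨁ fun _ : Fin r => F) ⟶ F => φ.app U) (Abelian.image.fac Ψ)) y
  have key : ∀ (s : Finset (Fin r)),
      (∑ i ∈ s, biproduct.π (fun _ : Fin r => F) i ≫ Formal.smulMod A F (g i)).app U y =
        ∑ i ∈ s, g i • (biproduct.π (fun _ : Fin r => F) i).app U y := fun s => by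
    induction s using Finset.induction with
    | empty => rw [Finset.sum_empty, Finset.sum_empty]; rfl
    | insert i s hi ih => rw [Finset.sum_insert hi, Finset.sum_insert hi, ← ih]; rfl
  have hsum : Ψ = ∑ i, biproduct.π (fun _ : Fin r => F) i ≫ Formal.smulMod A F (g i) :=
    biproduct.desc_eq
  change (Abelian.image.ι Ψ).app U ((Abelian.factorThruImage Ψ).app U y) ∈ _
  rw [e, hsum, key]
  exact sum_mem fun i _ => Submodule.smul_mem_smul (hg.le (Submodule.subset_span ⟨i, rfl⟩)) trivial

variable {ι : Type u} [Finite ι] (W : ι → X.Opens)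
  (hW : ∀ (p : ℕ) (a : Fin (p + 1) → ι), IsAffineOpen (cinter W a))
include hW

theorem cxMapA_modPowπ_surjective (p : ℕ) :
    Surjective ((cxMapA A W (Formal.modPowπ J n F)).f p).hom := fun y => by
  choose x hx using fun a => modPowπ_app_surjective hF J n (hW p a) (y a)
  exact ⟨x, funext hx⟩

theorem cxMapA_modPowπ_ker (p : ℕ) :
    LinearMap.ker ((cxMapA A W (Formal.modPowπ J n F)).f p).hom =
      (J ^ n) • (⊤ : Submodule A (cxX A W F p)) := by
  classical
  have := Fintype.ofFinite ι
  refine le_antisymm (fun (x : ∀ a : Fin (p + 1) → ι, Γ(F, cinter W a)) hx => ?_)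
    (Submodule.smul_le.2 fun c hc x _ => ?_)
  · change x ∈ (J ^ n) • (⊤ : Submodule A (∀ a : Fin (p + 1) → ι, Γ(F, cinter W a)))
    rw [← Finset.univ_sum_single x]
    refine sum_mem fun a _ => ?_
    have ha : x a ∈ (J ^ n) • (⊤ : Submodule A Γ(F, cinter W a)) :=
      modPowπ_app_eq_zero hF J n (hW p a) (x a) (congrFun hx a)
    have h1 := Submodule.mem_map_of_mem (f := LinearMap.single A
      (fun a : Fin (p + 1) → ι => Γ(F, cinter W a)) a) ha
    rw [Submodule.map_smul''] at h1
    exact Submodule.smul_mono le_rfl le_top h1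
  · funext a
    exact ConcreteCategory.congr_hom (congrArg (fun φ : F ⟶ Formal.modPow J n F =>
      φ.app (cinter W a)) (smulMod_modPowπ J F hc)) (x a)

variable (hcov : ⨆ i, W i = ⊤)
include hcov

/-- Surjectivity onto `H^p(X, F/J^nF)` read off the Čech complex. -/
theorem surjective_toModPow (p : ℕ)
    (h : Surjective ((CohIII.TFun (cxA A W F) p).map (ModuleCat.ofHom (Algebra.linearMap A (A ⧸ (J ^ n))) :
      ModuleCat.of A A ⟶ ModuleCat.of A (A ⧸ (J ^ n)))).hom) :
    Surjective (Sheaf.H.map ((toAbFunctor X).map (Formal.modPowπ J n F)) p) := by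
  have := hF.1
  have := (isCoh_modPow J hF n).1
  intro y
  obtain ⟨z, hz⟩ := surjective_homologyMap_quot (cxMapA A W (Formal.modPowπ J n F)) (J ^ n)
    (cxMapA_modPowπ_surjective hF J n W hW) (cxMapA_modPowπ_ker hF J n W hW) p h
    (hhCech A W hcov hW _ p y)
  refine ⟨(hhCech A W hcov hW F p).symm z, (hhCech A W hcov hW _ p).injective ?_⟩
  exact (hhCech_naturality A W hcov hW (Formal.modPowπ J n F) p _).trans
    ((congrArg _ ((hhCech A W hcov hW F p).apply_symm_apply z)).trans hz)

end Geometry

end Groth.Agent.Coherent.CohBC
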