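import Groth.Agent.Coherent.CohBC.Corep
import Mathlib.Algebra.Category.ModuleCat.Products
import Mathlib.Algebra.Category.Grp.Basic

/-!
# Homology of finite flat complexes commutes with products
-/

set_option autoImplicit false
set_option backward.isDefEq.respectTransparency false

universe u

open CategoryTheory CategoryTheory.Limits TensorProduct Function Opposite
open Groth.Agent.FlatCxLib

namespace Groth.Agent.Coherent.CohBC

variable {A : Type u} [CommRing A] [IsNoetherianRing A] {J : Type u} (M : J → ModuleCat.{u} A)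

theorem bijective_tensor_pi (V : Type u) [AddCommGroup V] [Module A V] [Module.Finite A V]
    [Module.Flat A V] :
    (∀ w w' : V ⊗[A] (∀ j, M j),
      (∀ j, (LinearMap.proj (R := A) (φ := fun j => M j) j).lTensor V w =
        (LinearMap.proj (R := A) (φ := fun j => M j) j).lTensor V w') → w = w') ∧
    ∀ v : ∀ j, V ⊗[A] M j, ∃ w : V ⊗[A] (∀ j, M j),
      ∀ j, (LinearMap.proj (R := A) (φ := fun j => M j) j).lTensor V w = v j := by
  have : Module.FinitePresentation A V := Module.finitePresentation_of_finite A _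
  have : Module.Projective A V := Module.Flat.projective_of_finitePresentation
  obtain ⟨n, c, φ, hc⟩ := exists_dualBasis (A := A) V
  refine ⟨fun w w' h => sub_eq_zero.1 (eq_zero_of_evalFst _ fun ψ => funext fun j => ?_), fun v => ?_⟩
  · show LinearMap.proj (R := A) (φ := fun j => M j) j (evalFst ψ (w - w')) = 0
    rw [← evalFst_natural, map_sub, h j, sub_self, map_zero]
  · refine ⟨∑ i, c i ⊗ₜ[A] (fun j => evalFst (φ i) (v j)), fun j => ?_⟩
    rw [map_sum]
    exact sum_dualBasis hc (v j)

omit [IsNoetherianRing A] in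
theorem tensor_maps_comm {V W N N' : Type u} [AddCommGroup V] [Module A V] [AddCommGroup W]
    [Module A W] [AddCommGroup N] [Module A N] [AddCommGroup N'] [Module A N'] (f : V →ₗ[A] W)
    (g : N →ₗ[A] N') (w : V ⊗[A] N) :
    g.lTensor W (f.rTensor N w) = f.rTensor N' (g.lTensor V w) :=
  LinearMap.congr_fun (TensorProduct.ext' (g := g.lTensor W ∘ₗ f.rTensor N)
    (h := f.rTensor N' ∘ₗ g.lTensor V) fun _ _ => rfl) w

variable {P : ChainComplex (ModuleCat.{u} A) ℤ}

theorem bijective_TFun_pi (hP : ∀ i, Module.Finite A (P.X i) ∧ Module.Flat A (P.X i)) (p : ℤ) :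
    Bijective fun (x : CohIII.T P p (ModuleCat.of A (∀ j, M j))) (j : J) =>
      (CohIII.TFun P p).map
        (ModuleCat.ofHom (LinearMap.proj j : (∀ j, M j) →ₗ[A] M j)) x := by
  have hb := fun i => haveI := (hP i).1; haveI := (hP i).2; bijective_tensor_pi M (P.X i)
  let π : ∀ j, ModuleCat.of A (∀ j, M j) ⟶ M j := fun j => ModuleCat.ofHom (LinearMap.proj j)
  have hr : p - 1 + 1 = p := by omega
  constructor
  · intro x y hxy
    obtain ⟨z, hz⟩ := cls_surjective (CohIII.tensorObj P (ModuleCat.of A (∀ j, M j))) p (p - 1) hr (x - y)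
    refine sub_eq_zero.1 (hz.symm.trans ((cls_eq_zero_iff _ (p + 1) p (p - 1) rfl hr z).2 ?_))
    have hj : ∀ j, ∃ w : P.X (p + 1) ⊗[A] M j, (P.d (p + 1) p).hom.rTensor (M j) w =
        (π j).hom.lTensor (P.X p) z.1 := fun j => by
      refine (cls_eq_zero_iff (CohIII.tensorObj P (M j)) (p + 1) p (p - 1) rfl hr
        ⟨_, map_mem_ker p (p - 1) (CohIII.tensorMap P (π j)) z.2⟩).1 ?_
      refine (cls_map p (p - 1) hr (CohIII.tensorMap P (π j)) z).symm.trans ?_
      rw [hz]
      exact (map_sub ((CohIII.TFun P p).map (π j)).hom x y).trans (sub_eq_zero.2 (congrFun hxy j))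
    choose v hv using hj
    obtain ⟨w, hw⟩ := (hb (p + 1)).2 v
    refine ⟨w, (hb p).1 _ _ fun j => ?_⟩
    exact ((tensor_maps_comm _ _ w).trans ((congrArg _ (hw j)).trans (hv j)))
  · intro y
    choose z hz using fun j => cls_surjective (CohIII.tensorObj P (M j)) p (p - 1) hr (y j)
    obtain ⟨w, hw⟩ := (hb p).2 fun j => (z j).1
    have hker : (P.d p (p - 1)).hom.rTensor (∀ j, M j) w = 0 := (hb (p - 1)).1 _ _ fun j => by
      rw [map_zero]
      exact (tensor_maps_comm _ _ w).trans ((congrArg _ (hw j)).trans (z j).2)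
    refine ⟨cls (CohIII.tensorObj P (ModuleCat.of A (∀ j, M j))) p (p - 1) hr ⟨w, hker⟩, funext fun j => ?_⟩
    refine ((cls_map p (p - 1) hr (CohIII.tensorMap P (π j)) ⟨w, hker⟩).trans ?_).trans (hz j)
    exact congrArg _ (Subtype.ext (hw j))

/-- `M ↦ H_p(P ⊗ M)`, as abelian groups, preserves products. -/
theorem preservesProducts_TFun (hP : ∀ i, Module.Finite A (P.X i) ∧ Module.Flat A (P.X i)) (p : ℤ) :
    PreservesLimitsOfShape (Discrete J)
      (CohIII.TFun P p ⋙ forget₂ (ModuleCat.{u} A) AddCommGrpCat.{u}) := by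
  constructor
  intro K
  let M : J → ModuleCat.{u} A := K.obj ∘ Discrete.mk
  suffices h : PreservesLimit (Discrete.functor (K.obj ∘ Discrete.mk))
      (CohIII.TFun P p ⋙ forget₂ (ModuleCat.{u} A) AddCommGrpCat.{u}) from
    preservesLimit_of_iso_diagram _ (Discrete.natIsoFunctor (F := K)).symm
  refine preservesLimit_of_preserves_limit_cone (ModuleCat.productConeIsLimit M) ?_
  have hb := bijective_TFun_pi M hP p
  let e : CohIII.T P p (ModuleCat.of A (∀ j, M j)) ≃+ ∀ j, CohIII.T P p (M j) :=
    AddEquiv.ofBijective (AddMonoidHom.mk' _ fun x y => funext fun j =>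
      map_add ((CohIII.TFun P p).map (ModuleCat.ofHom (LinearMap.proj j))).hom x y) hb
  refine
    { lift := fun s => AddCommGrpCat.ofHom (e.symm.toAddMonoidHom.comp
        (AddMonoidHom.mk' (fun x j => s.π.app ⟨j⟩ x) fun x y => funext fun j => map_add _ x y))
      fac := fun s ⟨j⟩ => ?_
      uniq := fun s m hm => ?_ }
  · ext x
    exact congrFun (e.apply_symm_apply fun j => s.π.app ⟨j⟩ x) j
  · ext x
    refine e.injective ((funext fun j => ?_ : e (m x) = fun j => s.π.app ⟨j⟩ x).trans
      (e.apply_symm_apply fun j => s.π.app ⟨j⟩ x).symm)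
    exact ConcreteCategory.congr_hom (hm ⟨j⟩) x

end Groth.Agent.Coherent.CohBC
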