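import Groth.Agent.Coherent.CohBC.SectionsCalculus
import Groth.Agent.Coherent.CohBC.HomCorep
import Groth.Agent.Coherent.Serre.Vanishing
import Groth.Agent.Coherent.Serre.AmpleAffine
import Groth.Agent.DCat.PullTensor
import Groth.Agent.EulerLib.FieldExt
import Groth.Agent.EGA43.DvrCrit.Main
import Groth.Agent.Props12.FinLocFree
import Groth.Agent.EulerLib.Degree
import Groth.Agent.Coherent.CohBC.HomSheaf
import Groth.Agent.Coherent.CohBC.LocalModules
import Groth.Agent.Coherent.ProjSpaceBC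
import Groth.Agent.ZClosLib.Descent

/-!
# High twists commute with base change

For `X` proper and flat over a Noetherian ring `A` with ample `L`, a coherent `F` and a map `A → B` to a Noetherian ring,
`B ⊗_A Γ(X, F ⊗ L^r) → Γ(X_B, (F ⊗ L^r)_B)` is bijective for all large `r`.
-/

set_option autoImplicit false
set_option backward.isDefEq.respectTransparency false
set_option linter.style.haveILetI false

universe u

open CategoryTheory CategoryTheory.Limits AlgebraicGeometry Opposite TopologicalSpace TensorProduct Function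
open Groth.Agent.Coherent Groth.Agent.PicLib Groth.Agent.AmpleLib

namespace Groth.Agent.Coherent.CohBC

variable {X : Scheme.{u}}

theorem tensorMap_comp_id {M₁ M₂ M₃ P : X.Modules} (f : M₁ ⟶ M₂) (g : M₂ ⟶ M₃) :
    tensorMap (f ≫ g) (𝟙 P) = tensorMap f (𝟙 P) ≫ tensorMap g (𝟙 P) :=
  AmpleLib.hom_ext fun U a b => by
    refine (tensorMap_tmul (f ≫ g) (𝟙 P) a b).trans ?_
    refine Eq.symm ((congrArg ((tensorMap g (𝟙 P)).app U) (tensorMap_tmul f (𝟙 P) a b)).trans ?_)
    exact tensorMap_tmul g (𝟙 P) (f.app U a) b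

theorem tensorBi_map_eq_tensorMap {M M' : X.Modules} (φ : M ⟶ M') (N : X.Modules) :
    ((DCoh.tensorBi (X := X)).map φ).app N = tensorMap φ (𝟙 N) :=
  AmpleLib.hom_ext fun U a b => by
    exact (DCat.PullTensor.tensorBi_map_tmul φ U a b).trans (tensorMap_tmul φ (𝟙 N) a b).symm

/-- Sections of a twisted exact sequence, given two vanishings. -/
theorem exact_app_top_tensorMap {M₁ M₂ M₃ : X.Modules} (f : M₁ ⟶ M₂) (g : M₂ ⟶ M₃) (w : f ≫ g = 0)
    (hex : (ShortComplex.mk f g w).Exact) [Epi g] {P : X.Modules} (hP : PicF.IsInvertible P)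
    (h1 : Subsingleton (Coh.HH X (CohB1.tensorMod (kernel g) P) 1))
    (h2 : Subsingleton (Coh.HH X (CohB1.tensorMod (kernel (kernel.lift g f w)) P) 1)) :
    Surjective ((tensorMap g (𝟙 P)).app ⊤) ∧
      ∀ s, (tensorMap g (𝟙 P)).app ⊤ s = 0 → ∃ t, (tensorMap f (𝟙 P)).app ⊤ t = s := by
  have hp : Epi (kernel.lift g f w) := hex.epi_kernelLift
  have hS := EulerLib.twistSeq_shortExact hP (Serre.kerSeqEpi_shortExact g)
  have hS' := EulerLib.twistSeq_shortExact hP (Serre.kerSeqEpi_shortExact (kernel.lift g f w))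
  refine ⟨sections_top_surjective_of_subsingleton hS ((HHTopEquiv (CohB1.tensorMod (kernel g) P) 1).toEquiv.subsingleton_congr.1 h1), fun s hs => ?_⟩
  obtain ⟨k, hk⟩ := sections_exact hS s hs
  obtain ⟨t, ht⟩ := sections_top_surjective_of_subsingleton hS'
    ((HHTopEquiv (CohB1.tensorMod (kernel (kernel.lift g f w)) P) 1).toEquiv.subsingleton_congr.1 h2) k
  refine ⟨t, ?_⟩
  rw [← hk, ← ht]
  show (tensorMap f (𝟙 P)).app ⊤ t =
    (tensorMap (kernel.ι g) (𝟙 P)).app ⊤ ((tensorMap (kernel.lift g f w) (𝟙 P)).app ⊤ t)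
  rw [← ConcreteCategory.comp_apply, ← Scheme.Modules.Hom.comp_app, ← tensorMap_comp_id, kernel.lift_ι]

/-- Twisting twice. -/
theorem nonempty_twist_twist {L : X.Modules} (hL : PicF.IsInvertible L) (F : X.Modules) (a j : ℕ) :
    Nonempty (CohB1.tensorMod (CohB1.tensorMod F (CohB1.tensorPow L a)) (CohB1.tensorPow L j) ≅
      CohB1.tensorMod F (CohB1.tensorPow L (a + j))) := by
  obtain ⟨α⟩ := EulerLib.exists_assocIso' F (AmpleLib.isInvertible_tensorPow hL a)
    (AmpleLib.isInvertible_tensorPow hL j)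
  obtain ⟨p, -⟩ := AmpleLib.exists_powIso hL a j
  exact ⟨α ≪≫ AmpleLib.tensorIso (Iso.refl F) p⟩

/-- Reindexing a finite free module. -/
noncomputable def freeModReindex {I J : Type u} (e : I ≃ J) : freeMod X I ≅ freeMod X J where
  hom := freeDesc fun i => freeInj (e i)
  inv := freeDesc fun j => freeInj (e.symm j)
  hom_inv_id := freeMod_hom_ext fun i => by
    rw [← Category.assoc, freeInj_freeDesc, freeInj_freeDesc, e.symm_apply_apply, Category.comp_id]
  inv_hom_id := freeMod_hom_ext fun j => by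
    rw [← Category.assoc, freeInj_freeDesc, freeInj_freeDesc, e.apply_symm_apply, Category.comp_id]

theorem isFlatOver_freeMod {S : Scheme.{u}} (f : X ⟶ S) [Flat f] (I : Type u) [Fintype I] :
    FlatMod.IsFlatOver f (freeMod X I) := by
  let e : freeMod X I ≅ FlatMod.freeMod X (Fintype.card I) :=
    freeModReindex ((Fintype.equivFin I).trans Equiv.ulift.symm) ≪≫ Props12.freeModIso X _
  have hfree : FlatMod.IsFinLocFree (FlatMod.freeMod X (Fintype.card I)) := fun x => by
    obtain ⟨U, hU, hxU, -⟩ := exists_isAffineOpen_mem_and_subset (x := x) (U := (⊤ : X.Opens)) trivial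
    have : IsAffine U.toScheme := hU
    exact ⟨⊤, _, trivial, ⟨freeModRestrictIso (⊤ : X.Opens).ι _⟩⟩
  exact fun x => EGA43.DvrCrit.isFlatOverAt_of_iso f e.symm x (isFlatOver_of_isFinLocFree f hfree x)

variable {A B : Type u} [CommRing A] [CommRing B] [IsNoetherianRing A] [IsNoetherianRing B] (φ : A →+* B)
  [X.Over (Spec (CommRingCat.of A))] [IsProper (X ↘ Spec (CommRingCat.of A))]
  {X' : Scheme.{u}} [X'.Over (Spec (CommRingCat.of B))] (g : X' ⟶ X)
  (h : IsPullback g (X' ↘ Spec (CommRingCat.of B)) (X ↘ Spec (CommRingCat.of A))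
    (Spec.map (CommRingCat.ofHom φ)))
  {L : X.Modules} (hL : CohB1.IsAmple L)

include h hL in
/-- Sections of high twists of the pullback of an exact sequence are exact. -/
theorem exists_exact_pullback_twist (S : ShortComplex X.Modules) (hS : S.ShortExact)
    (hc₁ : Coh.IsCoh S.X₁) (hc₂ : Coh.IsCoh S.X₂) (hc₃ : Coh.IsCoh S.X₃) :
    ∃ N : ℕ, ∀ r : ℕ, N ≤ r →
      Surjective (((Scheme.Modules.pullback g).map
          (EulerLib.twistSeq S (CohB1.tensorPow L r)).g).app (g ⁻¹ᵁ ⊤)) ∧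
      ∀ s, ((Scheme.Modules.pullback g).map
          (EulerLib.twistSeq S (CohB1.tensorPow L r)).g).app (g ⁻¹ᵁ ⊤) s = 0 →
        ∃ t, ((Scheme.Modules.pullback g).map
          (EulerLib.twistSeq S (CohB1.tensorPow L r)).f).app (g ⁻¹ᵁ ⊤) t = s := by
  have hLi : PicF.IsInvertible L := (isAmple_iff_affGlocus.1 hL).1
  haveI : IsProper (X' ↘ Spec (CommRingCat.of B)) :=
    MorphismProperty.of_isPullback (P := @IsProper) h inferInstance
  haveI : IsAffineHom g := MorphismProperty.of_isPullback (P := @IsAffineHom) h.flip inferInstance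
  haveI : IsLocallyNoetherian X := LocallyOfFiniteType.isLocallyNoetherian (X ↘ Spec (CommRingCat.of A))
  haveI : IsLocallyNoetherian X' := LocallyOfFiniteType.isLocallyNoetherian (X' ↘ Spec (CommRingCat.of B))
  obtain ⟨hex, hepi⟩ := pullback_exact_of_shortExact g S hS
  let T := S.map (Scheme.Modules.pullback g)
  haveI : Epi T.g := hepi
  have hT₁ : Coh.IsCoh T.X₁ := ZClosLib.isCoh_pullback g _ hc₁
  have hT₂ : Coh.IsCoh T.X₂ := ZClosLib.isCoh_pullback g _ hc₂
  have hT₃ : Coh.IsCoh T.X₃ := ZClosLib.isCoh_pullback g _ hc₃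
  have hK : Coh.IsCoh (kernel T.g) := isCoh_kernel T.g hT₂ hT₃.1
  have hK' : Coh.IsCoh (kernel (kernel.lift T.g T.f T.zero)) := isCoh_kernel _ hT₁ hK.1
  have hLb : CohB1.IsAmple ((Scheme.Modules.pullback g).obj L) := isAmple_pullback_of_isAffineHom g hL
  obtain ⟨N₁, hN₁⟩ := Serre.exists_subsingleton_HH_twist B hLb _ hK
  obtain ⟨N₂, hN₂⟩ := Serre.exists_subsingleton_HH_twist B hLb _ hK'
  refine ⟨max N₁ N₂, fun r hr => ?_⟩
  obtain ⟨ep, -⟩ := exists_pullPowIso g hLi r
  let P := (Scheme.Modules.pullback g).obj (CohB1.tensorPow L r)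
  have hP : PicF.IsInvertible P := PicLoc.isInvertible_pullback g (AmpleLib.isInvertible_tensorPow hLi r)
  obtain ⟨hs, hk⟩ := exact_app_top_tensorMap T.f T.g T.zero hex hP
    (Serre.HH_subsingleton_of_iso (A := B) (tensorIso (Iso.refl _) ep.symm) 1
      (hN₁ r (le_of_max_le_left hr) 1 one_pos))
    (Serre.HH_subsingleton_of_iso (A := B) (tensorIso (Iso.refl _) ep.symm) 1
      (hN₂ r (le_of_max_le_right hr) 1 one_pos))
  let e := fun M => DCat.PullTensor.pullTensorIso g M (CohB1.tensorPow L r)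
  have hnat : ∀ {M M' : X.Modules} (ψ : M ⟶ M'),
      (Scheme.Modules.pullback g).map (tensorMap ψ (𝟙 _)) ≫ (e M').hom =
        (e M).hom ≫ tensorMap ((Scheme.Modules.pullback g).map ψ) (𝟙 P) := fun {M M'} ψ => by
    rw [← tensorBi_map_eq_tensorMap, ← tensorBi_map_eq_tensorMap]
    exact DCat.PullTensor.pullTensorHom_nat₁ g ψ _
  have hsq : ∀ {M M' : X.Modules} (ψ : M ⟶ M') (x : Γ((Scheme.Modules.pullback g).obj (CohB1.tensorMod M (CohB1.tensorPow L r)), g ⁻¹ᵁ ⊤)),
      (e M').hom.app (g ⁻¹ᵁ ⊤) (((Scheme.Modules.pullback g).map (tensorMap ψ (𝟙 _))).app (g ⁻¹ᵁ ⊤) x) =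
        (tensorMap ((Scheme.Modules.pullback g).map ψ) (𝟙 P)).app (g ⁻¹ᵁ ⊤) ((e M).hom.app (g ⁻¹ᵁ ⊤) x) :=
    fun {M M'} ψ x => congr(($(hnat ψ)).app (g ⁻¹ᵁ ⊤) x)
  let E := fun M => topEquiv (A := B) (e M)
  constructor
  · intro y
    obtain ⟨x, hx⟩ := hs (E S.X₃ y)
    obtain ⟨x', rfl⟩ := (E S.X₂).surjective x
    exact ⟨x', (E S.X₃).injective ((hsq S.g x').trans hx)⟩
  · intro s hs0
    obtain ⟨t, ht⟩ := hk (E S.X₂ s) ((hsq S.g s).symm.trans ((congrArg (E S.X₃) hs0).trans (map_zero _)))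
    obtain ⟨t', rfl⟩ := (E S.X₁).surjective t
    exact ⟨t', (E S.X₂).injective ((hsq S.f t').trans ht)⟩

variable [Flat (X ↘ Spec (CommRingCat.of A))]

include h hL in
/-- Base change is eventually surjective on sections of twists. -/
theorem exists_surjective_secBC_twist (F : X.Modules) (hF : Coh.IsCoh F) :
    ∃ (a : ℕ) (S : ShortComplex X.Modules) (N : ℕ), S.ShortExact ∧ Coh.IsCoh S.X₁ ∧ Coh.IsCoh S.X₂ ∧
      Coh.IsCoh S.X₃ ∧ S.X₃ = CohB1.tensorMod F (CohB1.tensorPow L a) ∧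
      ∀ r : ℕ, N ≤ r →
        Bijective (secBC φ g h (EulerLib.twistSeq S (CohB1.tensorPow L r)).X₂ ⊤) ∧
        Surjective (secBC φ g h (EulerLib.twistSeq S (CohB1.tensorPow L r)).X₃ ⊤) := by
  classical
  haveI : IsLocallyNoetherian X := LocallyOfFiniteType.isLocallyNoetherian (X ↘ Spec (CommRingCat.of A))
  have hLi : PicF.IsInvertible L := (isAmple_iff_affGlocus.1 hL).1
  obtain ⟨a, ha⟩ := Serre.exists_epi_free_twist hL F hF
  obtain ⟨I, _, π, hπ⟩ := ha a le_rfl
  have hfree : Coh.IsCoh (freeMod X I) := (Serre.projSec_freeMod I).isCoh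
  have htw : Coh.IsCoh (CohB1.tensorMod F (CohB1.tensorPow L a)) :=
    EulerLib.isCoh_twist (AmpleLib.isInvertible_tensorPow hLi a) hF
  let S : ShortComplex X.Modules := ShortComplex.mk (kernel.ι π) π (kernel.condition π)
  have hS : S.ShortExact := Serre.kerSeqEpi_shortExact π
  obtain ⟨N₁, hN₁⟩ := Serre.exists_subsingleton_HH_twist A hL _ hfree
  obtain ⟨N₂, hN₂⟩ := exists_exact_pullback_twist φ g h hL S hS (isCoh_kernel π hfree htw.1) hfree htw
  refine ⟨a, S, max N₁ N₂, hS, isCoh_kernel π hfree htw.1, hfree, htw, rfl, fun r hr => ?_⟩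
  have hPr := AmpleLib.isInvertible_tensorPow hLi r
  haveI : Coh.IsQCoh (CohB1.tensorPow L r) := AmpleLib.isQCoh_of_isInvertible hPr
  have hfl : FlatMod.IsFlatOver (X ↘ Spec (CommRingCat.of A))
      (CohB1.tensorMod (freeMod X I) (CohB1.tensorPow L r)) := fun x =>
    EGA43.DvrCrit.isFlatOverAt_of_iso _ (AmpleLib.tensorComm _ _) x
      (isFlatOver_tensor _ (isFinLocFree_of_invertible hPr)
        (isFlatOver_freeMod (X ↘ Spec (CommRingCat.of A)) I) x)
  haveI : Coh.IsQCoh (CohB1.tensorMod (freeMod X I) (CohB1.tensorPow L r)) :=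
    (EulerLib.isCoh_twist hPr hfree).1
  have hb : Bijective (secBC φ g h (EulerLib.twistSeq S (CohB1.tensorPow L r)).X₂ ⊤) :=
    bijective_secBC_top (CohB1.tensorMod (freeMod X I) (CohB1.tensorPow L r)) hfl
      (hN₁ r (le_of_max_le_left hr)) φ g h
  exact ⟨hb, surjective_secBC_of_epi φ g h hb.2 (hN₂ r (le_of_max_le_right hr)).1⟩

include h hL in
/-- Base change is eventually bijective on sections of twists. -/
theorem exists_bijective_secBC_twist (F : X.Modules) (hF : Coh.IsCoh F) :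
    ∃ N : ℕ, ∀ r : ℕ, N ≤ r →
      Bijective (secBC φ g h (CohB1.tensorMod F (CohB1.tensorPow L r)) ⊤) := by
  haveI : IsLocallyNoetherian X := LocallyOfFiniteType.isLocallyNoetherian (X ↘ Spec (CommRingCat.of A))
  have hLi : PicF.IsInvertible L := (isAmple_iff_affGlocus.1 hL).1
  obtain ⟨a, S, N₁, hS, hc₁, hc₂, hc₃, hX₃, hN₁⟩ := exists_surjective_secBC_twist φ g h hL F hF
  obtain ⟨b, T, N₂, -, -, -, -, hT₃, hN₂⟩ := exists_surjective_secBC_twist φ g h hL S.X₁ hc₁
  obtain ⟨N₃, hN₃⟩ := exists_exact_pullback_twist φ g h hL S hS hc₁ hc₂ hc₃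
  obtain ⟨N₄, hN₄⟩ := Serre.exists_subsingleton_HH_twist A hL _ hc₁
  refine ⟨a + (b + N₂ + N₁ + N₃ + N₄), fun r hr => ?_⟩
  obtain ⟨j, rfl⟩ : ∃ j, r = a + j := ⟨r - a, by omega⟩
  obtain ⟨i, rfl⟩ : ∃ i, j = b + i := ⟨j - b, by omega⟩
  have hP := AmpleLib.isInvertible_tensorPow hLi (b + i)
  have hTw := EulerLib.twistSeq_shortExact hP hS
  -- surjectivity for the kernel
  obtain ⟨eK⟩ := nonempty_twist_twist hLi S.X₁ b i
  have hK : Surjective (secBC φ g h (CohB1.tensorMod S.X₁ (CohB1.tensorPow L (b + i))) ⊤) := by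
    have hs := (hN₂ i (by omega)).2
    rw [show (EulerLib.twistSeq T (CohB1.tensorPow L i)).X₃ = CohB1.tensorMod T.X₃ (CohB1.tensorPow L i) from rfl,
      hT₃] at hs
    exact surjective_secBC_of_iso φ g h eK hs
  have hb := bijective_secBC_of_presentation φ g h (S := EulerLib.twistSeq S (CohB1.tensorPow L (b + i))) hK
    (hN₁ (b + i) (by omega)).1
    (sections_top_surjective_of_subsingleton hTw
      ((HHTopEquiv (CohB1.tensorMod S.X₁ (CohB1.tensorPow L (b + i))) 1).toEquiv.subsingleton_congr.1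
        (hN₄ (b + i) (by omega) 1 one_pos)))
    (hN₃ (b + i) (by omega)).1 (hN₃ (b + i) (by omega)).2
  rw [show (EulerLib.twistSeq S (CohB1.tensorPow L (b + i))).X₃ =
    CohB1.tensorMod S.X₃ (CohB1.tensorPow L (b + i)) from rfl, hX₃] at hb
  obtain ⟨eF⟩ := nonempty_twist_twist hLi F a (b + i)
  exact bijective_secBC_of_iso φ g h eF hb

end Groth.Agent.Coherent.CohBC
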