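import Groth.Agent.Coherent.CohBC.EulerFinite
import Groth.Agent.Coherent.CohBC.Perf
import Groth.Agent.Coherent.CohBC.HomCorep
import Groth.Agent.Coherent.Serre.Vanishing
import Groth.Agent.Coherent.ProjSpaceBC
import Groth.Agent.CohExch.ChartAlg
import Groth.Agent.EulerLib.FieldExt
import Groth.Agent.EGA43.DvrCrit.Main

/-!
# Uniform vanishing on the fibres of a coherent family

For a proper family over a Noetherian base with a module `L` that is ample over the affine schemes over the base,
one twist kills the higher cohomology of all fibres of a coherent sheaf (which need not be flat).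
-/

set_option autoImplicit false
set_option backward.isDefEq.respectTransparency false
set_option linter.style.haveILetI false

universe u

open CategoryTheory CategoryTheory.Limits AlgebraicGeometry TopologicalSpace

namespace Groth.Agent.Coherent.CohBC

variable {A : Type u} [CommRing A]

/-- A flat family without higher cohomology has fibres without higher cohomology. -/
theorem fiberRank_eq_zero_of_subsingleton_HH {X : Scheme.{u}} [X.Over (Spec (CommRingCat.of A))]
    [IsNoetherianRing A] [IsProper (X ↘ Spec (CommRingCat.of A))] {F : X.Modules} (hF : Coh.IsCoh F)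
    (hfl : FlatMod.IsFlatOver (X ↘ Spec (CommRingCat.of A)) F)
    (h : ∀ p : ℕ, 0 < p → Subsingleton (Coh.HH X F p)) (y : Spec (CommRingCat.of A)) (p : ℕ) (hp : 0 < p) :
    CohIII.fiberRank (X ↘ Spec (CommRingCat.of A)) F p y = 0 := by
  obtain ⟨D⟩ := nonempty_perfData F hF hfl
  have hz : ∀ i : ℤ, i < 0 → Subsingleton (D.P.homology i) := fun i hi => by
    have h' := (D.hhHomology (-i).toNat).toEquiv.subsingleton_congr.1 (h _ (by omega))
    rwa [show -((-i).toNat : ℤ) = i by omega] at h'
  have hfl' : ∀ (d : ℕ), -D.R.bound + (d : ℤ) ≤ 0 → CohExch.FlatAt D.P (-D.R.bound + (d : ℤ)) := by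
    intro d
    induction d with
    | zero =>
      intro _
      exact CohExch.flatAt_of_subsingleton_X D.P _
        (ModuleCat.subsingleton_of_isZero (D.isZero_P _ (by omega)))
    | succ d ih =>
      intro hd
      have := hz (-D.R.bound + (d : ℤ)) (by omega)
      have h1 := CohExch.flatAt_succ_of_flat_homology D.P D.finite_free_P _ (ih (by omega)) inferInstance
      rwa [show -D.R.bound + (d : ℤ) + 1 = -D.R.bound + ((d + 1 : ℕ) : ℤ) by omega] at h1
  have hflat : CohExch.FlatAt D.P (-(p : ℤ)) := by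
    by_cases hb : -(p : ℤ) < -D.R.bound
    · exact CohExch.flatAt_of_subsingleton_X D.P _
        (ModuleCat.subsingleton_of_isZero (D.isZero_P _ (by omega)))
    · have h1 := hfl' ((D.R.bound : ℤ) - p).toNat (by omega)
      rwa [show -(D.R.bound : ℤ) + (((D.R.bound : ℤ) - p).toNat : ℤ) = -(p : ℤ) by omega] at h1
  have hT : Subsingleton (CohIII.T D.P (-(p : ℤ)) (ModuleCat.of A A)) := by
    have := hz (-(p : ℤ)) (by omega)
    exact (unitTIso D.P (-(p : ℤ))).toLinearEquiv.toEquiv.subsingleton
  let φ := residueHom y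
  have hs : Subsingleton ((CohIII.bcCx φ D.P).homology (-(p : ℤ))) :=
    CohExch.subsingleton_homology_bc D.P _ φ (CohExch.subsingleton_T_of_surjective_exch D.P _ φ 1
      (fun z => Subsingleton.elim _ _) (by rw [map_one]; exact isUnit_one)
      (CohExch.bijective_exch_of_flatAt D.P D.finite_free_P _ hflat _).2)
  show Module.finrank _ _ = 0
  rw [(D.fibreHH hfl y p).finrank_eq]
  exact Module.finrank_zero_of_subsingleton

variable {X S : Scheme.{u}}

/-- One twist kills the higher cohomology of all fibres. -/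
theorem exists_uniform_fiberRank_zero (f : X ⟶ S) [IsProper f] [IsNoetherian S] {G : X.Modules}
    (hG : Coh.IsCoh G) {L : X.Modules} (hL : PicF.IsInvertible L)
    (hamp : ∀ (P W : Scheme.{u}) (g' : P ⟶ X) (p : P ⟶ W) (g : W ⟶ S) [IsAffine W],
      IsPullback g' p f g → CohB1.IsAmple ((Scheme.Modules.pullback g').obj L)) :
    ∃ N : ℕ, ∀ d : ℕ, N ≤ d → ∀ p : ℕ, 0 < p → ∀ s : S,
      CohIII.fiberRank f (ShStab.twist X L G d) p s = 0 := by
  classical
  haveI : IsLocallyNoetherian X := LocallyOfFiniteType.isLocallyNoetherian f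
  haveI := hG.1
  haveI : LocallyOfFinitePresentation f := LocallyOfFinitePresentation.iff_locallyOfFiniteType.2 inferInstance
  obtain ⟨t, I, -, hlast, h0, -, hflat⟩ := Groth.Agent.S1455.result f G hG.1 (isFP_of_isCoh hG)
  let Z : Fin t → Scheme.{u} := fun i => ((I i.castSucc).subschemeι ⁻¹ᵁ (I i.succ).support.compl).toScheme
  let j : ∀ i : Fin t, Z i ⟶ S :=
    fun i => ((I i.castSucc).subschemeι ⁻¹ᵁ (I i.succ).support.compl).ι ≫ (I i.castSucc).subschemeι
  have hcov : ∀ s : S, ∃ (i : Fin t) (z : _), j i z = s := by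
    intro s
    by_contra hne
    have hall : ∀ i : Fin (t + 1), s ∈ ((I i).support : Set S) := by
      refine Fin.induction (by rw [h0]; trivial) fun i hi => ?_
      by_contra hc
      obtain ⟨w, hw⟩ : s ∈ Set.range (I i.castSucc).subschemeι := by
        rw [Scheme.IdealSheafData.range_subschemeι]; exact hi
      refine hne ⟨i, ⟨w, ?_⟩, hw⟩
      show (I i.castSucc).subschemeι w ∈ ((I i.succ).support.compl : Set S)
      rw [hw]; exact hc
    have := hall (Fin.last t)
    rw [hlast, Scheme.IdealSheafData.support_top] at this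
    exact this
  haveI : ∀ i, IsLocallyNoetherian (Z i) := fun i => LocallyOfFiniteType.isLocallyNoetherian (j i)
  haveI : ∀ i, CompactSpace (Z i) := fun i => by
    haveI : NoetherianSpace (I i.castSucc).subscheme :=
      (I i.castSucc).subschemeι.isEmbedding.toIsInducing.noetherianSpace
    exact isCompact_iff_compactSpace.mp (NoetherianSpace.isCompact _)
  let 𝒰 : ∀ i, (Z i).OpenCover := fun i => (Z i).affineCover.finiteSubcover
  have key : ∀ q : Σ i, (𝒰 i).I₀, ∃ N : ℕ, ∀ d : ℕ, N ≤ d → ∀ p : ℕ, 0 < p → ∀ w : (𝒰 q.1).X q.2,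
      CohIII.fiberRank f (ShStab.twist X L G d) p (j q.1 ((𝒰 q.1).f q.2 w)) = 0 := by
    rintro ⟨i, m⟩
    let W := (𝒰 i).X m
    haveI : IsAffine W := inferInstanceAs (IsAffine ((Z i).affineCover.finiteSubcover.X m))
    haveI : IsLocallyNoetherian W := LocallyOfFiniteType.isLocallyNoetherian ((𝒰 i).f m)
    haveI : IsNoetherianRing Γ(W, ⊤) := IsLocallyNoetherian.component_noetherian ⟨⊤, isAffineOpen_top W⟩
    let c : Spec (CommRingCat.of Γ(W, ⊤)) ⟶ Z i := W.isoSpec.inv ≫ (𝒰 i).f m
    let P := pullback (pullback.snd f (j i)) c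
    let a : P ⟶ pullback f (j i) := pullback.fst _ _
    letI : P.Over (Spec (CommRingCat.of Γ(W, ⊤))) := ⟨pullback.snd _ _⟩
    let pA := P ↘ Spec (CommRingCat.of Γ(W, ⊤))
    let b : P ⟶ X := a ≫ pullback.fst f (j i)
    have hsqZ : IsPullback a pA (pullback.snd f (j i)) c := IsPullback.of_hasPullback _ _
    have hsq : IsPullback b pA f (c ≫ j i) := hsqZ.paste_horiz (IsPullback.of_hasPullback f (j i))
    haveI : IsProper pA := MorphismProperty.of_isPullback (P := @IsProper) hsq inferInstance
    haveI : IsLocallyNoetherian P := LocallyOfFiniteType.isLocallyNoetherian pA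
    have hb : CohB1.IsAmple ((Scheme.Modules.pullback b).obj L) := hamp _ _ b pA _ hsq
    let GA := (Scheme.Modules.pullback b).obj G
    have hGA : Coh.IsCoh GA := ZClosLib.isCoh_pullback b G hG
    have hflA : FlatMod.IsFlatOver pA GA :=
      fun x => EGA43.DvrCrit.isFlatOverAt_of_iso pA ((Scheme.Modules.pullbackComp a (pullback.fst f (j i))).app G) x <|
        Desc19b.isFlatOverAt_baseChange _ pA a c hsqZ _ x (hflat i _)
    obtain ⟨N, hN⟩ := Serre.exists_subsingleton_HH_twist Γ(W, ⊤) hb GA hGA
    refine ⟨N, fun d hd p hp w => ?_⟩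
    haveI : Coh.IsQCoh (ShStab.twist X L G d) :=
      (EulerLib.isCoh_twist (AmpleLib.isInvertible_tensorPow hL d) hG).1
    let Lb := CohB1.tensorPow ((Scheme.Modules.pullback b).obj L) d
    have hLb : PicF.IsInvertible Lb := AmpleLib.isInvertible_tensorPow (PicLoc.isInvertible_pullback b hL) d
    haveI : Coh.IsQCoh Lb := AmpleLib.isQCoh_of_isInvertible hLb
    let M := ShStab.twist P ((Scheme.Modules.pullback b).obj L) GA d
    have hM : Coh.IsCoh M := EulerLib.isCoh_twist hLb hGA
    have hMfl : FlatMod.IsFlatOver pA M :=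
      fun x => EGA43.DvrCrit.isFlatOverAt_of_iso pA (AmpleLib.tensorComm Lb GA) x
        (isFlatOver_tensor pA (isFinLocFree_of_invertible hLb) hflA x)
    obtain ⟨e⟩ := EulerLib.nonempty_twist_pullback b hL G d
    let y := W.isoSpec.hom w
    have hy : (c ≫ j i) y = j i ((𝒰 i).f m w) := by
      show j i ((𝒰 i).f m (W.isoSpec.inv (W.isoSpec.hom w))) = _
      rw [← Scheme.Hom.comp_apply W.isoSpec.hom W.isoSpec.inv, Iso.hom_inv_id]
      rfl
    rw [← hy, ← fiberRank_pullback hsq (ShStab.twist X L G d) p y]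
    refine Eq.trans ?_ (fiberRank_eq_zero_of_subsingleton_HH hM hMfl (hN d hd) y p hp)
    exact finrank_HH_congr ((Spec (CommRingCat.of Γ(W, ⊤))).residueField y)
      ((Scheme.Modules.pullback (pA.fiberι y)).mapIso e) p
  choose N hN using key
  refine ⟨Finset.univ.sup N, fun d hd p hp s => ?_⟩
  obtain ⟨i, z, rfl⟩ := hcov s
  obtain ⟨m, w, hw⟩ := (𝒰 i).exists_eq z
  rw [← hw]
  exact hN ⟨i, m⟩ d ((Finset.le_sup (Finset.mem_univ _)).trans hd) p hp w

end Groth.Agent.Coherent.CohBC
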