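import Groth.Agent.Coherent.CohBC.TwistBC
import Groth.Agent.Coherent.CohBC.UniformVanish
import Groth.Agent.Coherent.CohBC.PushStructure

/-!
# High twists commute with base change to fields, uniformly

For `X` proper and flat over a Noetherian ring `A` with ample `L` and a coherent `F`, one bound works for all
fields over `A`: sections of the twists commute with base change and the higher cohomology of the fibres vanishes.
-/

set_option autoImplicit false
set_option backward.isDefEq.respectTransparency false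
set_option linter.style.haveILetI false

universe u

open CategoryTheory CategoryTheory.Limits AlgebraicGeometry Opposite TopologicalSpace TensorProduct Function
open Groth.Agent.Coherent Groth.Agent.PicLib Groth.Agent.AmpleLib

namespace Groth.Agent.Coherent.CohBC

variable {A : Type u} [CommRing A] {X : Scheme.{u}} [X.Over (Spec (CommRingCat.of A))]

/-- An acyclic flat family stays acyclic after any base change. -/
theorem subsingleton_HH_pullback_of_acyclic [IsSeparated (X ↘ Spec (CommRingCat.of A))]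
    [QuasiCompact (X ↘ Spec (CommRingCat.of A))] (F : X.Modules) [Coh.IsQCoh F]
    (hfl : FlatMod.IsFlatOver (X ↘ Spec (CommRingCat.of A)) F)
    (hvH : ∀ p : ℕ, 0 < p → Subsingleton (Coh.HH X F p))
    {B : Type u} [CommRing B] (φ : A →+* B) {X' : Scheme.{u}} [X'.Over (Spec (CommRingCat.of B))]
    (g : X' ⟶ X)
    (h : IsPullback g (X' ↘ Spec (CommRingCat.of B)) (X ↘ Spec (CommRingCat.of A))
      (Spec.map (CommRingCat.ofHom φ))) (p : ℕ) (hp : 0 < p) :
    Subsingleton (Coh.HH X' ((Scheme.Modules.pullback g).obj F) p) := by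
  classical
  obtain ⟨ι, _, W, hcov, hW⟩ := exists_affine_cover A X
  have hsub : ∀ m : ℕ, 0 < m → Subsingleton ((cxA A W F).homology m) := fun m hm => by
    have := hvH m hm
    exact (hhCech A W hcov hW F m).symm.toEquiv.subsingleton
  have hzero : ∀ n, IsZero ((cxA A W F).homology (n + 1)) := fun n =>
    ModuleCat.isZero_iff_subsingleton.mpr (hsub _ n.succ_pos)
  have hH : ∀ m, Module.Flat A ((cxA A W F).homology m) := fun m => by
    rcases m.eq_zero_or_pos with rfl | hm
    · have := flat_sections_top F hfl hvH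
      let e : Coh.HH X F 0 ≃ₗ[A] Γ(F, ⊤) :=
        { globalEquiv A F with
          map_smul' := fun a x => by
            refine (globalEquiv_smul F a x).trans ?_
            refine congrArg (fun r : Γ(X, ⊤) => r • (show Γ(F, ⊤) from globalEquiv A F x)) ?_
            exact (ConcreteCategory.congr_hom (X.presheaf.map_id (op (⊤ : X.Opens))) _).symm }
      exact Module.Flat.of_linearEquiv ((hhCech A W hcov hW F 0).symm.trans e)
    · have := hsub m hm
      infer_instance
  obtain ⟨e⟩ := nonempty_homology_tensor_nat (cxA A W F) (flat_cxA W F hfl hW) (Nat.card ι)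
    (fun m hm M => isZero_T_cxA W F hW hcov m hm M) hH p
    ((ModuleCat.restrictScalars φ).obj (ModuleCat.of B B))
  have := hsub p hp
  have hT : Subsingleton (CohIII.T (cxA A W F) p ((ModuleCat.restrictScalars φ).obj (ModuleCat.of B B))) :=
    e.symm.toEquiv.subsingleton
  have hbc : Subsingleton ((CohIII.bcCx φ (cxA A W F)).homology p) :=
    ((bcHomologyIso φ (cxA A W F) p).toLinearEquiv.symm.toEquiv).subsingleton
  let W' := fun i => g ⁻¹ᵁ W i
  have hgaff : IsAffineHom g := MorphismProperty.of_isPullback (P := @IsAffineHom) h.flip inferInstance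
  have hW' : ∀ (q : ℕ) (a : Fin (q + 1) → ι), IsAffineOpen (cinter W' a) :=
    fun q a => by rw [cinter_pull]; exact (hW q a).preimage g
  have hcov' : ⨆ i, W' i = ⊤ := by
    rw [← Scheme.Hom.preimage_iSup, hcov, Scheme.Hom.preimage_top]
  have : Coh.IsQCoh ((Scheme.Modules.pullback g).obj F) := EGA43.InjFibre.isQCoh_pullback g F
  have : Subsingleton ((cxA B W' ((Scheme.Modules.pullback g).obj F)).homology p) :=
    (HomologicalComplex.homologyMapIso (cxBCIso φ g h W hW F) p).toLinearEquiv.symm.toEquiv.subsingleton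
  exact (hhCech B W' hcov' hW' ((Scheme.Modules.pullback g).obj F) p).toEquiv.subsingleton

/-- Bijectivity only depends on the morphism. -/
theorem bijective_secBC_congr {B : Type u} [CommRing B] (φ : A →+* B) {X' : Scheme.{u}}
    [X'.Over (Spec (CommRingCat.of B))] {g g' : X' ⟶ X} (e : g = g')
    (h : IsPullback g (X' ↘ Spec (CommRingCat.of B)) (X ↘ Spec (CommRingCat.of A))
      (Spec.map (CommRingCat.ofHom φ)))
    (h' : IsPullback g' (X' ↘ Spec (CommRingCat.of B)) (X ↘ Spec (CommRingCat.of A))
      (Spec.map (CommRingCat.ofHom φ))) (F : X.Modules) (hb : Bijective (secBC φ g h F ⊤)) :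
    Bijective (secBC φ g' h' F ⊤) := by
  subst e
  exact hb

/-- A field point factors through a preimmersion whose image contains its point. -/
theorem exists_lift_field_point {S W : Scheme.{u}} (c : W ⟶ S) [IsPreimmersion c] {K : Type u} [Field K]
    (q : Spec (CommRingCat.of K) ⟶ S) (w : W) (hw : c w = q (IsLocalRing.closedPoint K)) :
    ∃ q' : Spec (CommRingCat.of K) ⟶ W, q' ≫ c = q := by
  obtain ⟨⟨s, f⟩, hq⟩ := (Scheme.SpecToEquivOfField K S).symm.surjective q
  subst hq
  haveI := isIso_residueFieldMap_of_isPreimmersion c w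
  have hs : c w = s := by
    rw [hw]
    show (Spec.map f ≫ S.fromSpecResidueField s) _ = s
    rw [Scheme.Hom.comp_apply, Scheme.fromSpecResidueField_apply]
  subst hs
  refine ⟨Spec.map (inv (c.residueFieldMap w) ≫ f) ≫ W.fromSpecResidueField w, ?_⟩
  show _ = Spec.map f ≫ S.fromSpecResidueField (c w)
  rw [Category.assoc, ← Scheme.Hom.SpecMap_residueFieldMap_fromSpecResidueField, ← Spec.map_comp_assoc,
    IsIso.hom_inv_id_assoc]

variable [IsNoetherianRing A] [IsProper (X ↘ Spec (CommRingCat.of A))] [Flat (X ↘ Spec (CommRingCat.of A))]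
  {L : X.Modules}

/-- One bound for all fields: twisted sections commute with base change, higher cohomology vanishes. -/
theorem exists_uniform_field (hL : CohB1.IsAmple L) (F : X.Modules) (hF : Coh.IsCoh F) :
    ∃ N : ℕ, ∀ r : ℕ, N ≤ r → ∀ (K : Type u) [Field K] (ψ : A →+* K) (P : Scheme.{u})
      [P.Over (Spec (CommRingCat.of K))] (g : P ⟶ X)
      (h : IsPullback g (P ↘ Spec (CommRingCat.of K)) (X ↘ Spec (CommRingCat.of A))
        (Spec.map (CommRingCat.ofHom ψ))),
      Bijective (secBC ψ g h (CohB1.tensorMod F (CohB1.tensorPow L r)) ⊤) ∧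
      ∀ p : ℕ, 0 < p → Subsingleton
        (Coh.HH P ((Scheme.Modules.pullback g).obj (CohB1.tensorMod F (CohB1.tensorPow L r))) p) := by
  classical
  let f := X ↘ Spec (CommRingCat.of A)
  let S := Spec (CommRingCat.of A)
  haveI : IsLocallyNoetherian X := LocallyOfFiniteType.isLocallyNoetherian f
  haveI := hF.1
  haveI : LocallyOfFinitePresentation f := LocallyOfFinitePresentation.iff_locallyOfFiniteType.2 inferInstance
  have hLi : PicF.IsInvertible L := (isAmple_iff_affGlocus.1 hL).1
  obtain ⟨t, I, -, hlast, h0, -, hflat⟩ := Groth.Agent.S1455.result f F hF.1 (isFP_of_isCoh hF)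
  let Z : Fin t → Scheme.{u} := fun i => ((I i.castSucc).subschemeι ⁻¹ᵁ (I i.succ).support.compl).toScheme
  let j : ∀ i : Fin t, Z i ⟶ S :=
    fun i => ((I i.castSucc).subschemeι ⁻¹ᵁ (I i.succ).support.compl).ι ≫ (I i.castSucc).subschemeι
  have hcov : ∀ s : S, ∃ (i : Fin t) (z : _), j i z = s := by
    intro s
    by_contra hne
    have hall : ∀ i : Fin (t + 1), s ∈ ((I i).support : Set S) := by
      refine Fin.induction (by rw [h0]; trivial) fun i hi => ?_
      by_contra hc
      obtain ⟨w, hw⟩ : s ∈ Set.range (I i.castSucc).subschemeι := by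
        rw [Scheme.IdealSheafData.range_subschemeι]; exact hi
      refine hne ⟨i, ⟨w, ?_⟩, hw⟩
      show (I i.castSucc).subschemeι w ∈ ((I i.succ).support.compl : Set S)
      rw [hw]; exact hc
    have := hall (Fin.last t)
    rw [hlast, Scheme.IdealSheafData.support_top] at this
    exact this
  haveI : ∀ i, IsLocallyNoetherian (Z i) := fun i => LocallyOfFiniteType.isLocallyNoetherian (j i)
  haveI : ∀ i, CompactSpace (Z i) := fun i => by
    haveI : NoetherianSpace (I i.castSucc).subscheme :=
      (I i.castSucc).subschemeι.isEmbedding.toIsInducing.noetherianSpace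
    exact isCompact_iff_compactSpace.mp (NoetherianSpace.isCompact _)
  let 𝒰 : ∀ i, (Z i).OpenCover := fun i => (Z i).affineCover.finiteSubcover
  have key : ∀ q : Σ i, (𝒰 i).I₀, ∃ N : ℕ, ∀ r : ℕ, N ≤ r → ∀ (K : Type u) [Field K] (ψ : A →+* K)
      (w : (𝒰 q.1).X q.2), ((𝒰 q.1).f q.2 ≫ j q.1) w = Spec.map (CommRingCat.ofHom ψ) (IsLocalRing.closedPoint K) →
      ∀ (P : Scheme.{u}) [P.Over (Spec (CommRingCat.of K))] (g : P ⟶ X)
        (h : IsPullback g (P ↘ Spec (CommRingCat.of K)) f (Spec.map (CommRingCat.ofHom ψ))),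
      Bijective (secBC ψ g h (CohB1.tensorMod F (CohB1.tensorPow L r)) ⊤) ∧
      ∀ p : ℕ, 0 < p → Subsingleton
        (Coh.HH P ((Scheme.Modules.pullback g).obj (CohB1.tensorMod F (CohB1.tensorPow L r))) p) := by
    rintro ⟨i, m⟩
    let W := (𝒰 i).X m
    haveI : IsAffine W := inferInstanceAs (IsAffine ((Z i).affineCover.finiteSubcover.X m))
    haveI : IsLocallyNoetherian W := LocallyOfFiniteType.isLocallyNoetherian ((𝒰 i).f m)
    haveI : IsNoetherianRing Γ(W, ⊤) := IsLocallyNoetherian.component_noetherian ⟨⊤, isAffineOpen_top W⟩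
    let B := Γ(W, ⊤)
    let c : Spec (CommRingCat.of B) ⟶ Z i := W.isoSpec.inv ≫ (𝒰 i).f m
    let φ : A →+* B := (Spec.preimage (c ≫ j i)).hom
    have hφ : Spec.map (CommRingCat.ofHom φ) = c ≫ j i := Spec.map_preimage _
    let Q := pullback (pullback.snd f (j i)) c
    let a : Q ⟶ pullback f (j i) := pullback.fst _ _
    letI : Q.Over (Spec (CommRingCat.of B)) := ⟨pullback.snd _ _⟩
    let pB := Q ↘ Spec (CommRingCat.of B)
    let b : Q ⟶ X := a ≫ pullback.fst f (j i)
    have hsqZ : IsPullback a pB (pullback.snd f (j i)) c := IsPullback.of_hasPullback _ _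
    have hsq : IsPullback b pB f (Spec.map (CommRingCat.ofHom φ)) :=
      hφ ▸ hsqZ.paste_horiz (IsPullback.of_hasPullback f (j i))
    haveI : IsProper pB := MorphismProperty.of_isPullback (P := @IsProper) hsq inferInstance
    haveI : IsLocallyNoetherian Q := LocallyOfFiniteType.isLocallyNoetherian pB
    haveI : IsAffineHom b := MorphismProperty.of_isPullback (P := @IsAffineHom) hsq.flip inferInstance
    have hb : CohB1.IsAmple ((Scheme.Modules.pullback b).obj L) := isAmple_pullback_of_isAffineHom b hL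
    let FB := (Scheme.Modules.pullback b).obj F
    have hFB : Coh.IsCoh FB := ZClosLib.isCoh_pullback b F hF
    have hflB : FlatMod.IsFlatOver pB FB :=
      fun x => EGA43.DvrCrit.isFlatOverAt_of_iso pB ((Scheme.Modules.pullbackComp a (pullback.fst f (j i))).app F) x <|
        Desc19b.isFlatOverAt_baseChange _ pB a c hsqZ _ x (hflat i _)
    obtain ⟨N₁, hN₁⟩ := exists_bijective_secBC_twist φ b hsq hL F hF
    obtain ⟨N₂, hN₂⟩ := Serre.exists_subsingleton_HH_twist B hb FB hFB
    refine ⟨max N₁ N₂, fun r hr K _ ψ w hw P _ g h => ?_⟩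
    let G := CohB1.tensorMod F (CohB1.tensorPow L r)
    let GB := (Scheme.Modules.pullback b).obj G
    obtain ⟨eT⟩ := EulerLib.nonempty_twist_pullback b hLi F r
    have hT : PicF.IsInvertible (CohB1.tensorPow L r) := AmpleLib.isInvertible_tensorPow hLi r
    haveI : Coh.IsQCoh G := (EulerLib.isCoh_twist hT hF).1
    haveI : Coh.IsQCoh GB := EGA43.InjFibre.isQCoh_pullback b G
    let Lb := CohB1.tensorPow ((Scheme.Modules.pullback b).obj L) r
    have hLb : PicF.IsInvertible Lb :=
      AmpleLib.isInvertible_tensorPow (PicLoc.isInvertible_pullback b hLi) r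
    haveI : Coh.IsQCoh Lb := AmpleLib.isQCoh_of_isInvertible hLb
    have hGfl : FlatMod.IsFlatOver pB GB := fun x => EGA43.DvrCrit.isFlatOverAt_of_iso pB eT.symm x
      (EGA43.DvrCrit.isFlatOverAt_of_iso pB (AmpleLib.tensorComm Lb FB) x
        (isFlatOver_tensor pB (isFinLocFree_of_invertible hLb) hflB x))
    have hGv : ∀ p : ℕ, 0 < p → Subsingleton (Coh.HH Q GB p) := fun p hp =>
      Serre.HH_subsingleton_of_iso (A := B) eT.symm p (hN₂ r (le_of_max_le_right hr) p hp)
    haveI : IsPreimmersion ((𝒰 i).f m ≫ j i) := inferInstance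
    obtain ⟨q', hq'⟩ := exists_lift_field_point ((𝒰 i).f m ≫ j i) (Spec.map (CommRingCat.ofHom ψ)) w hw
    let χ : B →+* K := (Spec.preimage (q' ≫ W.isoSpec.hom)).hom
    have hχ : Spec.map (CommRingCat.ofHom χ) ≫ (c ≫ j i) = Spec.map (CommRingCat.ofHom ψ) := by
      rw [show Spec.map (CommRingCat.ofHom χ) = q' ≫ W.isoSpec.hom from Spec.map_preimage _]
      simp only [c, Category.assoc, Iso.hom_inv_id_assoc]
      exact hq'
    have hψ : χ.comp φ = ψ := by
      have e : Spec.map (CommRingCat.ofHom (χ.comp φ)) = Spec.map (CommRingCat.ofHom ψ) := by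
        rw [CommRingCat.ofHom_comp, Spec.map_comp, hφ]
        exact hχ
      exact congrArg CommRingCat.Hom.hom (Spec.map_injective e)
    subst hψ
    let g₁ : P ⟶ Q := hsq.lift g ((P ↘ Spec (CommRingCat.of K)) ≫ Spec.map (CommRingCat.ofHom χ))
      (by rw [Category.assoc, h.w, CommRingCat.ofHom_comp, Spec.map_comp])
    have hg₁ : g₁ ≫ b = g := hsq.lift_fst _ _ _
    have hsq₁ : IsPullback g₁ (P ↘ Spec (CommRingCat.of K)) pB (Spec.map (CommRingCat.ofHom χ)) := by
      refine IsPullback.of_right ?_ (hsq.lift_snd _ _ _) hsq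
      rw [hg₁, ← Spec.map_comp]
      exact h
    refine ⟨bijective_secBC_congr _ hg₁ _ h G (bijective_secBC_comp φ b hsq χ g₁ hsq₁ G
      (hN₁ r (le_of_max_le_left hr)) (bijective_secBC_top GB hGfl hGv χ g₁ hsq₁)), fun p hp => ?_⟩
    exact Serre.HH_subsingleton_of_iso (A := K) ((Scheme.Modules.pullbackComp g₁ b).app G ≪≫
      (Scheme.Modules.pullbackCongr hg₁).app G) p
      (subsingleton_HH_pullback_of_acyclic GB hGfl hGv χ g₁ hsq₁ p hp)
  choose N hN using key
  refine ⟨Finset.univ.sup N, fun r hr K _ ψ P _ g h => ?_⟩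
  obtain ⟨i, z, hz⟩ := hcov (Spec.map (CommRingCat.ofHom ψ) (IsLocalRing.closedPoint K))
  obtain ⟨m, w, hw⟩ := (𝒰 i).exists_eq z
  exact hN ⟨i, m⟩ r ((Finset.le_sup (Finset.mem_univ _)).trans hr) K ψ w
    (by rw [Scheme.Hom.comp_apply, hw, hz]) P g h

end Groth.Agent.Coherent.CohBC
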